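import Mathlib
import Cfsg.Agent.Lib.Classical.Quad.Std

/-!
The Frobenius semilinear map of an anisotropic binary form and its `f`-th iterate, a reflection.
-/

set_option autoImplicit false

namespace CfsgLib.AutPOmega

open QuadraticMap Module CfsgLib.Classical.Quad

variable {F : Type*} [Field F] [Fintype F]

/-- An element outside the image of `t ↦ t² + t` has non-zero absolute trace. -/
theorem trace_sum_ne_zero [CharP F 2] {f : ℕ} (hF : Fintype.card F = 2 ^ f) {β : F}
    (hβ : ∀ t : F, t ^ 2 + t ≠ β) : ∑ j ∈ Finset.range f, β ^ 2 ^ j ≠ 0 := by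
  classical
  intro h0
  have hf : f ≠ 0 := by
    rintro rfl
    have := Fintype.one_lt_card (α := F)
    simp at hF
    omega
  let S : Polynomial F := ∑ j ∈ Finset.range f, Polynomial.X ^ 2 ^ j
  have heval : ∀ x : F, S.eval x = ∑ j ∈ Finset.range f, x ^ 2 ^ j := fun x => by
    simp [S, Polynomial.eval_finset_sum]
  let h : F →+ F := AddMonoidHom.mk' (fun t => t ^ 2 + t) fun a b => by
    rw [CharTwo.add_sq]; abel
  have hker : ∀ x : F, x ∈ h.ker ↔ x = 0 ∨ x = 1 := fun x => by
    rw [AddMonoidHom.mem_ker]
    show x ^ 2 + x = 0 ↔ _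
    constructor
    · intro hx
      have : x * (x + 1) = 0 := by linear_combination hx
      exact (mul_eq_zero.1 this).imp id fun h1 => CharTwo.add_eq_zero.1 h1
    · rintro (rfl | rfl) <;> simp [CharTwo.add_self_eq_zero]
  have hk2 : Nat.card h.ker = 2 := by
    rw [Nat.card_eq_two_iff]
    refine ⟨⟨0, (hker 0).2 (Or.inl rfl)⟩, ⟨1, (hker 1).2 (Or.inr rfl)⟩,
      fun e => zero_ne_one (congrArg Subtype.val e), Set.eq_univ_of_forall fun x => ?_⟩
    rcases (hker x.1).1 x.2 with e | e
    · exact Or.inl (Subtype.ext e)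
    · exact Or.inr (Subtype.ext e)
  have himg : ∀ y ∈ h.range, S.eval y = 0 := by
    rintro _ ⟨t, rfl⟩
    rw [heval]
    show ∑ j ∈ Finset.range f, (t ^ 2 + t) ^ 2 ^ j = 0
    simp only [add_pow_char_pow, ← pow_mul, ← pow_succ']
    rw [Finset.sum_add_distrib]
    have e : ∀ k, (∑ j ∈ Finset.range k, t ^ 2 ^ (j + 1)) + ∑ j ∈ Finset.range k, t ^ 2 ^ j =
        t ^ 2 ^ k + t := by
      intro k
      induction k with
      | zero => simp [CharTwo.add_self_eq_zero]
      | succ k ih =>
        rw [Finset.sum_range_succ, Finset.sum_range_succ, add_add_add_comm, ih,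
          add_comm (t ^ 2 ^ (k + 1)) (t ^ 2 ^ k)]
        linear_combination (CharTwo.add_self_eq_zero (t ^ 2 ^ k))
    rw [e, ← hF, FiniteField.pow_card, CharTwo.add_self_eq_zero]
  have hS0 : S ≠ 0 := by
    intro h1
    have hc := congrArg (fun P : Polynomial F => P.coeff 1) h1
    simp only [S, Polynomial.finset_sum_coeff, Polynomial.coeff_X_pow, Polynomial.coeff_zero] at hc
    rw [Finset.sum_eq_single 0 (fun j _ hj => by
      rw [if_neg]
      intro hh
      exact hj ((Nat.pow_eq_one.1 hh.symm).resolve_left (by omega)))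
      (fun h2 => absurd (Finset.mem_range.2 (Nat.pos_of_ne_zero hf)) h2)] at hc
    simp at hc
  have hdeg : S.natDegree ≤ 2 ^ (f - 1) := by
    refine Polynomial.natDegree_sum_le_of_forall_le _ _ fun j hj => ?_
    rw [Polynomial.natDegree_X_pow]
    exact Nat.pow_le_pow_right (by norm_num) (by have := Finset.mem_range.1 hj; omega)
  let T : Finset F := Finset.univ.filter (fun y => y ∈ h.range)
  have hT : T.card = Nat.card h.range := by
    rw [Nat.card_eq_fintype_card, Fintype.card_subtype]
  have hsub : insert β T ⊆ S.roots.toFinset := by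
    intro y hy
    rw [Multiset.mem_toFinset, Polynomial.mem_roots hS0]
    rcases Finset.mem_insert.1 hy with rfl | hy
    · rw [Polynomial.IsRoot, heval, h0]
    · exact himg y (Finset.mem_filter.1 hy).2
  have hnot : β ∉ T := fun hy => by
    obtain ⟨t, ht⟩ := (Finset.mem_filter.1 hy).2
    exact hβ t ht
  have h1 := (Finset.card_le_card hsub).trans
    ((Multiset.toFinset_card_le _).trans ((Polynomial.card_roots' S).trans hdeg))
  rw [Finset.card_insert_of_notMem hnot, hT] at h1
  have h2 : Nat.card h.range * 2 = 2 ^ f := by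
    rw [← hF, ← Nat.card_eq_fintype_card, ← hk2,
      AddSubgroup.card_eq_card_quotient_mul_card_addSubgroup h.ker,
      Nat.card_congr (QuotientAddGroup.quotientKerEquivRange h).toEquiv]
  obtain ⟨k, rfl⟩ : ∃ k, f = k + 1 := ⟨f - 1, by omega⟩
  rw [pow_succ] at h2
  rw [Nat.add_sub_cancel] at h1
  omega

variable {a b : F}

theorem binForm_disc_apply : binForm a b ![a, -2] = 4 * b - a ^ 2 := by
  simp [binForm_apply]
  ring

theorem refl_bin_apply (hab : IsAniso a b) (x : Fin 2 → F) :
    (refl (binForm a b) ![a, -2]).1 x = ![x 0 + a * x 1, -x 1] := by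
  have hd := hab.disc
  have hc : polar (binForm a b) x ![a, -2] = -(4 * b - a ^ 2) * x 1 := by
    simp [polar_binForm]
    ring
  rw [refl_apply, binForm_disc_apply, hc, neg_mul, neg_div, neg_neg, mul_div_cancel_left₀ _ hd]
  funext i
  fin_cases i <;> simp <;> ring

/-- The binary form has a Frobenius semilinear map whose `f`-th iterate is a reflection. -/
theorem exists_bin_frobenius (p f : ℕ) [Fact p.Prime] [CharP F p] (hF : Fintype.card F = p ^ f)
    (hab : IsAniso a b) :
    ∃ ρ : (Fin 2 → F) → (Fin 2 → F), (∀ x y, ρ (x + y) = ρ x + ρ y) ∧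
      (∀ (c : F) x, ρ (c • x) = c ^ p • ρ x) ∧
      (∀ x, binForm a b (ρ x) = binForm a b x ^ p) ∧
      ∀ x, ρ^[f] x = (refl (binForm a b) ![a, -2]).1 x := by
  have hd := hab.disc
  rcases Nat.Prime.eq_two_or_odd' (Fact.out : p.Prime) with rfl | hp
  · -- characteristic two
    have h2 : (2 : F) = 0 := CharTwo.two_eq_zero
    have ha : a ≠ 0 := fun ha => hd (by rw [ha]; linear_combination (2 * b) * h2)
    refine ⟨fun z => ![z 0 ^ 2 + b * z 1 ^ 2, a * z 1 ^ 2], fun x y => ?_, fun c x => ?_,
      fun x => ?_, fun x => ?_⟩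
    · funext i
      fin_cases i <;> simp [CharTwo.add_sq] <;> ring
    · funext i
      fin_cases i <;> simp <;> ring
    · simp [binForm_apply]
      linear_combination (a ^ 2 * b * x 1 ^ 4 - a * x 0 * x 1 * (x 0 ^ 2 + b * x 1 ^ 2)
        ) * h2
    · set β := b / a ^ 2 with hβ
      have hiter : ∀ j, (fun z : Fin 2 → F => ![z 0 ^ 2 + b * z 1 ^ 2, a * z 1 ^ 2])^[j] x =
          ![x 0 ^ 2 ^ j + a * (∑ i ∈ Finset.range j, β ^ 2 ^ i) * (a ^ (2 ^ j - 1) * x 1 ^ 2 ^ j),
            a ^ (2 ^ j - 1) * x 1 ^ 2 ^ j] := by
        intro j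
        induction j with
        | zero =>
          funext i
          fin_cases i <;> simp
        | succ j ih =>
          rw [Function.iterate_succ_apply', ih]
          have hpow : a ^ (2 ^ (j + 1) - 1) = a * (a ^ (2 ^ j - 1)) ^ 2 := by
            rw [← pow_mul, ← pow_succ']
            congr 1
            have := Nat.one_le_two_pow (n := j)
            rw [pow_succ]
            omega
          have hsum : ∑ i ∈ Finset.range (j + 1), β ^ 2 ^ i =
              (∑ i ∈ Finset.range j, β ^ 2 ^ i) ^ 2 + β := by
            rw [Finset.sum_range_succ', CharTwo.sum_sq, pow_zero, pow_one]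
            congr 1
            exact Finset.sum_congr rfl fun i _ => by rw [← pow_mul, pow_succ]
          rw [hpow, hsum]
          simp only [Matrix.cons_val_zero, Matrix.cons_val_one, CharTwo.add_sq, pow_succ 2 j,
            pow_mul]
          funext i
          fin_cases i
          · simp only [Fin.zero_eta, Fin.isValue, Matrix.cons_val_zero, hβ]
            field_simp
            ring
          · simp only [Fin.mk_one, Fin.isValue, Matrix.cons_val_zero, Matrix.cons_val_one]
            ring
      rw [hiter, ← hF, FiniteField.pow_card_sub_one_eq_one a ha, FiniteField.pow_card,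
        FiniteField.pow_card, one_mul]
      set S := ∑ i ∈ Finset.range f, β ^ 2 ^ i with hS
      have hS1 : S = 1 := by
        have hne : S ≠ 0 := trace_sum_ne_zero hF fun t ht => by
          refine one_ne_zero (hab (a * t) 1 ?_).2
          rw [hβ, eq_div_iff (pow_ne_zero 2 ha)] at ht
          linear_combination ht + b * h2
        have hsq : S ^ 2 = S := by
          rw [hS, CharTwo.sum_sq]
          have e := Finset.sum_range_succ' (fun i => β ^ 2 ^ i) f
          rw [Finset.sum_range_succ, ← hF, FiniteField.pow_card, pow_zero, pow_one] at e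
          rw [Finset.sum_congr rfl fun i _ =>
            show (β ^ 2 ^ i) ^ 2 = β ^ 2 ^ (i + 1) by rw [← pow_mul, ← pow_succ]]
          exact (add_right_cancel e).symm
        exact mul_left_cancel₀ hne (by rw [mul_one, ← pow_two, hsq])
      rw [hS1, mul_one, refl_bin_apply hab, CharTwo.neg_eq]
  · -- odd characteristic
    obtain ⟨k, hk⟩ := hp
    have h2 : (2 : F) ≠ 0 := by
      intro h0
      have : p ∣ 2 := (CharP.cast_eq_zero_iff F p 2).1 (by exact_mod_cast h0)
      have := Nat.le_of_dvd (by norm_num) this
      have := (Fact.out : p.Prime).two_le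
      omega
    set D := b - a ^ 2 / 4 with hD
    set κ := (-D) ^ k with hκ
    refine ⟨fun z => ![(z 0 + a / 2 * z 1) ^ p - a / 2 * (κ * z 1 ^ p), κ * z 1 ^ p],
      fun x y => ?_, fun c x => ?_, fun x => ?_, fun x => ?_⟩
    · funext i
      fin_cases i <;> simp [mul_add, add_add_add_comm, add_pow_char] <;> ring
    · funext i
      fin_cases i <;> simp [mul_pow] <;> ring_nf
      rw [show c * x 0 + c * a * 2⁻¹ * x 1 = c * (x 0 + a * 2⁻¹ * x 1) by ring, mul_pow]
    · have h4 : (4 : F) ≠ 0 := by rw [show (4 : F) = 2 * 2 by norm_num]; exact mul_ne_zero h2 h2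
      have hsplit : ∀ z : Fin 2 → F, binForm a b z = (z 0 + a / 2 * z 1) ^ 2 + D * z 1 ^ 2 :=
        fun z => by rw [binForm_apply, hD]; field_simp; ring
      rw [hsplit, hsplit x]
      simp only [Matrix.cons_val_zero, Matrix.cons_val_one, sub_add_cancel]
      conv_rhs => rw [add_pow_char _ _ p, mul_pow D, ← pow_mul (x 0 + a / 2 * x 1), ← pow_mul (x 1) 2 p]
      have hκ2 : D * κ ^ 2 = D ^ p := by
        rw [hκ, hk, ← pow_mul, pow_succ' D, mul_comm k 2, pow_mul, neg_sq, ← pow_mul]
      rw [← hκ2]
      ring
    · have hiter : ∀ j,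
          (fun z : Fin 2 → F =>
              ![(z 0 + a / 2 * z 1) ^ p - a / 2 * (κ * z 1 ^ p), κ * z 1 ^ p])^[j] x =
            ![(x 0 + a / 2 * x 1) ^ p ^ j - a / 2 *
                (κ ^ (∑ i ∈ Finset.range j, p ^ i) * x 1 ^ p ^ j),
              κ ^ (∑ i ∈ Finset.range j, p ^ i) * x 1 ^ p ^ j] := by
        intro j
        induction j with
        | zero =>
          funext i
          fin_cases i <;> simp
        | succ j ih =>
          rw [Function.iterate_succ_apply', ih]
          have hsum : ∑ i ∈ Finset.range (j + 1), p ^ i = (∑ i ∈ Finset.range j, p ^ i) * p + 1 := by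
            rw [Finset.sum_range_succ', Finset.sum_mul, pow_zero]
            simp only [pow_succ]
          simp only [Matrix.cons_val_zero, Matrix.cons_val_one, sub_add_cancel, hsum, pow_add,
            pow_one, pow_succ p j, pow_mul, mul_pow]
          funext i
          fin_cases i <;>
            simp only [Fin.zero_eta, Fin.isValue, Fin.mk_one, Matrix.cons_val_zero,
              Matrix.cons_val_one] <;> ring
      rw [hiter, ← hF, FiniteField.pow_card, FiniteField.pow_card]
      have hexp : κ ^ (∑ i ∈ Finset.range f, p ^ i) = -1 := by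
        have hns : ¬ IsSquare (-D) := by
          rintro ⟨t, ht⟩
          refine one_ne_zero (hab (t - a / 2) 1 ?_).2
          have h4 : (4 : F) ≠ 0 := by
            rw [show (4 : F) = 2 * 2 by norm_num]; exact mul_ne_zero h2 h2
          rw [hD] at ht
          field_simp at ht ⊢
          linear_combination -ht
        have hr : ringChar F ≠ 2 := fun h0 => h2 (by
          haveI := ringChar.of_eq h0
          exact CharTwo.two_eq_zero)
        have hD0 : -D ≠ 0 := fun h0 => hns ⟨0, by rw [h0, mul_zero]⟩
        rw [hκ, ← pow_mul]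
        have he : k * ∑ i ∈ Finset.range f, p ^ i = Fintype.card F / 2 := by
          have hg := geom_sum_mul_add (2 * k) f
          rw [← hk, ← hF] at hg
          rw [← hg, mul_comm (∑ i ∈ Finset.range f, p ^ i) (2 * k), mul_assoc]
          omega
        rw [he]
        rcases FiniteField.pow_dichotomy hr hD0 with h1 | h1
        · exact absurd ((FiniteField.isSquare_iff hr hD0).2 h1) hns
        · exact h1
      rw [hexp, refl_bin_apply hab]
      funext i
      fin_cases i <;> simp <;> field_simp <;> ring

end CfsgLib.AutPOmega
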