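import Mathlib
import Cfsg.Agent.Lib.Classical.Quad.Omega
import Cfsg.Agent.Lib.Classical.Quad.Index

/-!
Root elements of the totally singular lines of a quadratic space, and their images in the
central quotient of the Siegel group.
-/

set_option autoImplicit false

namespace CfsgLib.AutPOmega

open QuadraticMap Module CfsgLib.Classical.Quad

variable {F V : Type*} [Field F] [AddCommGroup V] [Module F V]
variable {Q : QuadraticForm F V}

attribute [local instance] _root_.Classical.propDecidable in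
/-- The Siegel transformation, extended by `1` to improper arguments. -/
noncomputable def sg (Q : QuadraticForm F V) (u w : V) : Orth Q :=
  if h : Q u = 0 ∧ polar Q u w = 0 then siegel Q u w h.1 h.2 else 1

theorem sg_eq {u w : V} (hu : Q u = 0) (hw : polar Q u w = 0) :
    sg Q u w = siegel Q u w hu hw := dif_pos ⟨hu, hw⟩

theorem sg_apply {u w : V} (hu : Q u = 0) (hw : polar Q u w = 0) (x : V) :
    (sg Q u w).1 x = x + polar Q x u • w + (-(polar Q x w) - Q w * polar Q x u) • u := by
  rw [sg_eq hu hw, siegel_apply]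

theorem sg_mem (u w : V) : sg Q u w ∈ siegelGroup Q := by
  unfold sg
  split_ifs with h
  · exact siegel_mem h.1 h.2
  · exact one_mem _

theorem sg_conj (g : Orth Q) (u w : V) : g * sg Q u w * g⁻¹ = sg Q (g.1 u) (g.1 w) := by
  by_cases h : Q u = 0 ∧ polar Q u w = 0
  · rw [sg_eq h.1 h.2, sg_eq (by rw [orth_Q, h.1]) (by rw [orth_polar, h.2]), siegel_conj]
  · have h' : ¬ (Q (g.1 u) = 0 ∧ polar Q (g.1 u) (g.1 w) = 0) := by rwa [orth_Q, orth_polar]
    unfold sg
    rw [dif_neg h, dif_neg h', mul_one, mul_inv_cancel]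

theorem sg_mul {u w w' : V} (hu : Q u = 0) (hw : polar Q u w = 0) (hw' : polar Q u w' = 0) :
    sg Q u w * sg Q u w' = sg Q u (w + w') := by
  rw [sg_eq hu hw, sg_eq hu hw', sg_eq hu (by rw [polar_add_right, hw, hw', add_zero]),
    siegel_mul hu hw hw']

theorem sg_zero {u : V} (hu : Q u = 0) : sg Q u 0 = 1 := by
  rw [sg_eq hu (by simp), siegel_zero hu]

theorem sg_add_smul {u w : V} (c : F) (hu : Q u = 0) (hw : polar Q u w = 0) :
    sg Q u (w + c • u) = sg Q u w := by
  rw [sg_eq hu (by simp [hw, polar_singular_self hu]), sg_eq hu hw, siegel_add_smul c hu hw]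

theorem sg_smul_left {u w : V} (c : F) (hu : Q u = 0) (hw : polar Q u w = 0) :
    sg Q (c • u) w = sg Q u (c • w) := by
  rw [sg_eq (by simp [QuadraticMap.map_smul, hu]) (by simp [hw]), sg_eq hu (by simp [hw]),
    siegel_smul_left c hu hw]

theorem sg_fix {u w x : V} (hu : Q u = 0) (hw : polar Q u w = 0) (h1 : polar Q x u = 0)
    (h2 : polar Q x w = 0) : (sg Q u w).1 x = x := by
  rw [sg_eq hu hw, siegel_fix hu hw h1 h2]

theorem sg_pow {u w : V} (hu : Q u = 0) (hw : polar Q u w = 0) (n : ℕ) :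
    sg Q u w ^ n = sg Q u ((n : F) • w) := by
  induction n with
  | zero => simp [sg_zero hu]
  | succ k ih =>
    rw [pow_succ, ih, sg_mul hu (by simp [hw]) hw, Nat.cast_succ, add_smul, one_smul]

theorem sg_pow_char (p : ℕ) [CharP F p] (u w : V) : sg Q u w ^ p = 1 := by
  by_cases h : Q u = 0 ∧ polar Q u w = 0
  · rw [sg_pow h.1 h.2, CharP.cast_eq_zero, zero_smul, sg_zero h.1]
  · unfold sg
    rw [dif_neg h, one_pow]

section ND

variable [FiniteDimensional F V] (hnd : NDPolar Q)
include hnd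

theorem exists_polar_family {ι : Type*} {v : ι → V} (hv : LinearIndependent F v) (a : ι → F) :
    ∃ x, ∀ i, polar Q (v i) x = a i := by
  obtain ⟨g, hg⟩ := LinearMap.exists_extend (Finsupp.linearCombination F a ∘ₗ hv.repr)
  obtain ⟨x, hx⟩ := exists_polar hnd g
  refine ⟨x, fun i => ?_⟩
  rw [polar_comm, hx]
  have h := LinearMap.congr_fun hg ⟨v i, Submodule.subset_span (Set.mem_range_self i)⟩
  simp only [LinearMap.coe_comp, Submodule.coe_subtype, Function.comp_apply] at h
  rw [hv.repr_eq_single i _ rfl] at h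
  simpa using h

/-- The parameters of a non-trivial Siegel element are determined up to the plane they span. -/
theorem span_of_sg_eq {u w u' w' : V} (hind : LinearIndependent F ![u, w]) (hu : Q u = 0)
    (hw : polar Q u w = 0) (hu' : Q u' = 0) (hw' : polar Q u' w' = 0)
    (h : sg Q u w = sg Q u' w') :
    u ∈ Submodule.span F {u', w'} ∧ w ∈ Submodule.span F {u', w'} := by
  have key : ∀ y, polar Q y u • w + (-(polar Q y w) - Q w * polar Q y u) • u ∈
      Submodule.span F {u', w'} := by
    intro y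
    have h1 := congrArg (fun g : Orth Q => g.1 y) h
    simp only [sg_apply hu hw, sg_apply hu' hw', add_assoc, add_right_inj] at h1
    rw [h1, Submodule.mem_span_pair]
    exact ⟨_, _, add_comm _ _⟩
  obtain ⟨y, h1, h2⟩ := exists_polar_pair hnd hind 0 1
  have hy := key y
  rw [polar_comm Q y u, polar_comm Q y w, h1, h2] at hy
  simp only [zero_smul, zero_add, mul_zero, sub_zero, neg_one_smul, Submodule.neg_mem_iff] at hy
  refine ⟨hy, ?_⟩
  obtain ⟨z, h3, h4⟩ := exists_polar_pair hnd hind 1 0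
  have hz := key z
  rw [polar_comm Q z u, polar_comm Q z w, h3, h4, one_smul] at hz
  have := Submodule.sub_mem _ hz (Submodule.smul_mem _ (-0 - Q w * 1) hy)
  simpa using this

theorem exists_smul_of_sg_eq_one {u w : V} (hu0 : u ≠ 0) (hu : Q u = 0) (hw : polar Q u w = 0)
    (h : sg Q u w = 1) : ∃ c : F, c • u = w := by
  by_contra hcon
  push Not at hcon
  have hind : LinearIndependent F ![u, w] := by
    rw [LinearIndependent.pair_iff' hu0]
    exact hcon
  obtain ⟨h1, -⟩ := span_of_sg_eq hnd hind hu hw (u' := 0) (w' := 0) (by simp) (by simp)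
    (h.trans (sg_zero (Q := Q) (u := 0) (by simp)).symm)
  simp at h1
  exact hu0 h1

theorem exists_smul_of_sg_eq {u a b : V} (hu0 : u ≠ 0) (hu : Q u = 0) (ha : polar Q u a = 0)
    (hb : polar Q u b = 0) (h : sg Q u a = sg Q u b) : ∃ c : F, c • u = a - b := by
  refine exists_smul_of_sg_eq_one hnd hu0 hu (by rw [polar_sub_right, ha, hb, sub_self]) ?_
  rw [sub_eq_add_neg, ← sg_mul hu ha (by simp [hb]), h,
    sg_mul hu hb (by simp [hb]), add_neg_cancel, sg_zero hu]

end ND

/-! ### Lines -/

/-- A totally singular line. -/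
def IsLine (Q : QuadraticForm F V) (L : Submodule F V) : Prop :=
  ∃ u w, LinearIndependent F ![u, w] ∧ Q u = 0 ∧ Q w = 0 ∧ polar Q u w = 0 ∧
    L = Submodule.span F {u, w}

theorem isLine_span {u w : V} (hind : LinearIndependent F ![u, w]) (hu : Q u = 0) (hw : Q w = 0)
    (huw : polar Q u w = 0) : IsLine Q (Submodule.span F {u, w}) :=
  ⟨u, w, hind, hu, hw, huw, rfl⟩

namespace IsLine

variable {L : Submodule F V} (hL : IsLine Q L)
include hL

theorem sing {x : V} (hx : x ∈ L) : Q x = 0 := by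
  obtain ⟨u, w, -, hu, hw, huw, rfl⟩ := hL
  obtain ⟨a, b, rfl⟩ := Submodule.mem_span_pair.1 hx
  simp [QuadraticMap.map_add Q, QuadraticMap.map_smul, hu, hw, huw]

theorem perp {x y : V} (hx : x ∈ L) (hy : y ∈ L) : polar Q x y = 0 := by
  simp [polar, hL.sing (L.add_mem hx hy), hL.sing hx, hL.sing hy]

theorem finrank_eq : finrank F L = 2 := by
  obtain ⟨u, w, hind, -, -, -, rfl⟩ := hL
  have h := finrank_span_eq_card hind
  rw [Matrix.range_cons, Matrix.range_cons, Matrix.range_empty, Set.union_empty,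
    Set.singleton_union] at h
  simpa using h

theorem finite_dim : FiniteDimensional F L :=
  FiniteDimensional.of_finrank_eq_succ hL.finrank_eq

theorem eq_span {x y : V} (hx : x ∈ L) (hy : y ∈ L) (hind : LinearIndependent F ![x, y]) :
    L = Submodule.span F {x, y} := by
  have := hL.finite_dim
  refine (Submodule.eq_of_le_of_finrank_eq ?_ ?_).symm
  · rw [Submodule.span_le]
    rintro z (rfl | rfl)
    · exact hx
    · exact hy
  · rw [hL.finrank_eq]
    have h := finrank_span_eq_card hind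
    rw [Matrix.range_cons, Matrix.range_cons, Matrix.range_empty, Set.union_empty,
      Set.singleton_union] at h
    simpa using h

theorem ne_bot : L ≠ ⊥ := fun h => by
  have := hL.finrank_eq
  rw [h, finrank_bot] at this
  omega

theorem exists_partner {x : V} (hx : x ∈ L) (hx0 : x ≠ 0) :
    ∃ y ∈ L, LinearIndependent F ![x, y] ∧ L = Submodule.span F {x, y} := by
  obtain ⟨y, hy, hyx⟩ : ∃ y ∈ L, y ∉ (F ∙ x) := by
    by_contra hcon
    push Not at hcon
    have h := Submodule.finrank_mono (show L ≤ F ∙ x from hcon)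
    rw [hL.finrank_eq, finrank_span_singleton hx0] at h
    omega
  have hind : LinearIndependent F ![x, y] := by
    rw [LinearIndependent.pair_iff' hx0]
    intro a ha
    exact hyx (ha ▸ Submodule.smul_mem _ a (Submodule.mem_span_singleton_self x))
  exact ⟨y, hy, hind, hL.eq_span hx hy hind⟩

end IsLine

/-- The root group of a line. -/
def rootSub (Q : QuadraticForm F V) (L : Submodule F V) : Subgroup (Orth Q) :=
  Subgroup.closure {g | ∃ u w, u ∈ L ∧ w ∈ L ∧ g = sg Q u w}

theorem sg_mem_rootSub {L : Submodule F V} {u w : V} (hu : u ∈ L) (hw : w ∈ L) :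
    sg Q u w ∈ rootSub Q L := Subgroup.subset_closure ⟨u, w, hu, hw, rfl⟩

theorem rootSub_le (L : Submodule F V) : rootSub Q L ≤ siegelGroup Q := by
  rw [rootSub, Subgroup.closure_le]
  rintro _ ⟨u, w, -, -, rfl⟩
  exact sg_mem u w

theorem sg_span_det {u w : V} (hu : Q u = 0) (hw : Q w = 0) (huw : polar Q u w = 0) (a b c d : F) :
    sg Q (a • u + b • w) (c • u + d • w) = sg Q u ((a * d - b * c) • w) := by
  have hwu : polar Q w u = 0 := by rw [polar_comm]; exact huw
  refine orth_ext fun x => ?_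
  rw [sg_apply (by simp [QuadraticMap.map_add Q, QuadraticMap.map_smul, hu, hw, huw])
    (by simp [hu, hw, huw, hwu, polar_singular_self]), sg_apply hu (by simp [huw])]
  simp only [polar_add_right, polar_smul_right, QuadraticMap.map_add Q, QuadraticMap.map_smul, hu,
    hw, huw, polar_smul_left, smul_eq_mul]
  module

theorem mem_rootSub_iff {L : Submodule F V} {u w : V} (hu : Q u = 0) (hw : Q w = 0)
    (huw : polar Q u w = 0) (hL : L = Submodule.span F {u, w}) {g : Orth Q} :
    g ∈ rootSub Q L ↔ ∃ t : F, g = sg Q u (t • w) := by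
  subst hL
  have huL : u ∈ Submodule.span F ({u, w} : Set V) := Submodule.subset_span (Set.mem_insert _ _)
  have hwL : w ∈ Submodule.span F ({u, w} : Set V) :=
    Submodule.subset_span (Set.mem_insert_of_mem _ rfl)
  refine ⟨fun hg => ?_, fun ⟨t, ht⟩ => ht ▸ sg_mem_rootSub huL (Submodule.smul_mem _ t hwL)⟩
  induction hg using Subgroup.closure_induction with
  | mem x hx =>
    obtain ⟨y, z, hy, hz, rfl⟩ := hx
    obtain ⟨a, b, rfl⟩ := Submodule.mem_span_pair.1 hy
    obtain ⟨c, d, rfl⟩ := Submodule.mem_span_pair.1 hz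
    exact ⟨_, sg_span_det hu hw huw a b c d⟩
  | one => exact ⟨0, by rw [zero_smul, sg_zero hu]⟩
  | mul x y _ _ hx hy =>
    obtain ⟨s, rfl⟩ := hx
    obtain ⟨t, rfl⟩ := hy
    exact ⟨s + t, by rw [sg_mul hu (by simp [huw]) (by simp [huw]), add_smul]⟩
  | inv x _ hx =>
    obtain ⟨s, rfl⟩ := hx
    refine ⟨-s, inv_eq_of_mul_eq_one_right ?_⟩
    rw [sg_mul hu (by simp [huw]) (by simp [huw]), ← add_smul, add_neg_cancel, zero_smul,
      sg_zero hu]

theorem rootSub_conj (g : Orth Q) (L : Submodule F V) :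
    (rootSub Q L).map (MulAut.conj g).toMonoidHom = rootSub Q (L.map (g.1 : V →ₗ[F] V)) := by
  rw [rootSub, rootSub, MonoidHom.map_closure]
  congr 1
  ext h
  constructor
  · rintro ⟨_, ⟨u, w, hu, hw, rfl⟩, rfl⟩
    exact ⟨g.1 u, g.1 w, Submodule.mem_map_of_mem hu, Submodule.mem_map_of_mem hw,
      (MulAut.conj_apply g _).trans (sg_conj g u w)⟩
  · rintro ⟨_, _, ⟨u, hu, rfl⟩, ⟨w, hw, rfl⟩, rfl⟩
    exact ⟨_, ⟨u, w, hu, hw, rfl⟩, (MulAut.conj_apply g _).trans (sg_conj g u w)⟩

theorem IsLine.pow_eq_one {L : Submodule F V} (hL : IsLine Q L) (p : ℕ) [CharP F p] {g : Orth Q}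
    (hg : g ∈ rootSub Q L) : g ^ p = 1 := by
  obtain ⟨u, w, -, hu, hw, huw, hLs⟩ := hL
  obtain ⟨t, rfl⟩ := (mem_rootSub_iff hu hw huw hLs).1 hg
  exact sg_pow_char p _ _

theorem IsLine.commute {L : Submodule F V} (hL : IsLine Q L) {g h : Orth Q}
    (hg : g ∈ rootSub Q L) (hh : h ∈ rootSub Q L) : g * h = h * g := by
  obtain ⟨u, w, -, hu, hw, huw, hLs⟩ := hL
  obtain ⟨s, rfl⟩ := (mem_rootSub_iff hu hw huw hLs).1 hg
  obtain ⟨t, rfl⟩ := (mem_rootSub_iff hu hw huw hLs).1 hh
  rw [sg_mul hu (by simp [huw]) (by simp [huw]), sg_mul hu (by simp [huw]) (by simp [huw]),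
    add_comm]

theorem IsLine.map {L : Submodule F V} (hL : IsLine Q L) (g : Orth Q) :
    IsLine Q (L.map (g.1 : V →ₗ[F] V)) := by
  obtain ⟨u, w, hind, hu, hw, huw, rfl⟩ := hL
  refine ⟨g.1 u, g.1 w, ?_, by rw [orth_Q, hu], by rw [orth_Q, hw], by rw [orth_polar, huw],
    by rw [Submodule.map_span, Set.image_pair]; rfl⟩
  rw [LinearIndependent.pair_iff] at hind ⊢
  intro a b h
  exact hind a b (g.1.injective (by simpa using h))

/-- A line stabiliser of a non-trivial root element is the stabiliser of the line. -/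
theorem map_eq_of_commute [FiniteDimensional F V] (hnd : NDPolar Q) {L : Submodule F V}
    (hL : IsLine Q L) {u w : V} (hu : u ∈ L) (hw : w ∈ L) (hind : LinearIndependent F ![u, w])
    {g : Orth Q} (h : g * sg Q u w = sg Q u w * g) : L.map (g.1 : V →ₗ[F] V) = L := by
  have h1 : sg Q (g.1 u) (g.1 w) = sg Q u w := by
    rw [← sg_conj, h, mul_inv_cancel_right]
  have hg := hL.map g
  obtain ⟨h2, h3⟩ := span_of_sg_eq hnd hind (hL.sing hu) (hL.perp hu hw)
    (hg.sing (Submodule.mem_map_of_mem hu))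
    (hg.perp (Submodule.mem_map_of_mem hu) (Submodule.mem_map_of_mem hw)) h1.symm
  have hind' : LinearIndependent F ![g.1 u, g.1 w] := by
    rw [LinearIndependent.pair_iff] at hind ⊢
    intro a b h
    exact hind a b (g.1.injective (by simpa using h))
  have hs := hg.eq_span (Submodule.mem_map_of_mem hu) (Submodule.mem_map_of_mem hw) hind'
  change L.map (g.1 : V →ₗ[F] V) = Submodule.span F {g.1 u, g.1 w} at hs
  rw [hs, hg.eq_span (x := u) (y := w) (hs ▸ h2) (hs ▸ h3) hind |>.symm.trans hs |>.symm]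
  exact (hL.eq_span hu hw hind).symm

/-! ### The central quotient -/

/-- The central quotient of the Siegel group. -/
abbrev POm (Q : QuadraticForm F V) : Type _ := siegelGroup Q ⧸ Subgroup.center (siegelGroup Q)

/-- The image of a root group. -/
def rbar (Q : QuadraticForm F V) (L : Submodule F V) : Subgroup (POm Q) :=
  ((rootSub Q L).subgroupOf (siegelGroup Q)).map (QuotientGroup.mk' _)

theorem mem_rbar_iff {L : Submodule F V} {x : POm Q} :
    x ∈ rbar Q L ↔ ∃ g : siegelGroup Q, (g : Orth Q) ∈ rootSub Q L ∧ QuotientGroup.mk g = x := by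
  rw [rbar, Subgroup.mem_map]
  rfl

section Lift

variable [FiniteDimensional F V] (hnd : NDPolar Q) (P : Frame Q)
include hnd P

theorem center_eq_one_of_pow (p : ℕ) [Fact p.Prime] [CharP F p] {z : siegelGroup Q}
    (hz : z ∈ Subgroup.center (siegelGroup Q)) {k : ℕ} (hk : z ^ p ^ k = 1) : z = 1 := by
  rcases (mem_center_siegelGroup_iff hnd P z).1 hz with h | h
  · exact Subtype.ext (orth_ext h)
  have hz' : (z : Orth Q) = negOne Q := orth_ext h
  have hsq : negOne Q * negOne Q = 1 := orth_ext fun x => neg_neg x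
  rcases Nat.Prime.eq_two_or_odd' (Fact.out : p.Prime) with hp | hp
  · subst hp
    refine Subtype.ext ?_
    rw [hz']
    refine orth_ext fun x => ?_
    have h2 : (2 : F) • x = 0 := by
      rw [show (2 : F) = ((2 : ℕ) : F) by norm_num, CharP.cast_eq_zero, zero_smul]
    show -x = x
    linear_combination (norm := module) -h2
  · obtain ⟨j, hj⟩ := hp.pow (n := k)
    have h1 : negOne Q ^ p ^ k = 1 := by
      rw [← hz', ← SubgroupClass.coe_pow, hk]; rfl
    rw [hj, pow_succ, pow_mul, pow_two, hsq, one_pow, one_mul] at h1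
    exact Subtype.ext (hz'.trans h1)

theorem eq_of_mk_eq (p : ℕ) [Fact p.Prime] [CharP F p] {a b : siegelGroup Q} (ha : a ^ p = 1)
    (hb : b ^ p = 1) (h : (QuotientGroup.mk a : POm Q) = QuotientGroup.mk b) : a = b := by
  have hz : a⁻¹ * b ∈ Subgroup.center (siegelGroup Q) := QuotientGroup.eq.1 h
  have hc : Commute a (a⁻¹ * b) := Subgroup.mem_center_iff.1 hz a
  have h1 : b ^ p = a ^ p * (a⁻¹ * b) ^ p := by
    rw [← hc.mul_pow, mul_inv_cancel_left]
  rw [ha, hb, one_mul] at h1
  exact inv_mul_eq_one.1 (center_eq_one_of_pow hnd P p hz (k := 1) (by rw [pow_one]; exact h1.symm))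

theorem commute_of_mk_commute (p : ℕ) [Fact p.Prime] [CharP F p] {a b : siegelGroup Q}
    {k : ℕ} (hb : b ^ p ^ k = 1)
    (h : (QuotientGroup.mk a : POm Q) * QuotientGroup.mk b = QuotientGroup.mk b * QuotientGroup.mk a) :
    a * b = b * a := by
  rw [← QuotientGroup.mk_mul, ← QuotientGroup.mk_mul] at h
  have hz : (b * a)⁻¹ * (a * b) ∈ Subgroup.center (siegelGroup Q) := QuotientGroup.eq.1 h.symm
  set z := (b * a)⁻¹ * (a * b) with hzdef
  have h1 : a * b * a⁻¹ = b * z := by
    have h2 : a * b = b * z * a := by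
      rw [mul_assoc, ← Subgroup.mem_center_iff.1 hz a, ← mul_assoc, hzdef, mul_inv_cancel_left]
    rw [h2, mul_inv_cancel_right]
  have h3 : b ^ p ^ k * z ^ p ^ k = 1 := by
    rw [← (show Commute b z from Subgroup.mem_center_iff.1 hz b).mul_pow, ← h1, conj_pow, hb,
      mul_one, mul_inv_cancel]
  rw [hb, one_mul] at h3
  have h4 := center_eq_one_of_pow hnd P p hz h3
  exact (inv_mul_eq_one.1 h4).symm

end Lift

end CfsgLib.AutPOmega
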