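import Mathlib
import Cfsg.Agent.Lib.AutPOmega.Rho
import Cfsg.Agent.Lib.Classical.Quad.Std
import Cfsg.Agent.Lib.Forms.Witt

/-!
The model spaces: hyperbolic coordinates, extension of partial isometries, and the bound on the
Witt index.
-/

set_option autoImplicit false

namespace CfsgLib.AutPOmega

open QuadraticMap Module CfsgLib.Classical.Quad

/-- The model space. -/
abbrev Vm (F : Type*) (m : ℕ) (W : Type*) : Type _ := ((Fin m → F) × (Fin m → F)) × W

variable {F W : Type*} [Field F] [AddCommGroup W] [Module F W] {m : ℕ}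

/-- The first members of the hyperbolic pairs. -/
def ee (i : Fin m) : Vm F m W := ((Pi.single i 1, 0), 0)

/-- The second members of the hyperbolic pairs. -/
def ff (i : Fin m) : Vm F m W := ((0, Pi.single i 1), 0)

/-- The kernel part. -/
def ww (r : W) : Vm F m W := ((0, 0), r)

variable {R : QuadraticForm F W}

theorem Q_ee (i : Fin m) : hypForm m R (ee i) = 0 := by simp [ee, hypForm_apply]

theorem Q_ff (i : Fin m) : hypForm m R (ff i) = 0 := by simp [ff, hypForm_apply]

theorem Q_ww (r : W) : hypForm m R (ww r) = R r := by simp [ww, hypForm_apply]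

theorem polar_ee_right (x : Vm F m W) (i : Fin m) : polar (hypForm m R) x (ee i) = x.1.2 i := by
  simp [ee, polar_hypForm, Pi.single_apply]

theorem polar_ff_right (x : Vm F m W) (i : Fin m) : polar (hypForm m R) x (ff i) = x.1.1 i := by
  simp [ff, polar_hypForm, Pi.single_apply]

theorem polar_ww_right (x : Vm F m W) (r : W) :
    polar (hypForm m R) x (ww r) = polar R x.2 r := by
  simp [ww, polar_hypForm]

theorem polar_ee_left (x : Vm F m W) (i : Fin m) : polar (hypForm m R) (ee i) x = x.1.2 i := by
  rw [polar_comm, polar_ee_right]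

theorem polar_ff_left (x : Vm F m W) (i : Fin m) : polar (hypForm m R) (ff i) x = x.1.1 i := by
  rw [polar_comm, polar_ff_right]

@[simp] theorem ee_a (i j : Fin m) : (ee i : Vm F m W).1.1 j = if j = i then 1 else 0 := by
  simp [ee, Pi.single_apply]

@[simp] theorem ee_b (i j : Fin m) : (ee i : Vm F m W).1.2 j = 0 := rfl

@[simp] theorem ee_r (i : Fin m) : (ee i : Vm F m W).2 = 0 := rfl

@[simp] theorem ff_a (i j : Fin m) : (ff i : Vm F m W).1.1 j = 0 := rfl

@[simp] theorem ff_b (i j : Fin m) : (ff i : Vm F m W).1.2 j = if j = i then 1 else 0 := by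
  simp [ff, Pi.single_apply]

@[simp] theorem ff_r (i : Fin m) : (ff i : Vm F m W).2 = 0 := rfl

@[simp] theorem ww_a (r : W) (j : Fin m) : (ww r : Vm F m W).1.1 j = 0 := rfl

@[simp] theorem ww_b (r : W) (j : Fin m) : (ww r : Vm F m W).1.2 j = 0 := rfl

@[simp] theorem ww_r (r : W) : (ww r : Vm F m W).2 = r := rfl

theorem eq_sum_coord (x : Vm F m W) :
    x = (∑ i, x.1.1 i • ee i) + (∑ i, x.1.2 i • ff i) + ww x.2 := by
  refine Prod.ext (Prod.ext (funext fun j => ?_) (funext fun j => ?_)) ?_
  · simp [Prod.fst_sum, Finset.sum_apply]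
  · simp [Prod.fst_sum, Prod.snd_sum, Finset.sum_apply]
  · simp [Prod.snd_sum]

theorem polarBilin_nondegenerate {V : Type*} [AddCommGroup V] [Module F V]
    {Q : QuadraticForm F V} (hnd : NDPolar Q) : (QuadraticMap.polarBilin Q).Nondegenerate :=
  ⟨fun x hx => hnd x hx, fun x hx => hnd x fun y => by rw [polar_comm]; exact hx y⟩

/-- Extension of a partial isometry to an element of the isometry group. -/
theorem exists_orth_extend {V : Type*} [AddCommGroup V] [Module F V] [FiniteDimensional F V]
    {Q : QuadraticForm F V} (hnd : NDPolar Q) (X : Submodule F V) (f : V →ₗ[F] V)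
    (hf : ∀ x ∈ X, Q (f x) = Q x) (hinj : ∀ x ∈ X, f x = 0 → x = 0) :
    ∃ g : Orth Q, ∀ x ∈ X, g.1 x = f x := by
  obtain ⟨g, hg, hgX⟩ := CfsgLib.Forms.witt_quadratic Q (polarBilin_nondegenerate hnd) X f hf hinj
  exact ⟨⟨g, hg⟩, hgX⟩

section Transport

variable [FiniteDimensional F W] (hR : NDPolar R)
include hR

/-- The standard line can be carried to any totally singular line with a given basis. -/
theorem exists_orth_line {i j : Fin m} (hij : i ≠ j) {u w : Vm F m W}
    (hind : LinearIndependent F ![u, w]) (hu : hypForm m R u = 0) (hw : hypForm m R w = 0)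
    (huw : polar (hypForm m R) u w = 0) :
    ∃ g : Orth (hypForm m R), g.1 (ee i) = u ∧ g.1 (ee j) = w := by
  let f : Vm F m W →ₗ[F] Vm F m W :=
    { toFun := fun x => x.1.1 i • u + x.1.1 j • w
      map_add' := fun x y => by simp only [Prod.fst_add, Pi.add_apply, add_smul]; abel
      map_smul' := fun c x => by simp [smul_add, smul_smul] }
  have hf : ∀ x, f x = x.1.1 i • u + x.1.1 j • w := fun x => rfl
  obtain ⟨g, hg⟩ := exists_orth_extend (ndPolar_hypForm hR m)
    (Submodule.span F {ee i, ee j}) f
    (fun x hx => by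
      obtain ⟨a, b, rfl⟩ := Submodule.mem_span_pair.1 hx
      simp [hf, QuadraticMap.map_add (hypForm m R), QuadraticMap.map_smul, hu, hw, huw, Q_ee,
        polar_ee_right])
    (fun x hx h0 => by
      obtain ⟨a, b, rfl⟩ := Submodule.mem_span_pair.1 hx
      rw [LinearIndependent.pair_iff] at hind
      obtain ⟨h1, h2⟩ := hind a b (by simpa [hf, hij, Ne.symm hij] using h0)
      simp [h1, h2])
  refine ⟨g, ?_, ?_⟩
  · rw [hg _ (Submodule.subset_span (Set.mem_insert _ _)), hf]
    simp [Ne.symm hij]
  · rw [hg _ (Submodule.subset_span (Set.mem_insert_of_mem _ rfl)), hf]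
    simp [hij]

/-- The standard bent pair of lines can be carried to any configuration `u ⊥ a, b`, `B(a, b) = 1`. -/
theorem exists_orth_bent {i j : Fin m} (hij : i ≠ j) {u a b : Vm F m W}
    (hu0 : u ≠ 0) (hu : hypForm m R u = 0) (ha : hypForm m R a = 0) (hb : hypForm m R b = 0)
    (hua : polar (hypForm m R) u a = 0) (hub : polar (hypForm m R) u b = 0)
    (hab : polar (hypForm m R) a b = 1) :
    ∃ g : Orth (hypForm m R), g.1 (ee i) = u ∧ g.1 (ee j) = a ∧ g.1 (ff j) = b := by
  let f : Vm F m W →ₗ[F] Vm F m W :=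
    { toFun := fun x => x.1.1 i • u + x.1.1 j • a + x.1.2 j • b
      map_add' := fun x y => by
        simp only [Prod.fst_add, Prod.snd_add, Pi.add_apply, add_smul]; abel
      map_smul' := fun c x => by simp [smul_add, smul_smul] }
  have hf : ∀ x, f x = x.1.1 i • u + x.1.1 j • a + x.1.2 j • b := fun x => rfl
  let X : Submodule F (Vm F m W) := Submodule.span F {ee i, ee j, ff j}
  have hX : ∀ x ∈ X, ∃ p q r : F, x = p • ee i + q • ee j + r • ff j := by
    intro x hx
    obtain ⟨p, z, hz, rfl⟩ := Submodule.mem_span_insert.1 hx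
    obtain ⟨q, r, rfl⟩ := Submodule.mem_span_pair.1 hz
    exact ⟨p, q, r, (add_assoc _ _ _).symm⟩
  have hau : polar (hypForm m R) a u = 0 := by rw [polar_comm]; exact hua
  have hbu : polar (hypForm m R) b u = 0 := by rw [polar_comm]; exact hub
  have hba : polar (hypForm m R) b a = 1 := by rw [polar_comm]; exact hab
  obtain ⟨g, hg⟩ := exists_orth_extend (ndPolar_hypForm hR m) X f
    (fun x hx => by
      obtain ⟨p, q, r, rfl⟩ := hX x hx
      simp [hf, QuadraticMap.map_add (hypForm m R), QuadraticMap.map_smul, hu, ha, hb, hua, hub,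
        hab, Q_ee, Q_ff, polar_ee_right, polar_ff_right, Ne.symm hij, hij])
    (fun x hx h0 => by
      obtain ⟨p, q, r, rfl⟩ := hX x hx
      have h1 : p • u + q • a + r • b = 0 := by simpa [hf, Ne.symm hij, hij] using h0
      have hq := congrArg (fun z => polar (hypForm m R) z b) h1
      have hr := congrArg (fun z => polar (hypForm m R) z a) h1
      simp [hub, hab, hua, hba, polar_singular_self, hb, ha] at hq hr
      rw [hq, hr, zero_smul, zero_smul, add_zero, add_zero] at h1
      simp [hq, hr, (smul_eq_zero.1 h1).resolve_right hu0])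
  refine ⟨g, ?_, ?_, ?_⟩
  · rw [hg _ (Submodule.subset_span (Set.mem_insert _ _)), hf]
    simp [Ne.symm hij]
  · rw [hg _ (Submodule.subset_span (Set.mem_insert_of_mem _ (Set.mem_insert _ _))), hf]
    simp [hij]
  · rw [hg _ (Submodule.subset_span
      (Set.mem_insert_of_mem _ (Set.mem_insert_of_mem _ rfl))), hf]
    simp

/-- A hyperbolic family is the image of the standard one. -/
theorem exists_orth_frame (u z : Fin m → Vm F m W) (hu : ∀ i, hypForm m R (u i) = 0)
    (hz : ∀ i, hypForm m R (z i) = 0) (huu : ∀ i j, polar (hypForm m R) (u i) (u j) = 0)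
    (hzz : ∀ i j, polar (hypForm m R) (z i) (z j) = 0)
    (huz : ∀ i j, polar (hypForm m R) (u i) (z j) = if i = j then 1 else 0) :
    ∃ g : Orth (hypForm m R), ∀ i, g.1 (ee i) = u i ∧ g.1 (ff i) = z i := by
  let f : Vm F m W →ₗ[F] Vm F m W :=
    { toFun := fun x => (∑ i, x.1.1 i • u i) + ∑ i, x.1.2 i • z i
      map_add' := fun x y => by
        simp only [Prod.fst_add, Prod.snd_add, Pi.add_apply, add_smul, Finset.sum_add_distrib]
        abel
      map_smul' := fun c x => by simp [smul_add, smul_smul, Finset.smul_sum] }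
  let X : Submodule F (Vm F m W) := LinearMap.ker (LinearMap.snd F _ W)
  have hXmem : ∀ x, x ∈ X ↔ x.2 = 0 := fun x => Iff.rfl
  have hfb : ∀ x y, polarBilin (hypForm m R) (f x) y =
      (∑ i, x.1.1 i * polar (hypForm m R) (u i) y) + ∑ i, x.1.2 i * polar (hypForm m R) (z i) y := by
    intro x y
    simp [f, polarBilin_apply_apply]
  have hfu : ∀ x i, polar (hypForm m R) (f x) (u i) = x.1.2 i := by
    intro x i
    rw [← polarBilin_apply_apply, hfb]
    simp [huu, polar_comm (hypForm m R) (z _) (u i), huz]
  have hfz : ∀ x i, polar (hypForm m R) (f x) (z i) = x.1.1 i := by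
    intro x i
    rw [← polarBilin_apply_apply, hfb]
    simp [hzz, huz]
  have hA : ∀ (s : Finset (Fin m)) (c : Fin m → F) (v : Fin m → Vm F m W),
      (∀ i, hypForm m R (v i) = 0) → (∀ i j, polar (hypForm m R) (v i) (v j) = 0) →
      hypForm m R (∑ i ∈ s, c i • v i) = 0 := by
    intro s c v hv hvv
    induction s using Finset.induction_on with
    | empty => simp
    | insert a s ha ih =>
      rw [Finset.sum_insert ha, QuadraticMap.map_add (hypForm m R), ih, QuadraticMap.map_smul, hv,
        ← polarBilin_apply_apply]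
      simp [polarBilin_apply_apply, hvv]
  obtain ⟨g, hg⟩ := exists_orth_extend (ndPolar_hypForm hR m) X f
    (fun x hx => by
      show hypForm m R ((∑ i, x.1.1 i • u i) + ∑ i, x.1.2 i • z i) = _
      rw [QuadraticMap.map_add (hypForm m R), hA _ _ u hu huu, hA _ _ z hz hzz, zero_add, zero_add,
        ← polarBilin_apply_apply, hypForm_apply, (hXmem x).1 hx, QuadraticMap.map_zero, add_zero]
      simp [polarBilin_apply_apply, huz, mul_comm])
    (fun x hx h0 => by
      refine Prod.ext (Prod.ext (funext fun i => ?_) (funext fun i => ?_)) ((hXmem x).1 hx)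
      · have := hfz x i
        rw [h0, polar_zero_left] at this
        exact this.symm
      · have := hfu x i
        rw [h0, polar_zero_left] at this
        exact this.symm)
  refine ⟨g, fun i => ⟨?_, ?_⟩⟩
  · rw [hg _ ((hXmem _).2 (ee_r i))]
    simp [f]
  · rw [hg _ ((hXmem _).2 (ff_r i))]
    simp [f]

end Transport

/-- The Witt index of the model is `m`. -/
theorem finrank_le_of_totally_singular [FiniteDimensional F W] (hRan : ∀ w, R w = 0 → w = 0)
    (U : Submodule F (Vm F m W)) (hU : ∀ x ∈ U, hypForm m R x = 0) : finrank F U ≤ m := by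
  let π : U →ₗ[F] (Fin m → F) :=
    ((LinearMap.fst F (Fin m → F) (Fin m → F)).comp (LinearMap.fst F _ W)).comp U.subtype
  let K := LinearMap.ker π
  let κ : K →ₗ[F] (Fin m → F) :=
    (((LinearMap.snd F (Fin m → F) (Fin m → F)).comp (LinearMap.fst F _ W)).comp U.subtype).comp
      K.subtype
  have hKw : ∀ k : K, k.1.1.2 = 0 := by
    intro k
    have hk : k.1.1.1.1 = 0 := k.2
    have := hU _ k.1.2
    rw [hypForm_apply, hk] at this
    exact hRan _ (by simpa using this)
  have hκ : Function.Injective κ := by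
    intro k k' h
    refine Subtype.ext (Subtype.ext (Prod.ext (Prod.ext ?_ h) ((hKw k).trans (hKw k').symm)))
    exact (show k.1.1.1.1 = 0 from k.2).trans (show k'.1.1.1.1 = 0 from k'.2).symm
  have hdot : ∀ a ∈ LinearMap.range π, ∀ b ∈ LinearMap.range κ, ∑ i, a i * b i = 0 := by
    rintro _ ⟨x, rfl⟩ _ ⟨k, rfl⟩
    have h1 : polar (hypForm m R) x.1 k.1.1 = 0 := by
      simp [polar, hU _ x.2, hU _ k.1.2, hU _ (U.add_mem x.2 k.1.2)]
    have hk : k.1.1.1.1 = 0 := k.2
    rw [polar_hypForm, hk, hKw k] at h1
    simpa [π, κ] using h1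
  let Φ : LinearMap.BilinForm F (Fin m → F) :=
    LinearMap.mk₂ F (fun a b => ∑ i, a i * b i)
      (fun a a' b => by simp [add_mul, Finset.sum_add_distrib])
      (fun c a b => by simp [Finset.mul_sum, mul_assoc])
      (fun a b b' => by simp [mul_add, Finset.sum_add_distrib])
      (fun c a b => by simp [Finset.mul_sum, mul_left_comm])
  have hΦ : Φ.Nondegenerate := by
    constructor
    · intro a ha
      funext i
      simpa [Φ, Pi.single_apply] using ha (Pi.single i 1)
    · intro a ha
      funext i
      simpa [Φ, Pi.single_apply] using ha (Pi.single i 1)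
  have hle : LinearMap.range κ ≤ Φ.orthogonal (LinearMap.range π) := fun b hb a ha => hdot a ha b hb
  have h1 := Submodule.finrank_mono hle
  rw [LinearMap.BilinForm.finrank_orthogonal hΦ, LinearMap.finrank_range_of_inj hκ,
    Module.finrank_fin_fun] at h1
  have h2 := LinearMap.finrank_range_add_finrank_ker π
  have h3 : finrank F (LinearMap.range π) ≤ m := by
    simpa using Submodule.finrank_le (LinearMap.range π)
  change finrank F K ≤ m - _ at h1
  change _ + finrank F K = _ at h2
  omega

/-! ### A frame and the scalars -/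

/-- The frame of a model with three pairs. -/
abbrev frame (R : QuadraticForm F W) (hm : 3 ≤ m) : Frame (hypForm m R) := hypFrameThree R hm

end CfsgLib.AutPOmega
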