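import Mathlib
import Cfsg.Agent.Lib.AutPOmega.Model

/-!
The centres of the Sylow `p`-subgroups of the central quotient of the Siegel group are the root
groups of the totally singular lines; so every automorphism permutes these.
-/

set_option autoImplicit false

namespace CfsgLib.AutPOmega

open QuadraticMap Module CfsgLib.Classical.Quad

section General

variable {A B : Type*} [Group A] [Group B]

/-- The centre of a subgroup, inside the ambient group. -/
def cen (H : Subgroup A) : Subgroup A := H ⊓ Subgroup.centralizer (H : Set A)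

theorem mem_cen {H : Subgroup A} {x : A} : x ∈ cen H ↔ x ∈ H ∧ ∀ y ∈ H, y * x = x * y := by
  rw [cen, Subgroup.mem_inf, Subgroup.mem_centralizer_iff]
  rfl

theorem cen_map (e : A ≃* B) (H : Subgroup A) :
    cen (H.map e.toMonoidHom) = (cen H).map e.toMonoidHom := by
  ext x
  obtain ⟨a, rfl⟩ := e.surjective x
  rw [show e a = e.toMonoidHom a from rfl, Subgroup.mem_map_iff_mem e.injective, mem_cen, mem_cen,
    Subgroup.mem_map_iff_mem e.injective]
  refine and_congr_right fun _ => ⟨fun h y hy => ?_, fun h y hy => ?_⟩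
  · have := h _ (Subgroup.mem_map_of_mem _ hy)
    rw [← map_mul, ← map_mul] at this
    exact e.injective this
  · obtain ⟨z, hz, rfl⟩ := hy
    rw [← map_mul, ← map_mul, h z hz]

end General

variable {F V : Type*} [Field F] [AddCommGroup V] [Module F V]
variable {Q : QuadraticForm F V}

instance [Finite V] : Finite (Orth Q) :=
  haveI : Finite (V ≃ₗ[F] V) :=
    Finite.of_injective (fun g : V ≃ₗ[F] V => (g : V → V)) DFunLike.coe_injective
  inferInstance

/-- Conjugation by an isometry on the central quotient. -/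
noncomputable def conjP (g : Orth Q) : MulAut (POm Q) :=
  centralQuotientEquiv (MulAut.conjNormal g)

theorem conjP_mk (g : Orth Q) (s : siegelGroup Q) :
    conjP g (QuotientGroup.mk s) = QuotientGroup.mk (MulAut.conjNormal g s) := rfl

theorem rbar_conj (g : Orth Q) (L : Submodule F V) :
    (rbar Q L).map (conjP g).toMonoidHom = rbar Q (L.map (g.1 : V →ₗ[F] V)) := by
  ext x
  rw [mem_rbar_iff, Subgroup.mem_map]
  constructor
  · rintro ⟨y, hy, rfl⟩
    obtain ⟨s, hs, rfl⟩ := mem_rbar_iff.1 hy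
    refine ⟨MulAut.conjNormal g s, ?_, rfl⟩
    rw [← rootSub_conj, MulAut.conjNormal_apply]
    exact ⟨_, hs, MulAut.conj_apply g _⟩
  · rintro ⟨s, hs, rfl⟩
    rw [← rootSub_conj] at hs
    obtain ⟨t, ht, hts⟩ := hs
    refine ⟨QuotientGroup.mk ⟨t, rootSub_le L ht⟩, mem_rbar_iff.2 ⟨_, ht, rfl⟩, ?_⟩
    show conjP g _ = _
    rw [conjP_mk]
    congr 1
    exact Subtype.ext ((MulAut.conjNormal_apply g _).trans ((MulAut.conj_apply g _).symm.trans hts))

theorem conj_mk (s : siegelGroup Q) : MulAut.conj (QuotientGroup.mk s : POm Q) = conjP (s : Orth Q) := by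
  refine MulEquiv.ext fun x => ?_
  obtain ⟨t, rfl⟩ := QuotientGroup.mk_surjective x
  rw [conjP_mk, MulAut.conj_apply, ← QuotientGroup.mk_mul, ← QuotientGroup.mk_inv,
    ← QuotientGroup.mk_mul]
  congr 1

theorem pow_eq_one_of_mem (p : ℕ) [CharP F p] {L : Submodule F V} (hL : IsLine Q L) {a : siegelGroup Q}
    (ha : (a : Orth Q) ∈ rootSub Q L) : a ^ p = 1 :=
  Subtype.ext (hL.pow_eq_one p ha)

section Injective

variable [FiniteDimensional F V] (hnd : NDPolar Q) (P : Frame Q) (p : ℕ) [Fact p.Prime] [CharP F p]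
include hnd P p

theorem rbar_injective {L L' : Submodule F V} (hL : IsLine Q L) (hL' : IsLine Q L')
    (h : rbar Q L = rbar Q L') : L = L' := by
  obtain ⟨u, w, hind, hu, hw, huw, hs⟩ := id hL
  have huL : u ∈ L := hs ▸ Submodule.subset_span (Set.mem_insert _ _)
  have hwL : w ∈ L := hs ▸ Submodule.subset_span (Set.mem_insert_of_mem _ rfl)
  have hmem : (QuotientGroup.mk ⟨sg Q u w, sg_mem u w⟩ : POm Q) ∈ rbar Q L' := by
    rw [← h]
    exact mem_rbar_iff.2 ⟨_, sg_mem_rootSub huL hwL, rfl⟩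
  obtain ⟨s, hs', he⟩ := mem_rbar_iff.1 hmem
  have heq : (s : Orth Q) = sg Q u w := congrArg Subtype.val (eq_of_mk_eq hnd P p
    (pow_eq_one_of_mem p hL' hs') (pow_eq_one_of_mem p hL (sg_mem_rootSub huL hwL)) he)
  obtain ⟨u', w', -, hu', hw', huw', hspan⟩ := id hL'
  obtain ⟨t, ht⟩ := (mem_rootSub_iff hu' hw' huw' hspan).1 hs'
  obtain ⟨h1, h2⟩ := span_of_sg_eq hnd hind hu huw hu' (by simp [huw']) (heq.symm.trans ht)
  have hle : Submodule.span F {u', t • w'} ≤ L' := by
    rw [hspan, Submodule.span_le]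
    rintro z (rfl | rfl)
    · exact Submodule.subset_span (Set.mem_insert _ _)
    · exact Submodule.smul_mem _ t (Submodule.subset_span (Set.mem_insert_of_mem _ rfl))
  rw [hs, hL'.eq_span (hle h1) (hle h2) hind]

end Injective

/-- The group of the Siegel elements at `u` with parameters in `U`. -/
noncomputable def sgGroup {u : V} (hu : Q u = 0) (U : Submodule F V)
    (hU : ∀ x ∈ U, polar Q u x = 0) : Subgroup (siegelGroup Q) where
  carrier := {g | ∃ x ∈ U, (g : Orth Q) = sg Q u x}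
  one_mem' := ⟨0, U.zero_mem, by rw [sg_zero hu]; rfl⟩
  mul_mem' := by
    rintro a b ⟨x, hx, ha⟩ ⟨y, hy, hb⟩
    exact ⟨x + y, U.add_mem hx hy, by rw [Subgroup.coe_mul, ha, hb, sg_mul hu (hU x hx) (hU y hy)]⟩
  inv_mem' := by
    rintro a ⟨x, hx, ha⟩
    refine ⟨-x, U.neg_mem hx, ?_⟩
    rw [Subgroup.coe_inv, ha]
    refine inv_eq_of_mul_eq_one_right ?_
    rw [sg_mul hu (hU x hx) (hU _ (U.neg_mem hx)), add_neg_cancel, sg_zero hu]

theorem isPGroup_sgGroup (p : ℕ) [Fact p.Prime] [CharP F p] {u : V} (hu : Q u = 0)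
    (U : Submodule F V) (hU : ∀ x ∈ U, polar Q u x = 0) : IsPGroup p (sgGroup hu U hU) := by
  rintro ⟨g, x, hx, hg⟩
  refine ⟨1, Subtype.ext (Subtype.ext ?_)⟩
  rw [pow_one]
  show (g : Orth Q) ^ p = 1
  rw [hg, sg_pow_char]

section Std

variable {W : Type*} [AddCommGroup W] [Module F W] [FiniteDimensional F W] {m : ℕ}
variable {R : QuadraticForm F W}
variable (hR : NDPolar R) (hm : 3 ≤ m)

local notation "𝐐" => hypForm m R

include hR hm

/-- The centraliser of the unipotent radical of a point stabiliser. -/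
theorem eq_of_commute_root (i j k : Fin m) (hij : i ≠ j) (hik : i ≠ k) (hjk : j ≠ k)
    (g : Orth 𝐐)
    (h : ∀ x, polar 𝐐 (ee i) x = 0 → g * sg 𝐐 (ee i) x = sg 𝐐 (ee i) x * g) :
    ∃ v, polar 𝐐 (ee i) v = 0 ∧ (g = sg 𝐐 (ee i) v ∨ g = negOne 𝐐 * sg 𝐐 (ee i) v) := by
  have hnd := ndPolar_hypForm hR m
  set e : Vm F m W := ee i with he
  have hQe : 𝐐 e = 0 := Q_ee i
  have hge0 : 𝐐 (g.1 e) = 0 := by rw [orth_Q, hQe]
  have hconj : ∀ x, polar 𝐐 e x = 0 → sg 𝐐 (g.1 e) (g.1 x) = sg 𝐐 e x := fun x hx => by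
    rw [← sg_conj, h x hx, mul_inv_cancel_right]
  have hmem : ∀ l : Fin m, l ≠ i → ∃ a b : F, g.1 e = a • e + b • ee l := by
    intro l hl
    have hx : polar 𝐐 e (ee l) = 0 := by simp [he, polar_ee_right]
    have hind : LinearIndependent F ![g.1 e, g.1 (ee l)] := by
      rw [LinearIndependent.pair_iff]
      intro a b hab
      have h0 : a • e + b • ee l = (0 : Vm F m W) := g.1.injective (by simpa using hab)
      constructor
      · have := congrArg (fun z : Vm F m W => z.1.1 i) h0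
        simpa [he, Ne.symm hl] using this
      · have := congrArg (fun z : Vm F m W => z.1.1 l) h0
        simpa [he, hl] using this
    obtain ⟨h1, -⟩ := span_of_sg_eq hnd hind hge0 (by rw [orth_polar, hx]) hQe hx (hconj _ hx)
    obtain ⟨a, b, hab⟩ := Submodule.mem_span_pair.1 h1
    exact ⟨a, b, hab.symm⟩
  obtain ⟨lam, b, hlam⟩ := hmem j (Ne.symm hij)
  obtain ⟨lam', b', hlam'⟩ := hmem k (Ne.symm hik)
  have hb : b = 0 := by
    have := congrArg (fun z : Vm F m W => z.1.1 j) (hlam.symm.trans hlam')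
    simpa [he, hij, Ne.symm hij, hjk] using this
  rw [hb, zero_smul, add_zero] at hlam
  have hlam0 : lam ≠ 0 := by
    intro h0
    rw [h0, zero_smul] at hlam
    refine orth_ne_zero g ?_ hlam
    intro he0
    have := congrArg (fun z : Vm F m W => z.1.1 i) he0
    simp [he] at this
  have he0 : e ≠ 0 := fun he0 => by
    have := congrArg (fun z : Vm F m W => z.1.1 i) he0
    simp [he] at this
  have hact : ∀ x, polar 𝐐 e x = 0 → ∃ c : F, lam • g.1 x = x + c • e := by
    intro x hx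
    have hgx : polar 𝐐 e (g.1 x) = 0 := by
      have h1 : polar 𝐐 (g.1 e) (g.1 x) = 0 := by rw [orth_polar, hx]
      rw [hlam, polar_smul_left, smul_eq_mul] at h1
      exact (mul_eq_zero.1 h1).resolve_left hlam0
    have h1 := hconj x hx
    rw [hlam, sg_smul_left lam hQe hgx] at h1
    obtain ⟨c, hc⟩ := exists_smul_of_sg_eq hnd he0 hQe (by simp [hgx]) hx h1
    exact ⟨c, by rw [hc]; abel⟩
  have hsq : lam * lam = 1 := by
    obtain ⟨c, hc⟩ := hact (ee j) (by simp [he, polar_ee_right])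
    obtain ⟨c', hc'⟩ := hact (ff j) (by simp [he, polar_ff_right, Ne.symm hij])
    have h1 := congrArg₂ (fun a b => polar 𝐐 a b) hc hc'
    simpa [he, orth_polar, polar_ff_right, polar_ee_right, polar_singular_self, Q_ee, polar_ee_left,
      hij, Ne.symm hij] using h1
  -- normalise the scalar
  obtain ⟨g', hg', hg'e⟩ : ∃ g' : Orth 𝐐,
      (g = g' ∨ g = negOne 𝐐 * g') ∧ ∀ x, g'.1 x = lam • g.1 x := by
    rcases mul_self_eq_one_iff.1 hsq with h1 | h1
    · exact ⟨g, Or.inl rfl, fun x => by rw [h1, one_smul]⟩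
    · refine ⟨negOne 𝐐 * g, Or.inr ?_, fun x => by rw [h1, neg_one_smul]; rfl⟩
      exact orth_ext fun x => (neg_neg (g.1 x)).symm
  have hfix : g'.1 e = e := by rw [hg'e, hlam, smul_smul, hsq, one_smul]
  obtain ⟨v, hv, hgf⟩ := exists_siegel_partner (Q := 𝐐) (z := ff i) (z' := g'.1 (ff i)) hQe
    (Q_ff i) (by rw [orth_Q, Q_ff]) (by simp [he, polar_ff_right])
    (by nth_rw 1 [← hfix]; rw [orth_polar]; simp [he, polar_ff_right])
  refine ⟨v, hv, ?_⟩
  rw [← sg_eq hQe hv] at hgf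
  have hTe : (sg 𝐐 e v).1 e = e := sg_fix hQe hv (polar_singular_self hQe) hv
  set T := sg 𝐐 e v with hT
  have hk : ∀ x, g'.1 x = T.1 x := by
    intro x
    set c1 := polar 𝐐 x (ff i) with hc1
    set c2 := polar 𝐐 x e with hc2
    set y := x + (-c1) • e + (-c2) • ff i with hy
    have hye : polar 𝐐 e y = 0 := by
      rw [polar_comm]
      simp [hy, he, hc2, polar_singular_self, Q_ee, polar_ee_right]
    have hyf : polar 𝐐 y (ff i) = 0 := by
      simp [hy, he, hc1, polar_singular_self, Q_ff, polar_ff_right]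
    have hy' : g'.1 y = T.1 y := by
      obtain ⟨c, hc⟩ := hact y hye
      have hgy : g'.1 y = y + c • e := by rw [hg'e, hc]
      obtain ⟨d, hd⟩ : ∃ d : F, T.1 y = y + d • e :=
        ⟨_, by rw [hT, sg_apply hQe hv, polar_comm 𝐐 y e, hye, zero_smul, add_zero]⟩
      rw [hgy, hd]
      have h1 := orth_polar g' y (ff i)
      have h2 := orth_polar T y (ff i)
      rw [hgy, hyf] at h1
      rw [hd, hyf, hgf] at h2
      have h3 : polar 𝐐 e (g'.1 (ff i)) = 1 := by
        nth_rw 1 [← hfix]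
        rw [orth_polar]
        simp [he, polar_ff_right]
      simp only [polar_add_left, polar_smul_left, h3, smul_eq_mul, mul_one] at h1 h2
      rw [show c = d by linear_combination h1 - h2]
    have hx : x = y + c1 • e + c2 • ff i := by rw [hy]; module
    clear_value y
    have key : g'.1 (y + c1 • e + c2 • ff i) = T.1 (y + c1 • e + c2 • ff i) := by
      rw [map_add, map_add, map_smul, map_smul, map_add, map_add, map_smul, map_smul, hy', hfix,
        hTe, hgf]
    exact (congrArg g'.1 hx).trans (key.trans (congrArg T.1 hx).symm)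
  have : g' = T := orth_ext hk
  rcases hg' with h1 | h1
  · exact Or.inl (h1.trans this)
  · exact Or.inr (by rw [h1, this])

set_option maxHeartbeats 800000

variable [Fintype F] (p : ℕ) [Fact p.Prime] [CharP F p]
include p

/-- A Sylow subgroup of the Siegel group whose centre is the root group of the standard line. -/
theorem exists_sylow_cen_std (i j k : Fin m) (hij : i ≠ j) (hik : i ≠ k) (hjk : j ≠ k) :
    ∃ P : Sylow p (siegelGroup 𝐐),
      cen (P : Subgroup (siegelGroup 𝐐)) =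
        (rootSub 𝐐 (Submodule.span F {ee i, ee j})).subgroupOf (siegelGroup 𝐐) := by
  have : Finite W := Module.finite_of_finite F
  have hnd := ndPolar_hypForm hR m
  set e0 : Vm F m W := ee i with he0
  set e1 : Vm F m W := ee j with he1
  let ψ : Vm F m W → Submodule F (Vm F m W) := fun u => LinearMap.ker ((polarBilin 𝐐).flip u)
  have hψ : ∀ u x, x ∈ ψ u ↔ polar 𝐐 x u = 0 := fun u x => Iff.rfl
  let U0 := ψ e0
  let U1 := ψ e0 ⊓ ψ (ff i) ⊓ ψ e1
  have h0 : ∀ x ∈ U0, polar 𝐐 e0 x = 0 := fun x hx => by rw [polar_comm]; exact (hψ _ _).1 hx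
  have h1 : ∀ x ∈ U1, polar 𝐐 e1 x = 0 := fun x hx => by rw [polar_comm]; exact (hψ _ _).1 hx.2
  let A := sgGroup (Q := 𝐐) (Q_ee i) U0 h0
  let B := sgGroup (Q := 𝐐) (Q_ee j) U1 h1
  have hpA : IsPGroup p A := isPGroup_sgGroup p _ _ _
  have hpB : IsPGroup p B := isPGroup_sgGroup p _ _ _
  have hfix0 : ∀ x ∈ U1, (sg 𝐐 e1 x).1 e0 = e0 := fun x hx =>
    sg_fix (Q_ee j) (h1 x hx) (by simp [he0, he1, polar_ee_right])
      (by rw [polar_comm]; exact (hψ _ _).1 hx.1.1)
  have hnorm : B ≤ Subgroup.normalizer (A : Set (siegelGroup 𝐐)) := by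
    have hle : ∀ b ∈ B, ∀ a ∈ A, b * a * b⁻¹ ∈ A := by
      rintro b ⟨x, hx, hb⟩ a ⟨v, hv, ha⟩
      refine ⟨(sg 𝐐 e1 x).1 v, (hψ _ _).2 ?_, ?_⟩
      · nth_rw 1 [← hfix0 x hx]
        rw [orth_polar]
        exact (hψ _ _).1 hv
      · rw [Subgroup.coe_mul, Subgroup.coe_mul, Subgroup.coe_inv, ha, hb, ← he1, ← he0, sg_conj,
          hfix0 x hx]
    intro b hb
    rw [Subgroup.mem_normalizer_iff]
    refine fun a => ⟨hle b hb a, fun h => ?_⟩
    have := hle b⁻¹ (B.inv_mem hb) _ h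
    simpa [mul_assoc] using this
  obtain ⟨P, hP⟩ := (hpA.to_sup_of_normal_left' hpB hnorm).exists_le_sylow
  refine ⟨P, ?_⟩
  set L0 := Submodule.span F {e0, e1} with hL0
  have hind : LinearIndependent F ![e0, e1] := by
    rw [LinearIndependent.pair_iff]
    intro a b hab
    constructor
    · simpa [he0, he1, hij] using congrArg (fun z : Vm F m W => z.1.1 i) hab
    · simpa [he0, he1, Ne.symm hij] using congrArg (fun z : Vm F m W => z.1.1 j) hab
  have h01 : polar 𝐐 e0 e1 = 0 := by simp [he0, he1, polar_ee_right]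
  have hLine : IsLine 𝐐 L0 := isLine_span hind (Q_ee i) (Q_ee j) h01
  set Z := (rootSub 𝐐 L0).subgroupOf (siegelGroup 𝐐) with hZ
  have hZA : ∀ a ∈ Z, ∃ c : F, (a : Orth 𝐐) = sg 𝐐 e0 (c • e1) := fun a ha =>
    (mem_rootSub_iff (Q_ee i) (Q_ee j) h01 hL0).1 ha
  have hle : cen (P : Subgroup (siegelGroup 𝐐)) ≤ Z := by
    intro z hz
    obtain ⟨hzP, hzc⟩ := mem_cen.1 hz
    have hcomm : ∀ x, polar 𝐐 e0 x = 0 →
        (z : Orth 𝐐) * sg 𝐐 e0 x = sg 𝐐 e0 x * (z : Orth 𝐐) := fun x hx => by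
      have hm' : (⟨sg 𝐐 e0 x, sg_mem e0 x⟩ : siegelGroup 𝐐) ∈ (P : Subgroup _) :=
        hP (Subgroup.mem_sup_left ⟨x, (hψ _ _).2 (by rw [polar_comm]; exact hx), rfl⟩)
      exact (congrArg Subtype.val (hzc _ hm')).symm
    obtain ⟨v, hv, hzv⟩ := eq_of_commute_root hR hm i j k hij hik hjk (z : Orth 𝐐) hcomm
    have hzv' : (z : Orth 𝐐) = sg 𝐐 e0 v := by
      rcases hzv with h | h
      · exact h
      let c : siegelGroup 𝐐 := ⟨sg 𝐐 e0 v, sg_mem e0 v⟩
      have hc : c ^ p = 1 := Subtype.ext (sg_pow_char p e0 v)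
      let n : siegelGroup 𝐐 := z * c⁻¹
      have hn : (n : Orth 𝐐) = negOne 𝐐 := by
        show (z : Orth 𝐐) * (sg 𝐐 e0 v)⁻¹ = _
        rw [h, mul_inv_cancel_right]
      have hnc : n ∈ Subgroup.center (siegelGroup 𝐐) :=
        (mem_center_siegelGroup_iff hnd (frame R hm) n).2 (Or.inr fun x => by rw [hn]; rfl)
      obtain ⟨r, hr⟩ := P.isPGroup' ⟨z, hzP⟩
      have hzr : z ^ p ^ r = 1 := congrArg Subtype.val hr
      have hn1 : n = 1 := by
        refine center_eq_one_of_pow hnd (frame R hm) p hnc (k := r + 1) ?_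
        have hcm : Commute n c := (Subgroup.mem_center_iff.1 hnc c).symm
        have hcpow : c ^ p ^ (r + 1) = 1 := by rw [pow_succ', pow_mul, hc, one_pow]
        have hmul := hcm.mul_pow (p ^ (r + 1))
        rw [show n * c = z from inv_mul_cancel_right z c, hcpow, mul_one, pow_succ, pow_mul, hzr,
          one_pow] at hmul
        exact hmul.symm
      have h2 := congrArg Subtype.val hn1
      rw [hn, OneMemClass.coe_one] at h2
      rw [h, h2, one_mul]
    -- the elements at the second vector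
    have hmove : ∀ x ∈ U1, ∃ c : F, c • e0 = (sg 𝐐 e1 x).1 v - v := by
      intro x hx
      have hm' : (⟨sg 𝐐 e1 x, sg_mem e1 x⟩ : siegelGroup 𝐐) ∈ (P : Subgroup _) :=
        hP (Subgroup.mem_sup_right ⟨x, hx, rfl⟩)
      have h2 : sg 𝐐 e1 x * (z : Orth 𝐐) = (z : Orth 𝐐) * sg 𝐐 e1 x :=
        congrArg Subtype.val (hzc _ hm')
      rw [hzv'] at h2
      have h3 : sg 𝐐 e0 ((sg 𝐐 e1 x).1 v) = sg 𝐐 e0 v := by
        nth_rw 1 [← hfix0 x hx]
        rw [← sg_conj, h2, mul_inv_cancel_right]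
      have hne : e0 ≠ 0 := hind.ne_zero 0
      refine exists_smul_of_sg_eq hnd hne (Q_ee i) ?_ hv h3
      nth_rw 1 [← hfix0 x hx]
      rw [orth_polar, hv]
    have hmU : ∀ x, polar 𝐐 x e0 = 0 → polar 𝐐 x (ff i) = 0 → polar 𝐐 x e1 = 0 → x ∈ U1 :=
      fun x a b c => ⟨⟨(hψ _ _).2 a, (hψ _ _).2 b⟩, (hψ _ _).2 c⟩
    have hve1 : polar 𝐐 v e1 = 0 := by
      obtain ⟨c, hc⟩ := hmove (ee k) (hmU _ (by simp [he0, polar_ee_right])
        (by simp [polar_ff_right, hik]) (by simp [he1, polar_ee_right]))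
      rw [sg_apply (Q_ee j) (by simp [he1, polar_ee_right])] at hc
      have := congrArg (fun z : Vm F m W => z.1.1 k) hc
      simpa [he0, he1, Ne.symm hik, Ne.symm hjk] using this.symm
    have hvU : ∀ x ∈ U1, polar 𝐐 v x = 0 := by
      intro x hx
      obtain ⟨c, hc⟩ := hmove x hx
      rw [sg_apply (Q_ee j) (h1 x hx), hve1] at hc
      have := congrArg (fun z : Vm F m W => z.1.1 j) hc
      simpa [he0, he1, hve1, Ne.symm hij] using this.symm
    have hvi : v.1.2 i = 0 := by simpa [he0, polar_ee_left] using hv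
    have hvb : ∀ l, v.1.2 l = 0 := by
      intro l
      rcases eq_or_ne l i with rfl | hl
      · exact hvi
      have := hvU (ee l) (hmU _ (by simp [he0, polar_ee_right])
        (by simp [polar_ff_right, Ne.symm hl]) (by simp [he1, polar_ee_right]))
      simpa [polar_ee_right] using this
    have hva : ∀ l, l ≠ i → l ≠ j → v.1.1 l = 0 := by
      intro l hl hl'
      have := hvU (ff l) (hmU _ (by simp [he0, polar_ee_right, Ne.symm hl])
        (by simp [polar_ff_right]) (by simp [he1, polar_ee_right, Ne.symm hl']))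
      simpa [polar_ff_right] using this
    have hvr : v.2 = 0 := hR _ fun r => by
      have := hvU (ww r) (hmU _ (by simp [he0, polar_ee_right]) (by simp [polar_ff_right])
        (by simp [he1, polar_ee_right]))
      simpa [polar_ww_right] using this
    have hv' : v = v.1.1 j • e1 + v.1.1 i • e0 := by
      refine Prod.ext (Prod.ext (funext fun l => ?_) (funext fun l => ?_)) ?_
      · rcases eq_or_ne l i with rfl | hl
        · simp [he0, he1, hij]
        rcases eq_or_ne l j with rfl | hl'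
        · simp [he0, he1, Ne.symm hij]
        simp [he0, he1, hl, hl', hva l hl hl']
      · simp [he0, he1, hvb]
      · simp [he0, he1, hvr]
    rw [hZ, Subgroup.mem_subgroupOf, mem_rootSub_iff (Q_ee i) (Q_ee j) h01 hL0, hzv', hv']
    exact ⟨_, sg_add_smul _ (Q_ee i) (by simp [h01, ← he0])⟩
  refine le_antisymm hle fun a ha => ?_
  -- a non-trivial central element pins the line
  have hne : (⟨sg 𝐐 e0 e1, sg_mem e0 e1⟩ : siegelGroup 𝐐) ≠ 1 := fun h => by
    obtain ⟨c, hc⟩ := exists_smul_of_sg_eq_one hnd (hind.ne_zero 0) (Q_ee i) h01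
      (congrArg Subtype.val h)
    simpa [he0, he1, Ne.symm hij] using congrArg (fun z : Vm F m W => z.1.1 j) hc
  have hPA : ∀ x, polar 𝐐 e0 x = 0 → (⟨sg 𝐐 e0 x, sg_mem e0 x⟩ : siegelGroup 𝐐) ∈
      (P : Subgroup _) := fun x hx =>
    hP (Subgroup.mem_sup_left ⟨x, (hψ _ _).2 (by rw [polar_comm]; exact hx), rfl⟩)
  have : Nontrivial ↥(P : Subgroup (siegelGroup 𝐐)) :=
    ⟨⟨⟨_, hPA e1 h01⟩, 1, fun h => hne (congrArg Subtype.val h)⟩⟩
  have := P.isPGroup'.center_nontrivial
  obtain ⟨⟨⟨z, hzP⟩, hzc⟩, hz1⟩ := exists_ne (1 : Subgroup.center ↥(P : Subgroup (siegelGroup 𝐐)))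
  have hzmem : z ∈ cen (P : Subgroup (siegelGroup 𝐐)) :=
    mem_cen.2 ⟨hzP, fun y hy => congrArg Subtype.val (Subgroup.mem_center_iff.1 hzc ⟨y, hy⟩)⟩
  obtain ⟨c, hzeq⟩ := hZA z (hle hzmem)
  have hc0 : c ≠ 0 := by
    rintro rfl
    apply hz1
    refine Subtype.ext (Subtype.ext (Subtype.ext ?_))
    rw [hzeq, zero_smul, sg_zero (Q_ee i)]
    rfl
  obtain ⟨s, hs⟩ := hZA a ha
  refine mem_cen.2 ⟨?_, fun y hy => ?_⟩
  · have : a = ⟨sg 𝐐 e0 (s • e1), sg_mem _ _⟩ := Subtype.ext hs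
    rw [this]
    exact hPA _ (by simp [h01])
  have hyz : (y : Orth 𝐐) * sg 𝐐 e0 (c • e1) = sg 𝐐 e0 (c • e1) * (y : Orth 𝐐) := by
    rw [← hzeq]
    exact congrArg Subtype.val ((mem_cen.1 hzmem).2 y hy)
  have hindc : LinearIndependent F ![e0, c • e1] := by
    rw [LinearIndependent.pair_iff] at hind ⊢
    intro a b hab
    rw [smul_smul] at hab
    obtain ⟨ha', hb'⟩ := hind _ _ hab
    exact ⟨ha', (mul_eq_zero.1 hb').resolve_right hc0⟩
  have h0m : e0 ∈ L0 := Submodule.subset_span (Set.mem_insert _ _)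
  have h1m : e1 ∈ L0 := Submodule.subset_span (Set.mem_insert_of_mem _ rfl)
  have hL := map_eq_of_commute hnd hLine h0m (Submodule.smul_mem _ c h1m) hindc hyz
  have hy0 : (y : Orth 𝐐).1 e0 ∈ L0 := hL ▸ Submodule.mem_map_of_mem h0m
  have hy1 : (y : Orth 𝐐).1 e1 ∈ L0 := hL ▸ Submodule.mem_map_of_mem h1m
  obtain ⟨a0, b0, hy0'⟩ := Submodule.mem_span_pair.1 hy0
  obtain ⟨a1, b1, hy1'⟩ := Submodule.mem_span_pair.1 hy1
  have hconj : ∀ t : F, sg 𝐐 ((y : Orth 𝐐).1 e0) ((y : Orth 𝐐).1 (t • e1)) =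
      sg 𝐐 e0 ((t * (a0 * b1 - b0 * a1)) • e1) := by
    intro t
    rw [map_smul, ← hy0', ← hy1', smul_add, smul_smul, smul_smul,
      sg_span_det (Q_ee i) (Q_ee j) h01]
    congr 2
    ring
  have hd : c * (a0 * b1 - b0 * a1) = c := by
    have h2 : sg 𝐐 ((y : Orth 𝐐).1 e0) ((y : Orth 𝐐).1 (c • e1)) = sg 𝐐 e0 (c • e1) := by
      rw [← sg_conj, hyz, mul_inv_cancel_right]
    rw [hconj] at h2
    obtain ⟨r, hr⟩ := exists_smul_of_sg_eq hnd (hind.ne_zero 0) (Q_ee i) (by simp [h01])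
      (by simp [h01]) h2
    have := congrArg (fun z : Vm F m W => z.1.1 j) hr
    simp [he0, he1, Ne.symm hij] at this
    linear_combination -this
  refine Subtype.ext ?_
  show (y : Orth 𝐐) * a.1 = a.1 * (y : Orth 𝐐)
  rw [hs]
  refine mul_inv_eq_iff_eq_mul.1 ?_
  rw [sg_conj, hconj]
  congr 2
  calc s * (a0 * b1 - b0 * a1) = s * ((c * (a0 * b1 - b0 * a1)) / c) := by field_simp
    _ = s := by rw [hd, div_self hc0, mul_one]

/-- Every root group of a line is the centre of a Sylow subgroup of the central quotient. -/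
theorem exists_sylow_cen {L : Submodule F (Vm F m W)} (hL : IsLine 𝐐 L) :
    ∃ P : Sylow p (POm 𝐐), cen (P : Subgroup (POm 𝐐)) = rbar 𝐐 L := by
  have : Finite W := Module.finite_of_finite F
  have hnd := ndPolar_hypForm hR m
  let i : Fin m := ⟨0, by omega⟩
  let j : Fin m := ⟨1, by omega⟩
  let k : Fin m := ⟨2, by omega⟩
  have hij : i ≠ j := by simp [i, j]
  have hik : i ≠ k := by simp [i, k]
  have hjk : j ≠ k := by simp [j, k]
  obtain ⟨P, hP⟩ := exists_sylow_cen_std hR hm p i j k hij hik hjk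
  set L0 : Submodule F (Vm F m W) := Submodule.span F {ee i, ee j} with hL0
  let P' : Sylow p (POm 𝐐) := P.mapSurjective (QuotientGroup.mk'_surjective _)
  have h0 : cen (P' : Subgroup (POm 𝐐)) = rbar 𝐐 L0 := by
    rw [rbar, ← hP]
    refine le_antisymm (fun x hx => ?_) ?_
    · obtain ⟨hx1, hx2⟩ := mem_cen.1 hx
      obtain ⟨a, ha, rfl⟩ := hx1
      refine ⟨a, mem_cen.2 ⟨ha, fun b hb => ?_⟩, rfl⟩
      obtain ⟨r, hr⟩ := P.isPGroup' ⟨a, ha⟩
      exact commute_of_mk_commute hnd (frame R hm) p (b := a) (congrArg Subtype.val hr)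
        (hx2 _ ⟨b, hb, rfl⟩)
    · rintro _ ⟨a, ha, rfl⟩
      obtain ⟨ha1, ha2⟩ := mem_cen.1 ha
      refine mem_cen.2 ⟨⟨a, ha1, rfl⟩, ?_⟩
      rintro _ ⟨b, hb, rfl⟩
      rw [← map_mul, ← map_mul, ha2 b hb]
  obtain ⟨u, w, hind, hu, hw, huw, hs⟩ := hL
  obtain ⟨g, hgu, hgw⟩ := exists_orth_line hR hij hind hu hw huw
  have hgL : L = L0.map (g.1 : Vm F m W →ₗ[F] Vm F m W) := by
    rw [hs, hL0, Submodule.map_span, Set.image_pair, LinearEquiv.coe_coe, hgu, hgw]
  refine ⟨P'.mapSurjective (f := (conjP g).toMonoidHom) (conjP g).surjective, ?_⟩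
  rw [hgL, ← rbar_conj, ← h0, ← cen_map]
  rfl

/-- The centre of every Sylow subgroup of the central quotient is the root group of a line. -/
theorem exists_line_of_sylow (P : Sylow p (POm 𝐐)) :
    ∃ L, IsLine 𝐐 L ∧ cen (P : Subgroup (POm 𝐐)) = rbar 𝐐 L := by
  have : Finite W := Module.finite_of_finite F
  let i : Fin m := ⟨0, by omega⟩
  let j : Fin m := ⟨1, by omega⟩
  have hij : i ≠ j := by simp [i, j]
  have hind : LinearIndependent F ![(ee i : Vm F m W), ee j] := by
    rw [LinearIndependent.pair_iff]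
    intro a b hab
    constructor
    · simpa [hij] using congrArg (fun z : Vm F m W => z.1.1 i) hab
    · simpa [Ne.symm hij] using congrArg (fun z : Vm F m W => z.1.1 j) hab
  have hL := isLine_span (Q := 𝐐) hind (Q_ee i) (Q_ee j) (by simp [polar_ee_right])
  obtain ⟨P0, hP0⟩ := exists_sylow_cen hR hm p hL
  obtain ⟨x, hx⟩ := MulAction.exists_smul_eq (POm 𝐐) P0 P
  obtain ⟨s, rfl⟩ := QuotientGroup.mk_surjective x
  refine ⟨_, hL.map (s : Orth 𝐐), ?_⟩
  rw [← rbar_conj, ← hP0, ← cen_map, ← conj_mk, ← hx]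
  rfl

/-- An automorphism sends the root group of a line to the root group of a line. -/
theorem exists_map_rbar (β : MulAut (POm 𝐐)) {L : Submodule F (Vm F m W)} (hL : IsLine 𝐐 L) :
    ∃ L', IsLine 𝐐 L' ∧ (rbar 𝐐 L).map β.toMonoidHom = rbar 𝐐 L' := by
  have : Finite W := Module.finite_of_finite F
  obtain ⟨P, hP⟩ := exists_sylow_cen hR hm p hL
  obtain ⟨L', hL', h⟩ := exists_line_of_sylow hR hm p
    (P.mapSurjective (f := β.toMonoidHom) β.surjective)
  refine ⟨L', hL', ?_⟩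
  rw [← h, ← hP, ← cen_map]
  rfl

end Std

end CfsgLib.AutPOmega
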