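import Mathlib
import Cfsg.Agent.Lib.AutPOmega.SylowCentre

/-!
The permutation of the totally singular lines given by an automorphism preserves incidence and
orthogonality of lines.
-/

set_option autoImplicit false

namespace CfsgLib.AutPOmega

open QuadraticMap Module CfsgLib.Classical.Quad

variable {F V : Type*} [Field F] [AddCommGroup V] [Module F V]
variable {Q : QuadraticForm F V}

/-- Two subspaces have a common non-zero vector. -/
def Meet (L M : Submodule F V) : Prop := ∃ x, x ≠ 0 ∧ x ∈ L ∧ x ∈ M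

/-- Two subspaces are orthogonal. -/
def Perp (Q : QuadraticForm F V) (L M : Submodule F V) : Prop :=
  ∀ x ∈ L, ∀ y ∈ M, polar Q x y = 0

theorem perp_span {S T : Set V} (h : ∀ x ∈ S, ∀ y ∈ T, polar Q x y = 0) :
    Perp Q (Submodule.span F S) (Submodule.span F T) := by
  intro x hx y hy
  induction hx using Submodule.span_induction with
  | zero => simp
  | add a b _ _ ha hb => rw [polar_add_left, ha, hb, add_zero]
  | smul c a _ ha => rw [polar_smul_left, ha, smul_zero]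
  | mem a ha =>
    induction hy using Submodule.span_induction with
    | zero => simp
    | add b c _ _ hb hc => rw [polar_add_right, hb, hc, add_zero]
    | smul c b _ hb => rw [polar_smul_right, hb, smul_zero]
    | mem b hb => exact h a ha b hb

theorem sing_span {S : Set V} (h : ∀ x ∈ S, Q x = 0) (hp : ∀ x ∈ S, ∀ y ∈ S, polar Q x y = 0)
    {x : V} (hx : x ∈ Submodule.span F S) : Q x = 0 := by
  induction hx using Submodule.span_induction with
  | zero => exact QuadraticMap.map_zero _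
  | add a b ha hb hQa hQb =>
    rw [QuadraticMap.map_add Q, hQa, hQb, perp_span hp a ha b hb, add_zero, add_zero]
  | smul c a _ ha => rw [QuadraticMap.map_smul, ha, smul_zero]
  | mem a ha => exact h a ha

/-- The lines as a type. -/
abbrev Ln (Q : QuadraticForm F V) : Type _ := {L : Submodule F V // IsLine Q L}

/-- The incidence of lines whose root groups commute. -/
def CC (L M : Ln Q) : Prop := Meet L.1 M.1 ∨ Perp Q L.1 M.1

/-- The incidence of lines spanning a totally singular plane. -/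
def AA (L M : Ln Q) : Prop := L ≠ M ∧ Meet L.1 M.1 ∧ Perp Q L.1 M.1

theorem exists_mul_of_mem_sup {G : Type*} [Group G] {H K : Subgroup G}
    (hc : ∀ a ∈ H, ∀ b ∈ K, a * b = b * a) {x : G} (hx : x ∈ H ⊔ K) :
    ∃ a ∈ H, ∃ b ∈ K, x = a * b := by
  let S : Subgroup G :=
    { carrier := {x | ∃ a ∈ H, ∃ b ∈ K, x = a * b}
      one_mem' := ⟨1, H.one_mem, 1, K.one_mem, (mul_one 1).symm⟩
      mul_mem' := by
        rintro _ _ ⟨a, ha, b, hb, rfl⟩ ⟨a', ha', b', hb', rfl⟩
        exact ⟨a * a', H.mul_mem ha ha', b * b', K.mul_mem hb hb',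
          by rw [mul_assoc, ← mul_assoc b, ← hc a' ha' b hb, mul_assoc a' b, mul_assoc]⟩
      inv_mem' := by
        rintro _ ⟨a, ha, b, hb, rfl⟩
        exact ⟨a⁻¹, H.inv_mem ha, b⁻¹, K.inv_mem hb, by
          rw [mul_inv_rev, hc _ (H.inv_mem ha) _ (K.inv_mem hb)]⟩ }
  have hle : H ⊔ K ≤ S := sup_le (fun a ha => ⟨a, ha, 1, K.one_mem, (mul_one a).symm⟩)
    fun b hb => ⟨1, H.one_mem, b, hb, (one_mul b).symm⟩
  exact hle hx

set_option maxHeartbeats 1000000

section Group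

variable [FiniteDimensional F V] (hnd : NDPolar Q) (P : Frame Q) (p : ℕ) [Fact p.Prime] [CharP F p]
include hnd P p

theorem rbar_commute_iff (L M : Ln Q) :
    (∀ a ∈ rbar Q L.1, ∀ b ∈ rbar Q M.1, a * b = b * a) ↔ CC L M := by
  constructor
  · intro h
    obtain ⟨u, w, hind, hu, hw, huw, hs⟩ := id L.2
    obtain ⟨u', w', hind', hu', hw', huw', hs'⟩ := id M.2
    have huL : u ∈ L.1 := hs ▸ Submodule.subset_span (Set.mem_insert _ _)
    have hwL : w ∈ L.1 := hs ▸ Submodule.subset_span (Set.mem_insert_of_mem _ rfl)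
    have huM : u' ∈ M.1 := hs' ▸ Submodule.subset_span (Set.mem_insert _ _)
    have hwM : w' ∈ M.1 := hs' ▸ Submodule.subset_span (Set.mem_insert_of_mem _ rfl)
    have hcomm := congrArg Subtype.val (commute_of_mk_commute hnd P p (k := 1)
      (a := ⟨sg Q u w, sg_mem u w⟩) (b := ⟨sg Q u' w', sg_mem u' w'⟩)
      (Subtype.ext (by rw [pow_one]; exact sg_pow_char p u' w'))
      (h _ (mem_rbar_iff.2 ⟨⟨sg Q u w, sg_mem u w⟩, sg_mem_rootSub huL hwL, rfl⟩) _
        (mem_rbar_iff.2 ⟨⟨sg Q u' w', sg_mem u' w'⟩, sg_mem_rootSub huM hwM, rfl⟩)))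
    have hmap := map_eq_of_commute hnd M.2 huM hwM hind' hcomm
    by_cases hm : Meet L.1 M.1
    · exact Or.inl hm
    refine Or.inr ?_
    have key : ∀ y ∈ M.1, polar Q y u = 0 ∧ polar Q y w = 0 := by
      intro y hy
      have hgy : (sg Q u w).1 y ∈ M.1 := hmap ▸ Submodule.mem_map_of_mem hy
      rw [sg_apply hu huw, add_assoc] at hgy
      have hd := Submodule.sub_mem _ hgy hy
      rw [add_sub_cancel_left] at hd
      have hzero : polar Q y u • w + (-(polar Q y w) - Q w * polar Q y u) • u = 0 := by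
        by_contra hne
        exact hm ⟨_, hne, L.1.add_mem (L.1.smul_mem _ hwL) (L.1.smul_mem _ huL), hd⟩
      obtain ⟨h1, h2⟩ := (LinearIndependent.pair_iff.1 hind) _ _ ((add_comm _ _).trans hzero)
      rw [h2, mul_zero, sub_zero, neg_eq_zero] at h1
      exact ⟨h2, h1⟩
    intro x hx y hy
    rw [hs] at hx
    obtain ⟨a, b, rfl⟩ := Submodule.mem_span_pair.1 hx
    rw [polar_comm]
    simp [key y hy]
  · rintro hCC _ ha _ hb
    obtain ⟨s, hs, rfl⟩ := mem_rbar_iff.1 ha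
    obtain ⟨t, ht, rfl⟩ := mem_rbar_iff.1 hb
    rw [← QuotientGroup.mk_mul, ← QuotientGroup.mk_mul]
    congr 1
    refine Subtype.ext ?_
    show (s : Orth Q) * t = t * s
    rcases hCC with ⟨x, hx0, hxL, hxM⟩ | hperp
    · obtain ⟨a, haL, -, hLs⟩ := L.2.exists_partner hxL hx0
      obtain ⟨b, hbM, -, hMs⟩ := M.2.exists_partner hxM hx0
      have hxa := L.2.perp hxL haL
      have hxb := M.2.perp hxM hbM
      obtain ⟨c, hc⟩ := (mem_rootSub_iff (L.2.sing hxL) (L.2.sing haL) hxa hLs).1 hs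
      obtain ⟨d, hd⟩ := (mem_rootSub_iff (M.2.sing hxM) (M.2.sing hbM) hxb hMs).1 ht
      rw [hc, hd, sg_mul (L.2.sing hxL) (by simp [hxa]) (by simp [hxb]),
        sg_mul (L.2.sing hxL) (by simp [hxb]) (by simp [hxa]), add_comm]
    · obtain ⟨u, w, -, hu, hw, huw, hLs⟩ := id L.2
      obtain ⟨u', w', -, hu', hw', huw', hMs⟩ := id M.2
      obtain ⟨c, hc⟩ := (mem_rootSub_iff hu hw huw hLs).1 hs
      obtain ⟨d, hd⟩ := (mem_rootSub_iff hu' hw' huw' hMs).1 ht
      have huL : u ∈ L.1 := hLs ▸ Submodule.subset_span (Set.mem_insert _ _)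
      have hwL : w ∈ L.1 := hLs ▸ Submodule.subset_span (Set.mem_insert_of_mem _ rfl)
      have huM : u' ∈ M.1 := hMs ▸ Submodule.subset_span (Set.mem_insert _ _)
      have hwM : w' ∈ M.1 := hMs ▸ Submodule.subset_span (Set.mem_insert_of_mem _ rfl)
      have hfix : ∀ y ∈ M.1, (s : Orth Q).1 y = y := fun y hy => by
        rw [hc]
        refine sg_fix hu (by simp [huw]) ?_ ?_
        · rw [polar_comm]; exact hperp u huL y hy
        · rw [polar_comm]; exact hperp _ (L.1.smul_mem c hwL) y hy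
      refine mul_inv_eq_iff_eq_mul.1 ?_
      rw [hd, sg_conj, hfix _ huM, hfix _ (M.1.smul_mem d hwM)]

theorem rbar_coplanar_iff (L M : Ln Q) :
    ((∀ a ∈ rbar Q L.1, ∀ b ∈ rbar Q M.1, a * b = b * a) ∧ L ≠ M ∧
      ∃ N : Ln Q, N ≠ L ∧ N ≠ M ∧ rbar Q N.1 ≤ rbar Q L.1 ⊔ rbar Q M.1) ↔ AA L M := by
  constructor
  · rintro ⟨hc, hne, N, hNL, hNM, hle⟩
    refine ⟨hne, ?_⟩
    obtain ⟨n₁, n₂, hindN, hn₁, hn₂, hn12, hNs⟩ := id N.2
    have hN1 : n₁ ∈ N.1 := hNs ▸ Submodule.subset_span (Set.mem_insert _ _)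
    have hN2 : n₂ ∈ N.1 := hNs ▸ Submodule.subset_span (Set.mem_insert_of_mem _ rfl)
    obtain ⟨_, hA, _, hB, hAB⟩ := exists_mul_of_mem_sup hc
      (hle (mem_rbar_iff.2 ⟨⟨sg Q n₁ n₂, sg_mem n₁ n₂⟩, sg_mem_rootSub hN1 hN2, rfl⟩))
    obtain ⟨a, ha, rfl⟩ := mem_rbar_iff.1 hA
    obtain ⟨b, hb, rfl⟩ := mem_rbar_iff.1 hB
    have hab : Commute a b := commute_of_mk_commute hnd P p (k := 1)
      (by rw [pow_one]; exact pow_eq_one_of_mem p M.2 hb) (hc _ hA _ hB)
    have heq : sg Q n₁ n₂ = (a : Orth Q) * b := congrArg Subtype.val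
      (eq_of_mk_eq hnd P p (a := ⟨sg Q n₁ n₂, sg_mem n₁ n₂⟩) (b := a * b)
        (Subtype.ext (sg_pow_char p n₁ n₂))
        (by rw [hab.mul_pow, pow_eq_one_of_mem p L.2 ha, pow_eq_one_of_mem p M.2 hb, mul_one])
        (hAB.trans (QuotientGroup.mk_mul _ a b).symm))
    have hn0 : sg Q n₁ n₂ ≠ 1 := fun h => by
      obtain ⟨c, hcc⟩ := exists_smul_of_sg_eq_one hnd (hindN.ne_zero 0) hn₁ hn12 h
      exact (LinearIndependent.pair_iff' (hindN.ne_zero 0)).1 hindN c hcc
    have hNof : ∀ (K : Ln Q) (x y : V), LinearIndependent F ![x, y] → x ∈ K.1 → y ∈ K.1 →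
        x ∈ N.1 → y ∈ N.1 → N = K := fun K x y hxy h1 h2 h3 h4 =>
      Subtype.ext ((N.2.eq_span h3 h4 hxy).trans (K.2.eq_span h1 h2 hxy).symm)
    rcases (rbar_commute_iff hnd P p L M).1 hc with hmeet | hperp
    · refine ⟨hmeet, ?_⟩
      by_contra hnp
      obtain ⟨x, hx0, hxL, hxM⟩ := hmeet
      obtain ⟨u, huL, hindu, hLs⟩ := L.2.exists_partner hxL hx0
      obtain ⟨w, hwM, hindw, hMs⟩ := M.2.exists_partner hxM hx0
      have hxu := L.2.perp hxL huL
      have hxw := M.2.perp hxM hwM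
      have huw : polar Q u w ≠ 0 := fun h0 => hnp (by
        rw [hLs, hMs]
        refine perp_span ?_
        rintro y (rfl | rfl) z (rfl | rfl)
        · exact polar_singular_self (L.2.sing hxL)
        · exact hxw
        · rw [polar_comm]; exact hxu
        · exact h0)
      obtain ⟨c, hc'⟩ := (mem_rootSub_iff (L.2.sing hxL) (L.2.sing huL) hxu hLs).1 ha
      obtain ⟨d, hd'⟩ := (mem_rootSub_iff (M.2.sing hxM) (M.2.sing hwM) hxw hMs).1 hb
      rw [hc', hd', sg_mul (L.2.sing hxL) (by simp [hxu]) (by simp [hxw])] at heq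
      have hind : LinearIndependent F ![x, c • u + d • w] := by
        rw [LinearIndependent.pair_iff' hx0]
        intro r hr
        apply hn0
        rw [heq, ← hr, ← zero_add (r • x), sg_add_smul r (L.2.sing hxL) (by simp),
          sg_zero (L.2.sing hxL)]
      obtain ⟨h1, h2⟩ := span_of_sg_eq hnd hind (L.2.sing hxL) (by simp [hxu, hxw]) hn₁ hn12
        heq.symm
      rw [← hNs] at h1 h2
      have hQ := N.2.sing h2
      simp [QuadraticMap.map_add Q, QuadraticMap.map_smul, L.2.sing huL, M.2.sing hwM, huw] at hQ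
      rcases hQ with rfl | rfl
      · rw [zero_smul, add_zero] at hind h2
        exact hNL (hNof L _ _ hind hxL (L.1.smul_mem _ huL) h1 h2)
      · rw [zero_smul, zero_add] at hind h2
        exact hNM (hNof M _ _ hind hxM (M.1.smul_mem _ hwM) h1 h2)
    · refine ⟨?_, hperp⟩
      by_contra hnm
      obtain ⟨u, w, hind, hu, hw, huw, hLs⟩ := id L.2
      obtain ⟨u', w', hind', hu', hw', huw', hMs⟩ := id M.2
      have huL : u ∈ L.1 := hLs ▸ Submodule.subset_span (Set.mem_insert _ _)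
      have hwL : w ∈ L.1 := hLs ▸ Submodule.subset_span (Set.mem_insert_of_mem _ rfl)
      have huM : u' ∈ M.1 := hMs ▸ Submodule.subset_span (Set.mem_insert _ _)
      have hwM : w' ∈ M.1 := hMs ▸ Submodule.subset_span (Set.mem_insert_of_mem _ rfl)
      obtain ⟨c, hc'⟩ := (mem_rootSub_iff hu hw huw hLs).1 ha
      obtain ⟨d, hd'⟩ := (mem_rootSub_iff hu' hw' huw' hMs).1 hb
      rw [hc', hd'] at heq
      have hli : LinearIndependent F ![u, w, u', w'] := by
        rw [Fintype.linearIndependent_iff]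
        intro r hr
        simp [Fin.sum_univ_four] at hr
        have hin : r 0 • u + r 1 • w = 0 := by
          by_contra hne
          refine hnm ⟨_, hne, L.1.add_mem (L.1.smul_mem _ huL) (L.1.smul_mem _ hwL), ?_⟩
          rw [show r 0 • u + r 1 • w = -(r 2 • u' + r 3 • w') by
            linear_combination (norm := module) hr]
          exact M.1.neg_mem (M.1.add_mem (M.1.smul_mem _ huM) (M.1.smul_mem _ hwM))
        obtain ⟨h0, h1⟩ := (LinearIndependent.pair_iff.1 hind) _ _ hin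
        obtain ⟨h2, h3⟩ := (LinearIndependent.pair_iff.1 hind') (r 2) (r 3) (by
          linear_combination (norm := module) hr - hin)
        intro i
        fin_cases i <;> assumption
      have heval : ∀ k : Fin 4 → F,
          (k 0 * c) • w + (-(k 1 * c)) • u + (k 2 * d) • w' + (-(k 3 * d)) • u' ∈ N.1 := by
        intro k
        obtain ⟨y, hy⟩ := exists_polar_family hnd hli k
        have h0 := hy 0
        have h1 := hy 1
        have h2 := hy 2
        have h3 := hy 3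
        simp [polar_comm Q _ y] at h0 h1 h2 h3
        have h := congrArg (fun g : Orth Q => g.1 y) heq
        simp only [mul_apply] at h
        have hfix : ∀ z ∈ M.1, (sg Q u (c • w)).1 z = z := fun z hz =>
          sg_fix hu (by simp [huw]) (by rw [polar_comm]; exact hperp u huL z hz)
            (by rw [polar_comm]; exact hperp _ (L.1.smul_mem c hwL) z hz)
        rw [sg_apply hn₁ hn12, sg_apply hu' (by simp [huw'] : polar Q u' (d • w') = 0),
          map_add, map_add, hfix _ (M.1.smul_mem _ (M.1.smul_mem d hwM)),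
          hfix _ (M.1.smul_mem _ huM), sg_apply hu (by simp [huw] : polar Q u (c • w) = 0)] at h
        simp only [polar_smul_right, QuadraticMap.map_smul, hw, hw', h0, h1, h2, h3, smul_eq_mul,
          mul_zero, zero_mul, sub_zero] at h
        have hmem : polar Q y n₁ • n₂ + (-(polar Q y n₂) - Q n₂ * polar Q y n₁) • n₁ ∈ N.1 :=
          N.1.add_mem (N.1.smul_mem _ hN2) (N.1.smul_mem _ hN1)
        convert hmem using 1
        linear_combination (norm := module) -h
      by_cases hc0 : c = 0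
      · by_cases hd0 : d = 0
        · exact hn0 (by rw [heq, hc0, hd0, zero_smul, zero_smul, sg_zero hu, sg_zero hu', one_mul])
        · have h1 := heval ![0, 0, d⁻¹, 0]
          have h2 := heval ![0, 0, 0, d⁻¹]
          simp [hd0, hc0] at h1 h2
          exact hNM (hNof M u' w' hind' huM hwM h2 h1)
      · have h1 := heval ![c⁻¹, 0, 0, 0]
        have h2 := heval ![0, c⁻¹, 0, 0]
        simp [hc0] at h1 h2
        exact hNL (hNof L u w hind huL hwL h2 h1)
  · rintro ⟨hne, ⟨x, hx0, hxL, hxM⟩, hperp⟩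
    refine ⟨(rbar_commute_iff hnd P p L M).2 (Or.inr hperp), hne, ?_⟩
    obtain ⟨u, huL, hindu, hLs⟩ := L.2.exists_partner hxL hx0
    obtain ⟨w, hwM, hindw, hMs⟩ := M.2.exists_partner hxM hx0
    have hxu := L.2.perp hxL huL
    have hxw := M.2.perp hxM hwM
    have hwnot : w ∉ L.1 := fun h => hne
      (Subtype.ext ((L.2.eq_span hxL h hindw).trans hMs.symm))
    have hunot : u ∉ M.1 := fun h => hne
      (Subtype.ext (hLs.trans (M.2.eq_span hxM h hindu).symm))
    have hind : LinearIndependent F ![x, u + w] := by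
      rw [LinearIndependent.pair_iff' hx0]
      intro r hr
      refine hwnot ?_
      rw [show w = r • x - u by rw [hr]; abel]
      exact L.1.sub_mem (L.1.smul_mem r hxL) huL
    have hQ : Q (u + w) = 0 := by
      rw [QuadraticMap.map_add Q, L.2.sing huL, M.2.sing hwM, hperp u huL w hwM, add_zero, add_zero]
    have hxuw : polar Q x (u + w) = 0 := by simp [hxu, hxw]
    let N : Ln Q := ⟨_, isLine_span hind (L.2.sing hxL) hQ hxuw⟩
    have hxN : u + w ∈ N.1 := Submodule.subset_span (Set.mem_insert_of_mem _ rfl)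
    refine ⟨N, fun h => hwnot ?_, fun h => hunot ?_, ?_⟩
    · rw [show w = (u + w) - u by abel]
      exact L.1.sub_mem (h ▸ hxN) huL
    · rw [show u = (u + w) - w by abel]
      exact M.1.sub_mem (h ▸ hxN) hwM
    · intro z hz
      obtain ⟨s, hs, rfl⟩ := mem_rbar_iff.1 hz
      obtain ⟨t, ht⟩ := (mem_rootSub_iff (L.2.sing hxL) hQ hxuw rfl).1 hs
      have hs' : s = (⟨sg Q x (t • u), sg_mem _ _⟩ : siegelGroup Q) * ⟨sg Q x (t • w), sg_mem _ _⟩ :=
        Subtype.ext (by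
          rw [Subgroup.coe_mul, ht, sg_mul (L.2.sing hxL) (by simp [hxu]) (by simp [hxw]), smul_add])
      rw [hs', QuotientGroup.mk_mul]
      exact Subgroup.mul_mem_sup
        (mem_rbar_iff.2 ⟨_, sg_mem_rootSub hxL (L.1.smul_mem t huL), rfl⟩)
        (mem_rbar_iff.2 ⟨_, sg_mem_rootSub hxM (M.1.smul_mem t hwM), rfl⟩)

end Group

section Model

variable {W : Type*} [AddCommGroup W] [Module F W] [FiniteDimensional F W] {m : ℕ}
variable {R : QuadraticForm F W}
variable (hR : NDPolar R) (hm : 3 ≤ m)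

local notation "𝐐" => hypForm m R

/-- A permutation of the lines preserving the two incidences read off from the group. -/
structure LinePerm (Q : QuadraticForm F V) where
  /-- the permutation -/
  π : Ln Q ≃ Ln Q
  cc : ∀ L M, CC (π L) (π M) ↔ CC L M
  aa : ∀ L M, AA (π L) (π M) ↔ AA L M

include hR hm in
/-- An automorphism of the central quotient gives a permutation of the lines. -/
theorem exists_linePerm [Fintype F] (p : ℕ) [Fact p.Prime] [CharP F p] (β : MulAut (POm 𝐐)) :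
    ∃ τ : LinePerm 𝐐, ∀ L, (rbar 𝐐 L.1).map β.toMonoidHom = rbar 𝐐 (τ.π L).1 := by
  have hnd := ndPolar_hypForm hR m
  choose f hf1 hf2 using fun L : Ln 𝐐 => exists_map_rbar hR hm p β L.2
  choose g hg1 hg2 using fun L : Ln 𝐐 => exists_map_rbar hR hm p β⁻¹ L.2
  have hmm : ∀ (γ : MulAut (POm 𝐐)) (H : Subgroup (POm 𝐐)),
      (H.map γ.toMonoidHom).map (γ⁻¹).toMonoidHom = H := by
    intro γ H
    rw [Subgroup.map_map]
    convert H.map_id
    exact MonoidHom.ext fun x => γ.symm_apply_apply x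
  let π : Ln 𝐐 ≃ Ln 𝐐 :=
    { toFun := fun L => ⟨f L, hf1 L⟩
      invFun := fun L => ⟨g L, hg1 L⟩
      left_inv := fun L => Subtype.ext (rbar_injective hnd (frame R hm) p (hg1 _) L.2 (by
        rw [← hg2, ← hf2 L, hmm]))
      right_inv := fun L => Subtype.ext (rbar_injective hnd (frame R hm) p (hf1 _) L.2 (by
        have h := hmm β⁻¹ (rbar 𝐐 L.1)
        rw [hg2 L, inv_inv] at h
        rw [← hf2, h])) }
  have hπ : ∀ L, (rbar 𝐐 L.1).map β.toMonoidHom = rbar 𝐐 (π L).1 := hf2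
  have hc : ∀ L M : Ln 𝐐, (∀ a ∈ rbar 𝐐 (π L).1, ∀ b ∈ rbar 𝐐 (π M).1, a * b = b * a) ↔
      (∀ a ∈ rbar 𝐐 L.1, ∀ b ∈ rbar 𝐐 M.1, a * b = b * a) := by
    intro L M
    rw [← hπ, ← hπ]
    refine ⟨fun h a ha b hb => ?_, fun h => ?_⟩
    · have := h _ (Subgroup.mem_map_of_mem _ ha) _ (Subgroup.mem_map_of_mem _ hb)
      rw [← map_mul, ← map_mul] at this
      exact β.injective this
    · rintro _ ⟨a, ha, rfl⟩ _ ⟨b, hb, rfl⟩
      rw [← map_mul, ← map_mul, h a ha b hb]
  refine ⟨⟨π, fun L M => ?_, fun L M => ?_⟩, hπ⟩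
  · rw [← rbar_commute_iff hnd (frame R hm) p, ← rbar_commute_iff hnd (frame R hm) p]
    exact hc L M
  · rw [← rbar_coplanar_iff hnd (frame R hm) p, ← rbar_coplanar_iff hnd (frame R hm) p]
    refine and_congr (hc L M) (and_congr π.injective.ne_iff ?_)
    rw [← hπ, ← hπ, ← Subgroup.map_sup]
    constructor
    · rintro ⟨N, h1, h2, h3⟩
      obtain ⟨N', rfl⟩ := π.surjective N
      refine ⟨N', π.injective.ne_iff.1 h1, π.injective.ne_iff.1 h2, ?_⟩
      rw [← hπ] at h3
      exact (Subgroup.map_le_map_iff_of_injective β.injective).1 h3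
    · rintro ⟨N, h1, h2, h3⟩
      refine ⟨π N, π.injective.ne h1, π.injective.ne h2, ?_⟩
      rw [← hπ]
      exact Subgroup.map_mono h3

/-- The group-theoretic criterion separating disjoint orthogonal pairs from bent pairs. -/
def Pc (L M : Ln Q) : Prop :=
  (∃ N N' : Ln Q, (AA N L ∧ AA N M) ∧ (AA N' L ∧ AA N' M) ∧ AA N N') ∧
    ¬ ∃ N N₁ N₂ N₃ : Ln Q, (AA N L ∧ AA N M) ∧ (AA N₁ L ∧ AA N₁ M) ∧ (AA N₂ L ∧ AA N₂ M) ∧
      (AA N₃ L ∧ AA N₃ M) ∧ AA N N₁ ∧ AA N N₂ ∧ AA N N₃ ∧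
      (N₁ ≠ N₂ ∧ ¬ AA N₁ N₂) ∧ (N₁ ≠ N₃ ∧ ¬ AA N₁ N₃) ∧ (N₂ ≠ N₃ ∧ ¬ AA N₂ N₃)

theorem pc_of_disjoint {L M : Ln Q} (hm' : ¬ Meet L.1 M.1) (hp : Perp Q L.1 M.1) : Pc L M := by
  have hLM : Perp Q (L.1 ⊔ M.1) (L.1 ⊔ M.1) := by
    rw [← Submodule.span_eq L.1, ← Submodule.span_eq M.1, ← Submodule.span_union]
    refine perp_span ?_
    rintro x (hx | hx) y (hy | hy)
    · exact L.2.perp hx hy
    · exact hp x hx y hy
    · rw [polar_comm]; exact hp y hy x hx
    · exact M.2.perp hx hy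
  have hcl : L.1 ≤ L.1 ⊔ M.1 := le_sup_left
  have hcr : M.1 ≤ L.1 ⊔ M.1 := le_sup_right
  constructor
  · obtain ⟨u, w, hind, hu, hw, huw, hLs⟩ := id L.2
    obtain ⟨u', w', hind', hu', hw', huw', hMs⟩ := id M.2
    have huL : u ∈ L.1 := hLs ▸ Submodule.subset_span (Set.mem_insert _ _)
    have huM : u' ∈ M.1 := hMs ▸ Submodule.subset_span (Set.mem_insert _ _)
    have hwM : w' ∈ M.1 := hMs ▸ Submodule.subset_span (Set.mem_insert_of_mem _ rfl)
    have hu0 : u ≠ 0 := hind.ne_zero 0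
    have mk : ∀ y ∈ M.1, y ≠ 0 → ∃ N : Ln Q, (AA N L ∧ AA N M) ∧ u ∈ N.1 ∧ y ∈ N.1 ∧
        N.1 ≤ L.1 ⊔ M.1 := by
      intro y hy hy0
      have hind2 : LinearIndependent F ![u, y] := by
        rw [LinearIndependent.pair_iff' hu0]
        intro r hr
        exact hm' ⟨y, hy0, hr ▸ L.1.smul_mem r huL, hy⟩
      let N : Ln Q := ⟨_, isLine_span hind2 hu (M.2.sing hy) (hp u huL y hy)⟩
      have hNle : N.1 ≤ L.1 ⊔ M.1 := by
        show Submodule.span F _ ≤ _
        rw [Submodule.span_le]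
        rintro z (rfl | rfl)
        · exact hcl huL
        · exact hcr hy
      have h1 : u ∈ N.1 := Submodule.subset_span (Set.mem_insert _ _)
      have h2 : y ∈ N.1 := Submodule.subset_span (Set.mem_insert_of_mem _ rfl)
      refine ⟨N, ⟨⟨fun h => ?_, ⟨u, hu0, h1, huL⟩, fun a ha b hb => hLM a (hNle ha) b (hcl hb)⟩,
        ⟨fun h => ?_, ⟨y, hy0, h2, hy⟩, fun a ha b hb => hLM a (hNle ha) b (hcr hb)⟩⟩,
        h1, h2, hNle⟩
      · exact hm' ⟨y, hy0, h ▸ h2, hy⟩
      · exact hm' ⟨u, hu0, huL, h ▸ h1⟩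
    obtain ⟨N, hN, hNu, hNy, hNle⟩ := mk u' huM (hind'.ne_zero 0)
    obtain ⟨N', hN', hN'u, hN'y, hN'le⟩ := mk w' hwM (hind'.ne_zero 1)
    refine ⟨N, N', hN, hN', ⟨fun h => ?_, ⟨u, hu0, hNu, hN'u⟩,
      fun a ha b hb => hLM a (hNle ha) b (hN'le hb)⟩⟩
    have hNM : N = M := Subtype.ext
      ((N.2.eq_span hNy (h ▸ hN'y) hind').trans (M.2.eq_span huM hwM hind').symm)
    exact hN.2.1 hNM
  · rintro ⟨N, N₁, N₂, N₃, hN, h1, h2, h3, a1, a2, a3, b12, b13, b23⟩
    obtain ⟨a, ha0, haN, haL⟩ := hN.1.2.1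
    obtain ⟨b, hb0, hbN, hbM⟩ := hN.2.2.1
    have hab : LinearIndependent F ![a, b] := by
      rw [LinearIndependent.pair_iff' ha0]
      intro r hr
      exact hm' ⟨b, hb0, hr ▸ L.1.smul_mem r haL, hbM⟩
    have key : ∀ K : Ln Q, AA K L → AA K M → AA N K →
        (a ∈ K.1 ∨ b ∈ K.1) ∧ K.1 ≤ L.1 ⊔ M.1 := by
      intro K hKL hKM hNK
      obtain ⟨a', ha'0, ha'K, ha'L⟩ := hKL.2.1
      obtain ⟨b', hb'0, hb'K, hb'M⟩ := hKM.2.1
      have hab' : LinearIndependent F ![a', b'] := by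
        rw [LinearIndependent.pair_iff' ha'0]
        intro r hr
        exact hm' ⟨b', hb'0, hr ▸ L.1.smul_mem r ha'L, hb'M⟩
      have hKs := K.2.eq_span ha'K hb'K hab'
      refine ⟨?_, ?_⟩
      · obtain ⟨z, hz0, hzN, hzK⟩ := hNK.2.1
        rw [N.2.eq_span haN hbN hab] at hzN
        rw [hKs] at hzK
        obtain ⟨α, β, hz⟩ := Submodule.mem_span_pair.1 hzN
        obtain ⟨γ, δ, hz'⟩ := Submodule.mem_span_pair.1 hzK
        have h0 : α • a - γ • a' = 0 := by
          by_contra hne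
          refine hm' ⟨_, hne, L.1.sub_mem (L.1.smul_mem _ haL) (L.1.smul_mem _ ha'L), ?_⟩
          rw [show α • a - γ • a' = δ • b' - β • b by
            linear_combination (norm := module) hz - hz']
          exact M.1.sub_mem (M.1.smul_mem _ hb'M) (M.1.smul_mem _ hbM)
        rw [sub_eq_zero] at h0
        by_cases hα : α = 0
        · right
          have hβ : β ≠ 0 := fun hβ => hz0 (by rw [← hz, hα, hβ]; simp)
          have h5 : β • b = z := by rw [← hz, hα]; simp
          rw [show b = β⁻¹ • z by rw [← h5, smul_smul, inv_mul_cancel₀ hβ, one_smul], hKs]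
          exact Submodule.smul_mem _ _ hzK
        · left
          rw [show a = α⁻¹ • γ • a' by rw [← h0, smul_smul, inv_mul_cancel₀ hα, one_smul]]
          exact K.1.smul_mem _ (K.1.smul_mem _ ha'K)
      · rw [hKs, Submodule.span_le]
        rintro z (rfl | rfl)
        · exact hcl ha'L
        · exact hcr hb'M
    obtain ⟨k1, l1⟩ := key N₁ h1.1 h1.2 a1
    obtain ⟨k2, l2⟩ := key N₂ h2.1 h2.2 a2
    obtain ⟨k3, l3⟩ := key N₃ h3.1 h3.2 a3
    have mkA : ∀ {K K' : Ln Q} {z : V}, z ≠ 0 → K ≠ K' → z ∈ K.1 → z ∈ K'.1 →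
        K.1 ≤ L.1 ⊔ M.1 → K'.1 ≤ L.1 ⊔ M.1 → AA K K' := fun hz hne hzK hzK' hl hl' =>
      ⟨hne, ⟨_, hz, hzK, hzK'⟩, fun x hx y hy => hLM x (hl hx) y (hl' hy)⟩
    rcases k1 with k1 | k1 <;> rcases k2 with k2 | k2 <;> rcases k3 with k3 | k3 <;>
      first
      | exact b12.2 (mkA ha0 b12.1 k1 k2 l1 l2)
      | exact b12.2 (mkA hb0 b12.1 k1 k2 l1 l2)
      | exact b13.2 (mkA ha0 b13.1 k1 k3 l1 l3)
      | exact b13.2 (mkA hb0 b13.1 k1 k3 l1 l3)
      | exact b23.2 (mkA ha0 b23.1 k2 k3 l2 l3)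
      | exact b23.2 (mkA hb0 b23.1 k2 k3 l2 l3)

/-- The hypothesis giving three pairwise non-orthogonal lines at a point, for `m ≥ 4`. -/
def ClawHyp (R : QuadraticForm F W) (m : ℕ) : Prop :=
  m = 3 ∨ ∃ h4 : 4 ≤ m, ∃ v : Vm F m W, hypForm m R v ≠ 0 ∧
    ∀ l : Fin m, l.1 < 4 → v.1.1 l = 0 ∧ v.1.2 l = 0

include hR hm in
theorem not_pc_of_bent (hRan : ∀ w, R w = 0 → w = 0) (hcl : ClawHyp R m) {L M : Ln 𝐐}
    (hmeet : Meet L.1 M.1) (hnp : ¬ Perp 𝐐 L.1 M.1) : ¬ Pc L M := by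
  obtain ⟨x, hx0, hxL, hxM⟩ := hmeet
  obtain ⟨a, haL, hinda, hLs⟩ := L.2.exists_partner hxL hx0
  obtain ⟨b₀, hb₀M, hindb, hMs⟩ := M.2.exists_partner hxM hx0
  have hx : 𝐐 x = 0 := L.2.sing hxL
  have hxa := L.2.perp hxL haL
  have hxb₀ := M.2.perp hxM hb₀M
  have hab₀ : polar 𝐐 a b₀ ≠ 0 := fun h0 => hnp (by
    rw [hLs, hMs]
    refine perp_span ?_
    rintro y (rfl | rfl) z (rfl | rfl)
    · exact polar_singular_self hx
    · exact hxb₀
    · rw [polar_comm]; exact hxa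
    · exact h0)
  set b := (polar 𝐐 a b₀)⁻¹ • b₀ with hb
  have hbM : b ∈ M.1 := M.1.smul_mem _ hb₀M
  have hab : polar 𝐐 a b = 1 := by
    rw [hb, polar_smul_right, smul_eq_mul, inv_mul_cancel₀ hab₀]
  have hxb : polar 𝐐 x b = 0 := M.2.perp hxM hbM
  have hindb' : LinearIndependent F ![x, b] := by
    rw [LinearIndependent.pair_iff' hx0]
    intro r hr
    have := congrArg (polar 𝐐 a) hr
    rw [polar_smul_right, polar_comm 𝐐 a x, hxa, smul_zero, hab] at this
    exact zero_ne_one this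
  have hMs' := M.2.eq_span hxM hbM hindb'
  have hcom : ∀ N : Ln 𝐐, AA N L → AA N M → x ∈ N.1 := by
    intro N hNL hNM
    obtain ⟨z, hz0, hzN, hzL⟩ := hNL.2.1
    obtain ⟨z', hz'0, hz'N, hz'M⟩ := hNM.2.1
    rw [hLs] at hzL
    rw [hMs'] at hz'M
    obtain ⟨s, t, hz⟩ := Submodule.mem_span_pair.1 hzL
    obtain ⟨s', t', hz'⟩ := Submodule.mem_span_pair.1 hz'M
    have h0 := N.2.perp hzN hz'N
    rw [← hz, ← hz'] at h0
    simp [hxb, hab, polar_singular_self hx, polar_comm 𝐐 a x, hxa] at h0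
    rcases h0 with ht | ht
    · have hs : s' ≠ 0 := fun hs => hz'0 (by rw [← hz', hs, ht]; simp)
      rw [show x = s'⁻¹ • z' by rw [← hz', ht, zero_smul, add_zero, smul_smul, inv_mul_cancel₀ hs,
        one_smul]]
      exact N.1.smul_mem _ hz'N
    · have hs : s ≠ 0 := fun hs => hz0 (by rw [← hz, hs, ht]; simp)
      rw [show x = s⁻¹ • z by rw [← hz, ht, zero_smul, add_zero, smul_smul, inv_mul_cancel₀ hs,
        one_smul]]
      exact N.1.smul_mem _ hzN
  rcases hcl with h3 | ⟨h4, v, hv, hvlow⟩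
  · -- no edge among the common lines
    rintro ⟨⟨N, N', hN, hN', hNN'⟩, -⟩
    obtain ⟨n, hnN, hindn, hNs⟩ := N.2.exists_partner (hcom N hN.1 hN.2) hx0
    obtain ⟨n', hn'N, hindn', hN's⟩ := N'.2.exists_partner (hcom N' hN'.1 hN'.2) hx0
    have hxN := hcom N hN.1 hN.2
    have hxn := N.2.perp hxN hnN
    have hxn' := N'.2.perp (hcom N' hN'.1 hN'.2) hn'N
    have hna := hN.1.2.2 n hnN a haL
    have hnb := hN.2.2.2 n hnN b hbM
    have hn'a := hN'.1.2.2 n' hn'N a haL
    have hn'b := hN'.2.2.2 n' hn'N b hbM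
    have hnn' := hNN'.2.2 n hnN n' hn'N
    have hli : LinearIndependent F ![x, a, n, n'] := by
      rw [Fintype.linearIndependent_iff]
      intro r hr
      simp [Fin.sum_univ_four] at hr
      have h1 : r 1 = 0 := by
        have := congrArg (fun z => polar 𝐐 z b) hr
        simpa [hxb, hab, hnb, hn'b] using this
      have h3' : r 3 = 0 := by
        by_contra h
        apply hNN'.1
        have : n' ∈ N.1 := by
          have hmem : r 3 • n' ∈ N.1 := by
            rw [show r 3 • n' = -(r 0 • x + r 2 • n) by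
              rw [h1] at hr; linear_combination (norm := module) hr]
            exact N.1.neg_mem (N.1.add_mem (N.1.smul_mem _ hxN) (N.1.smul_mem _ hnN))
          have := N.1.smul_mem (r 3)⁻¹ hmem
          rwa [smul_smul, inv_mul_cancel₀ h, one_smul] at this
        exact Subtype.ext ((N.2.eq_span hxN this hindn').trans hN's.symm)
      obtain ⟨h0, h2⟩ := (LinearIndependent.pair_iff.1 hindn) (r 0) (r 2) (by
        rw [h1, h3'] at hr; linear_combination (norm := module) hr)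
      intro i
      fin_cases i <;> assumption
    let U := Submodule.span F (Set.range ![x, a, n, n'])
    have hU : ∀ z ∈ U, 𝐐 z = 0 := fun z hz => by
      refine sing_span ?_ ?_ hz
      · simp [Fin.forall_fin_succ, hx, L.2.sing haL, N.2.sing hnN, N'.2.sing hn'N]
      · simp [Fin.forall_fin_succ, polar_comm 𝐐 a x, polar_comm 𝐐 n x, polar_comm 𝐐 n' x,
          polar_comm 𝐐 n' n, polar_comm 𝐐 a n, polar_comm 𝐐 a n', hxa, hxn, hxn', hna, hn'a, hnn',
          polar_singular_self, hx, L.2.sing haL, N.2.sing hnN, N'.2.sing hn'N]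
    have h1 := finrank_le_of_totally_singular hRan U hU
    rw [finrank_span_eq_card hli, h3] at h1
    simp at h1
  · -- a claw
    rintro ⟨-, hno⟩
    apply hno
    let i : Fin m := ⟨0, by omega⟩
    let j : Fin m := ⟨1, by omega⟩
    let k : Fin m := ⟨2, by omega⟩
    let l : Fin m := ⟨3, by omega⟩
    have hij : i ≠ j := by simp [i, j]
    obtain ⟨g, hgi, hgj, hgf⟩ := exists_orth_bent hR hij hx0 hx (L.2.sing haL) (M.2.sing hbM) hxa
      hxb hab
    obtain ⟨vi, vi'⟩ := hvlow i (by simp [i])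
    obtain ⟨vj, vj'⟩ := hvlow j (by simp [j])
    obtain ⟨vk, vk'⟩ := hvlow k (by simp [k])
    obtain ⟨vl, vl'⟩ := hvlow l (by simp [l])
    set β := -(𝐐 v) with hβdef
    have hβ : β ≠ 0 := neg_ne_zero.2 hv
    set w₃ := ee l + β • ff l + v with hw₃
    have mk : ∀ w : Vm F m W, 𝐐 w = 0 → polar 𝐐 w (ee i) = 0 → polar 𝐐 w (ee j) = 0 →
        polar 𝐐 w (ff j) = 0 → (∃ t : Fin m, t ≠ i ∧ t ≠ j ∧ (w.1.1 t ≠ 0 ∨ w.1.2 t ≠ 0)) →
        ∃ N : Ln 𝐐, (AA N L ∧ AA N M) ∧ N.1 = Submodule.span F {g.1 (ee i), g.1 w} := by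
      intro w hw hwi hwj hwf ⟨t, hti, htj, ht⟩
      have hind : LinearIndependent F ![g.1 (ee i), g.1 w] := by
        rw [hgi, LinearIndependent.pair_iff' hx0]
        intro r hr
        have h' : r • ee i = w := g.1.injective (by rw [map_smul, hgi, hr])
        rcases ht with ht | ht <;> apply ht <;> rw [← h'] <;> simp [hti]
      let N : Ln 𝐐 := ⟨_, isLine_span hind (by rw [orth_Q, Q_ee]) (by rw [orth_Q, hw])
        (by rw [orth_polar, polar_comm]; exact hwi)⟩
      have hNx : x ∈ N.1 := hgi ▸ Submodule.subset_span (Set.mem_insert _ _)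
      have hNw : g.1 w ∈ N.1 := Submodule.subset_span (Set.mem_insert_of_mem _ rfl)
      refine ⟨N, ⟨⟨fun h => ?_, ⟨x, hx0, hNx, hxL⟩, ?_⟩, fun h => ?_, ⟨x, hx0, hNx, hxM⟩, ?_⟩, rfl⟩
      · have := h ▸ hNw
        rw [hLs, ← hgi, ← hgj] at this
        obtain ⟨r, s, hrs⟩ := Submodule.mem_span_pair.1 this
        have h' : r • ee i + s • ee j = w := g.1.injective (by simpa using hrs)
        rcases ht with ht | ht <;> apply ht <;> rw [← h'] <;> simp [hti, htj]
      · rw [hLs, ← hgi, ← hgj]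
        refine perp_span ?_
        rintro y (rfl | rfl) z (rfl | rfl) <;> rw [orth_polar]
        · exact polar_singular_self (Q_ee i)
        · simp [polar_ee_right]
        · exact hwi
        · exact hwj
      · have := h ▸ hNw
        rw [hMs', ← hgi, ← hgf] at this
        obtain ⟨r, s, hrs⟩ := Submodule.mem_span_pair.1 this
        have h' : r • ee i + s • ff j = w := g.1.injective (by simpa using hrs)
        rcases ht with ht | ht <;> apply ht <;> rw [← h'] <;> simp [hti, htj]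
      · rw [hMs', ← hgi, ← hgf]
        refine perp_span ?_
        rintro y (rfl | rfl) z (rfl | rfl) <;> rw [orth_polar]
        · exact polar_singular_self (Q_ee i)
        · simp [polar_ff_right, hij, Ne.symm hij]
        · exact hwi
        · exact hwf
    have hki : k ≠ i := by simp [k, i]
    have hkj : k ≠ j := by simp [k, j]
    have hli' : l ≠ i := by simp [l, i]
    have hlj : l ≠ j := by simp [l, j]
    have hlk : l ≠ k := by simp [l, k]
    obtain ⟨N, hN, hNs⟩ := mk (ee k) (Q_ee k) (by simp [polar_ee_right]) (by simp [polar_ee_right])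
      (by simp [polar_ff_right, hkj, Ne.symm hkj]) ⟨k, hki, hkj, Or.inl (by simp)⟩
    obtain ⟨N₁, hN₁, hN₁s⟩ := mk (ee l) (Q_ee l) (by simp [polar_ee_right])
      (by simp [polar_ee_right]) (by simp [polar_ff_right, hlj, Ne.symm hlj])
      ⟨l, hli', hlj, Or.inl (by simp)⟩
    obtain ⟨N₂, hN₂, hN₂s⟩ := mk (ff l) (Q_ff l) (by simp [polar_ee_right, hli', Ne.symm hli'])
      (by simp [polar_ee_right, hlj, Ne.symm hlj]) (by simp [polar_ff_right])
      ⟨l, hli', hlj, Or.inr (by simp)⟩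
    have hvff : polar 𝐐 v (ff l) = 0 := by simp [polar_ff_right, vl]
    have hvee : polar 𝐐 v (ee l) = 0 := by simp [polar_ee_right, vl']
    have hQw₃ : 𝐐 w₃ = 0 := by
      rw [hw₃, QuadraticMap.map_add 𝐐, QuadraticMap.map_add 𝐐]
      simp [QuadraticMap.map_smul, Q_ee, Q_ff, polar_ff_right, polar_comm 𝐐 _ v, hvff, hvee, hβdef]
    obtain ⟨N₃, hN₃, hN₃s⟩ := mk w₃ hQw₃
      (by simp [hw₃, polar_ee_right, hli', Ne.symm hli', vi'])
      (by simp [hw₃, polar_ee_right, hlj, Ne.symm hlj, vj'])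
      (by simp [hw₃, polar_ff_right, hlj, Ne.symm hlj, vj])
      ⟨l, hli', hlj, Or.inl (by simp [hw₃, vl])⟩
    have mkA : ∀ (K K' : Ln 𝐐) (w w' : Vm F m W), K.1 = Submodule.span F {g.1 (ee i), g.1 w} →
        K'.1 = Submodule.span F {g.1 (ee i), g.1 w'} → polar 𝐐 (ee i) w = 0 →
        polar 𝐐 (ee i) w' = 0 → polar 𝐐 w w' = 0 →
        (∀ r s : F, r • ee i + s • w ≠ w') → AA K K' := by
      intro K K' w w' hK hK' h1 h2 h3 h4
      refine ⟨fun h => ?_, ⟨x, hx0, ?_, ?_⟩, ?_⟩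
      · have hm' : g.1 w' ∈ K.1 := h ▸ hK' ▸ Submodule.subset_span (Set.mem_insert_of_mem _ rfl)
        rw [hK] at hm'
        obtain ⟨r, s, hrs⟩ := Submodule.mem_span_pair.1 hm'
        exact h4 r s (g.1.injective (by simpa using hrs))
      · rw [hK, hgi]; exact Submodule.subset_span (Set.mem_insert _ _)
      · rw [hK', hgi]; exact Submodule.subset_span (Set.mem_insert _ _)
      · rw [hK, hK']
        refine perp_span ?_
        rintro y (rfl | rfl) z (rfl | rfl) <;> rw [orth_polar]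
        · exact polar_singular_self (Q_ee i)
        · exact h2
        · rw [polar_comm]; exact h1
        · exact h3
    have mkB : ∀ (K K' : Ln 𝐐) (w w' : Vm F m W), K.1 = Submodule.span F {g.1 (ee i), g.1 w} →
        K'.1 = Submodule.span F {g.1 (ee i), g.1 w'} → polar 𝐐 w w' ≠ 0 → K ≠ K' ∧ ¬ AA K K' := by
      intro K K' w w' hK hK' h
      have h1 : g.1 w ∈ K.1 := hK ▸ Submodule.subset_span (Set.mem_insert_of_mem _ rfl)
      have h2 : g.1 w' ∈ K'.1 := hK' ▸ Submodule.subset_span (Set.mem_insert_of_mem _ rfl)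
      refine ⟨fun he => h ?_, fun hA => h ?_⟩
      · rw [← orth_polar g]; exact K.2.perp h1 (he ▸ h2)
      · rw [← orth_polar g]; exact hA.2.2 _ h1 _ h2
    refine ⟨N, N₁, N₂, N₃, hN, hN₁, hN₂, hN₃,
      mkA N N₁ _ _ hNs hN₁s (by simp [polar_ee_right]) (by simp [polar_ee_right])
        (by simp [polar_ee_right]) ?_,
      mkA N N₂ _ _ hNs hN₂s (by simp [polar_ee_right])
        (by simp [polar_ff_right, hli', Ne.symm hli']) (by simp [polar_ff_right, hlk, Ne.symm hlk])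
        ?_,
      mkA N N₃ _ _ hNs hN₃s (by simp [polar_ee_right])
        (by simp [hw₃, polar_ee_left, hli', Ne.symm hli', vi'])
        (by simp [hw₃, polar_ee_left, hlk, Ne.symm hlk, vk']) ?_,
      mkB N₁ N₂ _ _ hN₁s hN₂s (by simp [polar_ff_right]),
      mkB N₁ N₃ _ _ hN₁s hN₃s (by simp [hw₃, polar_ee_left, Q_ee, vl', hβ]),
      mkB N₂ N₃ _ _ hN₂s hN₃s (by simp [hw₃, polar_ff_left, Q_ff, vl])⟩
    · intro r s h
      simpa [hlk, Ne.symm hlk, hli', Ne.symm hli'] using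
        congrArg (fun z : Vm F m W => z.1.1 l) h
    · intro r s h
      simpa using congrArg (fun z : Vm F m W => z.1.2 l) h
    · intro r s h
      simpa [hw₃, hlk, Ne.symm hlk, hli', Ne.symm hli', vl] using
        congrArg (fun z : Vm F m W => z.1.1 l) h

include hR hm in
theorem meet_iff_group (hRan : ∀ w, R w = 0 → w = 0) (hcl : ClawHyp R m) (L M : Ln 𝐐) :
    Meet L.1 M.1 ↔ L = M ∨ AA L M ∨ (CC L M ∧ ¬ AA L M ∧ L ≠ M ∧ ¬ Pc L M) := by
  constructor
  · intro h
    by_cases he : L = M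
    · exact Or.inl he
    by_cases hp : Perp 𝐐 L.1 M.1
    · exact Or.inr (Or.inl ⟨he, h, hp⟩)
    · exact Or.inr (Or.inr ⟨Or.inl h, fun hA => hp hA.2.2, he,
        not_pc_of_bent hR hm hRan hcl h hp⟩)
  · rintro (rfl | h | ⟨hC, -, -, hP⟩)
    · obtain ⟨u, w, hind, -, -, -, hs⟩ := id L.2
      exact ⟨u, hind.ne_zero 0, hs ▸ Submodule.subset_span (Set.mem_insert _ _),
        hs ▸ Submodule.subset_span (Set.mem_insert _ _)⟩
    · exact h.2.1
    · by_contra hn
      exact hP (pc_of_disjoint hn (hC.resolve_left hn))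

include hR hm in
theorem perp_iff_group (hRan : ∀ w, R w = 0 → w = 0) (hcl : ClawHyp R m) (L M : Ln 𝐐) :
    Perp 𝐐 L.1 M.1 ↔ L = M ∨ AA L M ∨ (CC L M ∧ ¬ AA L M ∧ L ≠ M ∧ Pc L M) := by
  constructor
  · intro h
    by_cases he : L = M
    · exact Or.inl he
    by_cases hmeet : Meet L.1 M.1
    · exact Or.inr (Or.inl ⟨he, hmeet, h⟩)
    · exact Or.inr (Or.inr ⟨Or.inr h, fun hA => hmeet hA.2.1, he, pc_of_disjoint hmeet h⟩)
  · rintro (rfl | h | ⟨hC, -, -, hP⟩)
    · exact fun x hx y hy => L.2.perp hx hy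
    · exact h.2.2
    · by_contra hn
      exact not_pc_of_bent hR hm hRan hcl (hC.resolve_right hn) hn hP

theorem LinePerm.pc (τ : LinePerm Q) (L M : Ln Q) : Pc (τ.π L) (τ.π M) ↔ Pc L M := by
  unfold Pc
  refine and_congr ?_ (not_congr ?_)
  · constructor
    · rintro ⟨N, N', h⟩
      obtain ⟨A, rfl⟩ := τ.π.surjective N
      obtain ⟨B, rfl⟩ := τ.π.surjective N'
      simp only [τ.aa] at h
      exact ⟨A, B, h⟩
    · rintro ⟨A, B, h⟩
      refine ⟨τ.π A, τ.π B, ?_⟩
      simp only [τ.aa]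
      exact h
  · constructor
    · rintro ⟨N, N₁, N₂, N₃, h⟩
      obtain ⟨A, rfl⟩ := τ.π.surjective N
      obtain ⟨B, rfl⟩ := τ.π.surjective N₁
      obtain ⟨C, rfl⟩ := τ.π.surjective N₂
      obtain ⟨D, rfl⟩ := τ.π.surjective N₃
      simp only [τ.aa, τ.π.injective.ne_iff] at h
      exact ⟨A, B, C, D, h⟩
    · rintro ⟨A, B, C, D, h⟩
      refine ⟨τ.π A, τ.π B, τ.π C, τ.π D, ?_⟩
      simp only [τ.aa, τ.π.injective.ne_iff]
      exact h

include hR hm in
theorem LinePerm.meet_iff (hRan : ∀ w, R w = 0 → w = 0) (hcl : ClawHyp R m) (τ : LinePerm 𝐐)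
    (L M : Ln 𝐐) : Meet (τ.π L).1 (τ.π M).1 ↔ Meet L.1 M.1 := by
  rw [meet_iff_group hR hm hRan hcl, meet_iff_group hR hm hRan hcl, τ.cc, τ.aa,
    τ.π.injective.eq_iff, τ.π.injective.ne_iff, τ.pc]

include hR hm in
theorem LinePerm.perp_iff (hRan : ∀ w, R w = 0 → w = 0) (hcl : ClawHyp R m) (τ : LinePerm 𝐐)
    (L M : Ln 𝐐) : Perp 𝐐 (τ.π L).1 (τ.π M).1 ↔ Perp 𝐐 L.1 M.1 := by
  rw [perp_iff_group hR hm hRan hcl, perp_iff_group hR hm hRan hcl, τ.cc, τ.aa,
    τ.π.injective.eq_iff, τ.π.injective.ne_iff, τ.pc]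

end Model

end CfsgLib.AutPOmega
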