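import Mathlib
import Cfsg.Agent.Lib.AutPOmega.Lines

/-!
The permutation of the lines comes from a permutation of the singular points.
-/

set_option autoImplicit false
set_option maxHeartbeats 400000

namespace CfsgLib.AutPOmega

open QuadraticMap Module CfsgLib.Classical.Quad

variable {F V : Type*} [Field F] [AddCommGroup V] [Module F V]
variable {Q : QuadraticForm F V}

/-- A map of vectors inducing a collineation of the singular points. -/
structure PtAut (Q : QuadraticForm F V) (f : V → V) : Prop where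
  sing : ∀ x, x ≠ 0 → Q x = 0 → Q (f x) = 0
  ne : ∀ x, x ≠ 0 → Q x = 0 → f x ≠ 0
  eqv : ∀ x y, x ≠ 0 → Q x = 0 → y ≠ 0 → Q y = 0 →
    ((∃ c : F, f y = c • f x) ↔ ∃ c : F, y = c • x)
  perp : ∀ x y, x ≠ 0 → Q x = 0 → y ≠ 0 → Q y = 0 →
    (polar Q (f x) (f y) = 0 ↔ polar Q x y = 0)
  comb : ∀ x y, LinearIndependent F ![x, y] → Q x = 0 → Q y = 0 → polar Q x y = 0 →
    ∀ a b : F, a • x + b • y ≠ 0 → f (a • x + b • y) ∈ Submodule.span F {f x, f y}

theorem PtAut.comp {f : V → V} (h : PtAut Q f) (g : Orth Q) : PtAut Q (fun x => g.1 (f x)) where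
  sing x hx hQ := by rw [orth_Q]; exact h.sing x hx hQ
  ne x hx hQ := orth_ne_zero g (h.ne x hx hQ)
  eqv x y hx hQx hy hQy := by
    rw [← h.eqv x y hx hQx hy hQy]
    refine exists_congr fun c => ?_
    rw [← map_smul]
    exact g.1.injective.eq_iff
  perp x y hx hQx hy hQy := by rw [orth_polar]; exact h.perp x y hx hQx hy hQy
  comb x y hind hQx hQy hp a b hne := by
    obtain ⟨s, t, hst⟩ := Submodule.mem_span_pair.1 (h.comb x y hind hQx hQy hp a b hne)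
    refine Submodule.mem_span_pair.2 ⟨s, t, ?_⟩
    rw [← hst, map_add, map_smul, map_smul]

variable {W : Type*} [AddCommGroup W] [Module F W] [FiniteDimensional F W] {m : ℕ}
variable {R : QuadraticForm F W}
variable (hR : NDPolar R) (hm : 3 ≤ m)

local notation "𝐐" => hypForm m R

/-- A bent pair: data at a common point. -/
theorem bent_data {L M : Ln Q} (hmeet : Meet L.1 M.1) (hnp : ¬ Perp Q L.1 M.1) :
    ∃ x a b, x ≠ 0 ∧ x ∈ L.1 ∧ x ∈ M.1 ∧ L.1 = Submodule.span F {x, a} ∧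
      M.1 = Submodule.span F {x, b} ∧ polar Q a b = 1 := by
  obtain ⟨x, hx0, hxL, hxM⟩ := hmeet
  obtain ⟨a, haL, hinda, hLs⟩ := L.2.exists_partner hxL hx0
  obtain ⟨b, hbM, hindb, hMs⟩ := M.2.exists_partner hxM hx0
  have hxa := L.2.perp hxL haL
  have hxb := M.2.perp hxM hbM
  have hab : polar Q a b ≠ 0 := fun h0 => hnp (by
    rw [hLs, hMs]
    refine perp_span ?_
    rintro y (rfl | rfl) z (rfl | rfl)
    · exact polar_singular_self (L.2.sing hxL)
    · exact hxb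
    · rw [polar_comm]; exact hxa
    · exact h0)
  refine ⟨x, a, (polar Q a b)⁻¹ • b, hx0, hxL, hxM, hLs, ?_, by simp [hab]⟩
  refine M.2.eq_span hxM (M.1.smul_mem _ hbM) ?_
  rw [LinearIndependent.pair_iff' hx0] at hindb ⊢
  intro r hr
  exact hindb (polar Q a b * r) (by rw [← smul_smul, hr, smul_smul, mul_inv_cancel₀ hab, one_smul])

/-- The lines meeting both members of a bent pair are the lines through the common point. -/
theorem mem_iff_meet_bent {L M : Ln Q} {x a b : V} (hx0 : x ≠ 0) (hxL : x ∈ L.1) (hxM : x ∈ M.1)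
    (hLs : L.1 = Submodule.span F {x, a}) (hMs : M.1 = Submodule.span F {x, b})
    (hab : polar Q a b = 1) (N : Ln Q) : x ∈ N.1 ↔ Meet N.1 L.1 ∧ Meet N.1 M.1 := by
  refine ⟨fun h => ⟨⟨x, hx0, h, hxL⟩, ⟨x, hx0, h, hxM⟩⟩, ?_⟩
  rintro ⟨⟨z, hz0, hzN, hzL⟩, z', hz'0, hz'N, hz'M⟩
  rw [hLs] at hzL
  rw [hMs] at hz'M
  obtain ⟨s, t, hz⟩ := Submodule.mem_span_pair.1 hzL
  obtain ⟨s', t', hz'⟩ := Submodule.mem_span_pair.1 hz'M
  have haL : a ∈ L.1 := hLs ▸ Submodule.subset_span (Set.mem_insert_of_mem _ rfl)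
  have hbM : b ∈ M.1 := hMs ▸ Submodule.subset_span (Set.mem_insert_of_mem _ rfl)
  have h0 : t' * t = 0 := by
    have h1 := N.2.perp hzN hz'N
    rw [← hz, ← hz'] at h1
    simpa [polar_singular_self (L.2.sing hxL), L.2.perp haL hxL, M.2.perp hxM hbM, hab] using h1
  rcases (mul_eq_zero.1 h0).symm with ht | ht
  · have hs : s ≠ 0 := fun hs => hz0 (by rw [← hz, hs, ht]; simp)
    rw [show x = s⁻¹ • z by rw [← hz, ht, zero_smul, add_zero, smul_smul, inv_mul_cancel₀ hs,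
      one_smul]]
    exact N.1.smul_mem _ hzN
  · have hs : s' ≠ 0 := fun hs => hz'0 (by rw [← hz', hs, ht]; simp)
    rw [show x = s'⁻¹ • z' by rw [← hz', ht, zero_smul, add_zero, smul_smul, inv_mul_cancel₀ hs,
      one_smul]]
    exact N.1.smul_mem _ hz'N

include hR hm in
theorem exists_bent (u : Vm F m W) (hu0 : u ≠ 0) (hu : 𝐐 u = 0) :
    ∃ L M : Ln 𝐐, u ∈ L.1 ∧ u ∈ M.1 ∧ ¬ Perp 𝐐 L.1 M.1 ∧
      ∀ z, z ∈ L.1 → z ∈ M.1 → ∃ c : F, z = c • u := by
  have hnd := ndPolar_hypForm hR m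
  let i : Fin m := ⟨0, by omega⟩
  let j : Fin m := ⟨1, by omega⟩
  have hij : i ≠ j := by simp [i, j]
  have hei : (ee i : Vm F m W) ≠ 0 := fun h => by
    simpa using congrArg (fun z : Vm F m W => z.1.1 i) h
  obtain ⟨g, hg⟩ := exists_refl_singular hnd hei hu0 (Q_ee i) hu
  have h1 : LinearIndependent F ![u, g.1 (ee j)] := by
    rw [LinearIndependent.pair_iff' hu0]
    intro r hr
    rw [← hg, ← map_smul] at hr
    simpa [Ne.symm hij] using congrArg (fun z : Vm F m W => z.1.1 j) (g.1.injective hr)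
  have h2 : LinearIndependent F ![u, g.1 (ff j)] := by
    rw [LinearIndependent.pair_iff' hu0]
    intro r hr
    rw [← hg, ← map_smul] at hr
    simpa using congrArg (fun z : Vm F m W => z.1.2 j) (g.1.injective hr)
  let L : Ln 𝐐 := ⟨_, isLine_span h1 hu (by rw [orth_Q, Q_ee])
    (by rw [← hg, orth_polar]; simp [polar_ee_right])⟩
  let M : Ln 𝐐 := ⟨_, isLine_span h2 hu (by rw [orth_Q, Q_ff])
    (by rw [← hg, orth_polar]; simp [polar_ff_right, Ne.symm hij])⟩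
  refine ⟨L, M, Submodule.subset_span (Set.mem_insert _ _),
    Submodule.subset_span (Set.mem_insert _ _), fun hp => ?_, fun z hzL hzM => ?_⟩
  · have := hp _ (Submodule.subset_span (Set.mem_insert_of_mem _ rfl)) _
      (Submodule.subset_span (Set.mem_insert_of_mem _ rfl))
    rw [orth_polar] at this
    simp [polar_ff_right] at this
  · obtain ⟨a, b, rfl⟩ := Submodule.mem_span_pair.1 hzL
    obtain ⟨c, d, h⟩ := Submodule.mem_span_pair.1 hzM
    have hb : b = 0 := by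
      have h' : c • ee i + d • ff j = a • ee i + b • ee j :=
        g.1.injective (by simpa [hg] using h)
      simpa [Ne.symm hij] using (congrArg (fun z : Vm F m W => z.1.1 j) h').symm
    exact ⟨a, by rw [hb, zero_smul, add_zero]⟩

include hR hm in
/-- The permutation of lines is induced by a collineation of the singular points. -/
theorem exists_ptAut (τ : LinePerm 𝐐)
    (hmeet : ∀ L M, Meet (τ.π L).1 (τ.π M).1 ↔ Meet L.1 M.1)
    (hperp : ∀ L M, Perp 𝐐 (τ.π L).1 (τ.π M).1 ↔ Perp 𝐐 L.1 M.1) :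
    ∃ f : Vm F m W → Vm F m W, PtAut 𝐐 f ∧
      ∀ x, x ≠ 0 → 𝐐 x = 0 → ∀ N : Ln 𝐐, x ∈ N.1 ↔ f x ∈ (τ.π N).1 := by
  have hex : ∀ u : Vm F m W, ∃ u', u ≠ 0 → 𝐐 u = 0 →
      u' ≠ 0 ∧ 𝐐 u' = 0 ∧ ∀ N : Ln 𝐐, u ∈ N.1 ↔ u' ∈ (τ.π N).1 := by
    intro u
    by_cases hu : u ≠ 0 ∧ 𝐐 u = 0
    swap
    · exact ⟨0, fun h1 h2 => absurd ⟨h1, h2⟩ hu⟩
    obtain ⟨L, M, huL, huM, hnp, huniq⟩ := exists_bent hR hm u hu.1 hu.2
    obtain ⟨x, a, b, hx0, hxL, hxM, hLs, hMs, hab⟩ := bent_data ⟨u, hu.1, huL, huM⟩ hnp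
    obtain ⟨c, hc⟩ := huniq x hxL hxM
    have hc0 : c ≠ 0 := fun h => hx0 (by rw [hc, h, zero_smul])
    obtain ⟨x', a', b', hx'0, hx'L, hx'M, hLs', hMs', hab'⟩ := bent_data
      ((hmeet L M).2 ⟨u, hu.1, huL, huM⟩)
      (fun h => hnp ((hperp L M).1 h))
    refine ⟨x', fun _ _ => ⟨hx'0, (τ.π L).2.sing hx'L, fun N => ?_⟩⟩
    rw [mem_iff_meet_bent hx'0 hx'L hx'M hLs' hMs' hab', hmeet,
      hmeet, ← mem_iff_meet_bent hx0 hxL hxM hLs hMs hab, hc]
    exact (N.1.smul_mem_iff hc0).symm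
  choose f hf using hex
  have hline : ∀ x y, LinearIndependent F ![x, y] → 𝐐 x = 0 → 𝐐 y = 0 → polar 𝐐 x y = 0 →
      ∃ N : Ln 𝐐, x ∈ N.1 ∧ y ∈ N.1 ∧ N.1 = Submodule.span F {x, y} := fun x y hind hx hy hxy =>
    ⟨⟨_, isLine_span hind hx hy hxy⟩, Submodule.subset_span (Set.mem_insert _ _),
      Submodule.subset_span (Set.mem_insert_of_mem _ rfl), rfl⟩
  have hindep : ∀ x y : Vm F m W, x ≠ 0 → (¬ ∃ c : F, y = c • x) → LinearIndependent F ![x, y] :=
    fun x y hx h => by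
      rw [LinearIndependent.pair_iff' hx]
      exact fun r hr => h ⟨r, hr.symm⟩
  have heqv : ∀ x y, x ≠ 0 → 𝐐 x = 0 → y ≠ 0 → 𝐐 y = 0 →
      ((∃ c : F, f y = c • f x) ↔ ∃ c : F, y = c • x) := by
    intro x y hx hQx hy hQy
    obtain ⟨hfx, hQfx, hNx⟩ := hf x hx hQx
    obtain ⟨hfy, hQfy, hNy⟩ := hf y hy hQy
    constructor
    · rintro ⟨c, hc⟩
      have hc0 : c ≠ 0 := fun h => hfy (by rw [hc, h, zero_smul])
      obtain ⟨L, M, hL, hM, -, huniq⟩ := exists_bent hR hm x hx hQx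
      have h : ∀ N : Ln 𝐐, x ∈ N.1 → y ∈ N.1 := fun N h => by
        rw [hNy, hc]
        exact (τ.π N).1.smul_mem c ((hNx N).1 h)
      exact huniq y (h L hL) (h M hM)
    · rintro ⟨c, hc⟩
      obtain ⟨L, M, hL, hM, -, huniq⟩ := exists_bent hR hm (f x) hfx hQfx
      obtain ⟨L', rfl⟩ := τ.π.surjective L
      obtain ⟨M', rfl⟩ := τ.π.surjective M
      refine huniq (f y) ((hNy L').1 ?_) ((hNy M').1 ?_)
      · rw [hc]; exact L'.1.smul_mem c ((hNx L').2 hL)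
      · rw [hc]; exact M'.1.smul_mem c ((hNx M').2 hM)
  refine ⟨f, ⟨fun x hx hQ => (hf x hx hQ).2.1, fun x hx hQ => (hf x hx hQ).1, heqv, ?_, ?_⟩,
    fun x hx hQ => (hf x hx hQ).2.2⟩
  · intro x y hx hQx hy hQy
    obtain ⟨hfx, hQfx, hNx⟩ := hf x hx hQx
    obtain ⟨hfy, hQfy, hNy⟩ := hf y hy hQy
    by_cases hp : ∃ c : F, y = c • x
    · obtain ⟨d, hd⟩ := (heqv x y hx hQx hy hQy).2 hp
      obtain ⟨c, hc⟩ := hp
      rw [hd, hc]
      simp [polar_singular_self hQfx, polar_singular_self hQx]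
    constructor
    · intro h
      obtain ⟨K, hK1, hK2, -⟩ := hline _ _ (hindep _ _ hfx
        (fun h' => hp ((heqv x y hx hQx hy hQy).1 h'))) hQfx hQfy h
      obtain ⟨N, rfl⟩ := τ.π.surjective K
      exact N.2.perp ((hNx N).2 hK1) ((hNy N).2 hK2)
    · intro h
      obtain ⟨N, hN1, hN2, -⟩ := hline _ _ (hindep _ _ hx hp) hQx hQy h
      exact (τ.π N).2.perp ((hNx N).1 hN1) ((hNy N).1 hN2)
  · intro x y hind hQx hQy hxy a b hne
    have hx : x ≠ 0 := hind.ne_zero 0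
    have hy : y ≠ 0 := hind.ne_zero 1
    obtain ⟨hfx, hQfx, hNx⟩ := hf x hx hQx
    obtain ⟨hfy, hQfy, hNy⟩ := hf y hy hQy
    obtain ⟨N, hN1, hN2, -⟩ := hline _ _ hind hQx hQy hxy
    have hz : a • x + b • y ∈ N.1 := N.1.add_mem (N.1.smul_mem a hN1) (N.1.smul_mem b hN2)
    have hQz := N.2.sing hz
    have hind' : LinearIndependent F ![f x, f y] := hindep _ _ hfx fun h => by
      obtain ⟨c, hc⟩ := (heqv x y hx hQx hy hQy).1 h
      exact (LinearIndependent.pair_iff' hx).1 hind c hc.symm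
    rw [← (τ.π N).2.eq_span ((hNx N).1 hN1) ((hNy N).1 hN2) hind']
    exact ((hf _ hne hQz).2.2 N).1 hz

end CfsgLib.AutPOmega
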