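import Mathlib
import Cfsg.Agent.Lib.AutPOmega.Points

/-!
A collineation fixing the vertices of a totally singular triangle is semilinear on its sides.
-/

set_option autoImplicit false

namespace CfsgLib.AutPOmega

open QuadraticMap Module CfsgLib.Classical.Quad

variable {F V : Type*} [Field F] [AddCommGroup V] [Module F V]
variable {Q : QuadraticForm F V} {f : V → V}

/-- `f` sends the point of `x` to the point of `y`. -/
def Img (f : V → V) (x y : V) : Prop := ∃ c : F, c ≠ 0 ∧ f x = c • y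

theorem Img.smul_right {x y : V} (h : Img (F := F) f x y) {d : F} (hd : d ≠ 0) :
    Img (F := F) f x (d • y) := by
  obtain ⟨c, hc, hfx⟩ := h
  exact ⟨c / d, div_ne_zero hc hd, by rw [hfx, smul_smul, div_mul_cancel₀ _ hd]⟩

theorem Img.scale (h : PtAut Q f) {x y : V} (hx : x ≠ 0) (hQ : Q x = 0)
    (hi : Img (F := F) f x y) {d : F} (hd : d ≠ 0) : Img (F := F) f (d • x) y := by
  obtain ⟨c, hc, hfx⟩ := hi
  have hne := smul_ne_zero hd hx
  have hQ' : Q (d • x) = 0 := by simp [QuadraticMap.map_smul, hQ]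
  obtain ⟨e, he⟩ := (h.eqv x (d • x) hx hQ hne hQ').2 ⟨d, rfl⟩
  refine ⟨e * c, mul_ne_zero (fun he0 => ?_) hc, by rw [he, hfx, smul_smul]⟩
  exact h.ne _ hne hQ' (by rw [he, he0, zero_smul])

theorem Img.ne_right (h : PtAut Q f) {x y : V} (hx : x ≠ 0) (hQ : Q x = 0)
    (hi : Img (F := F) f x y) : y ≠ 0 := by
  rintro rfl
  obtain ⟨c, -, hc⟩ := hi
  exact h.ne x hx hQ (by rw [hc, smul_zero])

theorem Img.sing_right (h : PtAut Q f) {x y : V} (hx : x ≠ 0) (hQ : Q x = 0)
    (hi : Img (F := F) f x y) : Q y = 0 := by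
  obtain ⟨c, hc, hfx⟩ := hi
  have := h.sing x hx hQ
  simpa [hfx, QuadraticMap.map_smul, hc] using this

theorem Img.polar_iff (h : PtAut Q f) {x x' y y' : V} (hx : x ≠ 0) (hQx : Q x = 0) (hy : y ≠ 0)
    (hQy : Q y = 0) (hi : Img (F := F) f x x') (hj : Img (F := F) f y y') :
    polar Q x' y' = 0 ↔ polar Q x y = 0 := by
  obtain ⟨c, hc, hfx⟩ := hi
  obtain ⟨d, hd, hfy⟩ := hj
  rw [← h.perp x y hx hQx hy hQy, hfx, hfy]
  simp [hc, hd]

theorem Img.prop_of_prop (h : PtAut Q f) {x x' y y' : V} (hx : x ≠ 0) (hQx : Q x = 0) (hy : y ≠ 0)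
    (hQy : Q y = 0) (hi : Img (F := F) f x x') (hj : Img (F := F) f y y') {e : F}
    (he : y' = e • x') : ∃ c : F, y = c • x := by
  obtain ⟨c, hc, hfx⟩ := hi
  obtain ⟨d, hd, hfy⟩ := hj
  refine (h.eqv x y hx hQx hy hQy).1 ⟨d * e / c, ?_⟩
  rw [hfy, he, hfx, smul_smul, smul_smul, div_mul_cancel₀ _ hc]

theorem coeff_pair {p q : V} (hind : LinearIndependent F ![p, q]) {a b a' b' : F}
    (h : a • p + b • q = a' • p + b' • q) : a = a' ∧ b = b' := by
  have h0 : (a - a') • p + (b - b') • q = 0 := by linear_combination (norm := module) h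
  obtain ⟨h1, h2⟩ := LinearIndependent.pair_iff.1 hind _ _ h0
  exact ⟨sub_eq_zero.1 h1, sub_eq_zero.1 h2⟩

/-- The two images of a point on a side coincide. -/
theorem Img.side_unique {p q x : V} (hind : LinearIndependent F ![p, q]) {a b : F}
    (hi : Img (F := F) f x (p + a • q)) (hj : Img (F := F) f x (p + b • q)) : a = b := by
  obtain ⟨c, hc, h1⟩ := hi
  obtain ⟨d, hd, h2⟩ := hj
  have h3 : c • p + (c * a) • q = d • p + (d * b) • q := by
    rw [← smul_smul, ← smul_smul, ← smul_add, ← smul_add, ← h1, ← h2]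
  obtain ⟨hcd, hab⟩ := coeff_pair hind h3
  rw [hcd] at hab
  exact mul_left_cancel₀ hd hab

theorem exists_side (h : PtAut Q f) {p q : V} (hind : LinearIndependent F ![p, q])
    (hp : Q p = 0) (hq : Q q = 0) (hpq : polar Q p q = 0) (fp : Img (F := F) f p p)
    (fq : Img (F := F) f q q) :
    ∃ α : F → F, Function.Injective α ∧ α 0 = 0 ∧ ∀ a, Img (F := F) f (p + a • q) (p + α a • q) := by
  have hp0 : p ≠ 0 := hind.ne_zero 0
  have hq0 : q ≠ 0 := hind.ne_zero 1
  have hz : ∀ a : F, p + a • q ≠ 0 := fun a h0 => by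
    obtain ⟨h1, -⟩ := LinearIndependent.pair_iff.1 hind 1 a (by rwa [one_smul])
    exact one_ne_zero h1
  have hQz : ∀ a : F, Q (p + a • q) = 0 := fun a => by
    simp [QuadraticMap.map_add Q, QuadraticMap.map_smul, hp, hq, hpq]
  have hex : ∀ a : F, ∃ α : F, Img (F := F) f (p + a • q) (p + α • q) := by
    intro a
    have hmem := h.comb p q hind hp hq hpq 1 a (by rw [one_smul]; exact hz a)
    rw [one_smul] at hmem
    obtain ⟨c, hc, hfp⟩ := fp
    obtain ⟨d, hd, hfq⟩ := fq
    obtain ⟨A, B, hAB⟩ := Submodule.mem_span_pair.1 hmem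
    rw [hfp, hfq, smul_smul, smul_smul] at hAB
    by_cases hA : A * c = 0
    · exfalso
      rw [hA, zero_smul, zero_add] at hAB
      have hj : Img (F := F) f (p + a • q) q :=
        ⟨B * d, fun h0 => h.ne _ (hz a) (hQz a) (by rw [← hAB, h0, zero_smul]), hAB.symm⟩
      obtain ⟨e, he⟩ := Img.prop_of_prop h hq0 hq (hz a) (hQz a) ⟨d, hd, hfq⟩ hj (one_smul F q).symm
      obtain ⟨h1, -⟩ := LinearIndependent.pair_iff.1 hind 1 (a - e) (by
        linear_combination (norm := module) he)
      exact one_ne_zero h1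
    · refine ⟨B * d / (A * c), A * c, hA, ?_⟩
      rw [← hAB, smul_add, smul_smul, mul_div_cancel₀ _ hA]
  choose α hα using hex
  refine ⟨α, fun a b hab => ?_, ?_, hα⟩
  · obtain ⟨c, hc⟩ := Img.prop_of_prop h (hz a) (hQz a) (hz b) (hQz b) (hα a) (hα b)
      (show p + α b • q = (1 : F) • (p + α a • q) by rw [hab, one_smul])
    obtain ⟨h1, h2⟩ := coeff_pair hind (show (1 : F) • p + b • q = c • p + (c * a) • q by
      rw [one_smul, hc, smul_add, smul_smul])
    rw [← h1, one_mul] at h2
    exact h2.symm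
  · refine Img.side_unique hind (hα 0) ?_
    rw [zero_smul, add_zero]
    exact fp

/-- The three sides and the interior of a fixed triangle are governed by one field automorphism. -/
theorem triangle [Finite F] (h : PtAut Q f) {p q r : V} (hind : LinearIndependent F ![p, q, r])
    (hp : Q p = 0) (hq : Q q = 0) (hr : Q r = 0) (hpq : polar Q p q = 0) (hpr : polar Q p r = 0)
    (hqr : polar Q q r = 0) (fp : Img (F := F) f p p) (fq : Img (F := F) f q q)
    (fr : Img (F := F) f r r) :
    ∃ (σ : F ≃+* F) (s s' : F), s ≠ 0 ∧ s' ≠ 0 ∧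
      (∀ a, Img (F := F) f (p + a • q) (p + (s * σ a) • q)) ∧
      (∀ b, Img (F := F) f (p + b • r) (p + (s' * σ b) • r)) ∧
      (∀ c, Img (F := F) f (q + c • r) (q + (s' / s * σ c) • r)) ∧
      (∀ a b, Img (F := F) f (p + a • q + b • r) (p + (s * σ a) • q + (s' * σ b) • r)) := by
  have hc3 : ∀ a b c : F, a • p + b • q + c • r = 0 → a = 0 ∧ b = 0 ∧ c = 0 := by
    intro a b c h0
    have := Fintype.linearIndependent_iff.1 hind ![a, b, c]
      (by simpa [Fin.sum_univ_three] using h0)
    exact ⟨by simpa using this 0, by simpa using this 1, by simpa using this 2⟩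
  have eq3 : ∀ a b c a' b' c' : F, a • p + b • q + c • r = a' • p + b' • q + c' • r →
      a = a' ∧ b = b' ∧ c = c' := by
    intro a b c a' b' c' h0
    obtain ⟨h1, h2, h3⟩ := hc3 (a - a') (b - b') (c - c') (by
      linear_combination (norm := module) h0)
    exact ⟨sub_eq_zero.1 h1, sub_eq_zero.1 h2, sub_eq_zero.1 h3⟩
  have ipq : LinearIndependent F ![p, q] := LinearIndependent.pair_iff.2 fun a b h0 => by
    obtain ⟨h1, h2, -⟩ := hc3 a b 0 (by rw [zero_smul, add_zero, h0])
    exact ⟨h1, h2⟩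
  have ipr : LinearIndependent F ![p, r] := LinearIndependent.pair_iff.2 fun a c h0 => by
    obtain ⟨h1, -, h3⟩ := hc3 a 0 c (by rw [zero_smul, add_zero, h0])
    exact ⟨h1, h3⟩
  have iqr : LinearIndependent F ![q, r] := LinearIndependent.pair_iff.2 fun b c h0 => by
    obtain ⟨-, h2, h3⟩ := hc3 0 b c (by rw [zero_smul, zero_add, h0])
    exact ⟨h2, h3⟩
  obtain ⟨α, hαinj, hα0, hα⟩ := exists_side h ipq hp hq hpq fp fq
  obtain ⟨β, hβinj, hβ0, hβ⟩ := exists_side h ipr hp hr hpr fp fr
  obtain ⟨γ, hγinj, hγ0, hγ⟩ := exists_side h iqr hq hr hqr fq fr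
  have hne : ∀ a b : F, p + a • q + b • r ≠ 0 := fun a b h0 =>
    one_ne_zero (hc3 1 a b (by rwa [one_smul])).1
  have hQne : ∀ a b : F, Q (p + a • q + b • r) = 0 := fun a b => by
    simp [QuadraticMap.map_add Q, QuadraticMap.map_smul, hp, hq, hr, hpq, hpr, hqr]
  have hgen : ∀ a b, Img (F := F) f (p + a • q + b • r) (p + α a • q + β b • r) := by
    intro a b
    have i1 : LinearIndependent F ![p + a • q, r] := LinearIndependent.pair_iff.2 fun x y h0 => by
      obtain ⟨h1, -, h3⟩ := hc3 x (x * a) y (by linear_combination (norm := module) h0)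
      exact ⟨h1, h3⟩
    have i2 : LinearIndependent F ![p + b • r, q] := LinearIndependent.pair_iff.2 fun x y h0 => by
      obtain ⟨h1, h2, -⟩ := hc3 x y (x * b) (by linear_combination (norm := module) h0)
      exact ⟨h1, h2⟩
    have m1 := h.comb _ r i1 (by simp [QuadraticMap.map_add Q, QuadraticMap.map_smul, hp, hq, hpq])
      hr (by simp [hpr, hqr]) 1 b (by rw [one_smul]; exact hne a b)
    have m2 := h.comb _ q i2 (by simp [QuadraticMap.map_add Q, QuadraticMap.map_smul, hp, hr, hpr])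
      hq (by simp [hpq, polar_comm Q r q, hqr]) 1 a
      (by rw [one_smul, add_right_comm]; exact hne a b)
    rw [one_smul] at m1 m2
    rw [add_right_comm p (b • r) (a • q)] at m2
    obtain ⟨c1, -, e1⟩ := hα a
    obtain ⟨c2, -, e2⟩ := hβ b
    obtain ⟨c3, hc3', e3⟩ := fr
    obtain ⟨c4, -, e4⟩ := fq
    obtain ⟨A, B, hAB⟩ := Submodule.mem_span_pair.1 m1
    obtain ⟨C, D, hCD⟩ := Submodule.mem_span_pair.1 m2
    rw [e1, e3] at hAB
    rw [e2, e4] at hCD
    obtain ⟨h1, -, h3⟩ := eq3 (A * c1) (A * c1 * α a) (B * c3) (C * c2) (D * c4) (C * c2 * β b)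
      (by linear_combination (norm := module) hAB - hCD)
    refine ⟨A * c1, fun h0 => ?_, ?_⟩
    · have hB : f (p + a • q + b • r) = (B * c3) • r := by
        rw [← hAB, smul_smul, h0, zero_smul, zero_add, smul_smul]
      have hr0 : r ≠ 0 := iqr.ne_zero 1
      obtain ⟨e, he⟩ := Img.prop_of_prop h hr0 hr (hne a b) (hQne a b) ⟨c3, hc3', e3⟩
        ⟨B * c3, fun hB0 => h.ne _ (hne a b) (hQne a b) (by rw [hB, hB0, zero_smul]), hB⟩
        (one_smul F r).symm
      exact one_ne_zero (hc3 1 a (b - e) (by linear_combination (norm := module) he)).1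
    · rw [← h1] at h3
      rw [← hAB, smul_smul B c3 r, h3]
      module
  -- the line through two points of two sides
  have hline : ∀ a c t : F, f (p + (a + t) • q + (t * c) • r) ∈
      Submodule.span F {f (p + a • q), f (q + c • r)} := by
    intro a c t
    have i : LinearIndependent F ![p + a • q, q + c • r] :=
      LinearIndependent.pair_iff.2 fun x y h0 => by
        obtain ⟨h1, h2, -⟩ := hc3 x (x * a + y) (y * c) (by linear_combination (norm := module) h0)
        rw [h1, zero_mul, zero_add] at h2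
        exact ⟨h1, h2⟩
    have he : (1 : F) • (p + a • q) + t • (q + c • r) = p + (a + t) • q + (t * c) • r := by module
    have := h.comb _ _ i (by simp [QuadraticMap.map_add Q, QuadraticMap.map_smul, hp, hq, hpq])
      (by simp [QuadraticMap.map_add Q, QuadraticMap.map_smul, hq, hr, hqr])
      (by simp [hpq, hpr, hqr, polar_singular_self hq]) 1 t (by rw [he]; exact hne _ _)
    rwa [he] at this
  have hrel : ∀ a c t : F, β (t * c) = (α (a + t) - α a) * γ c := by
    intro a c t
    obtain ⟨A, B, hAB⟩ := Submodule.mem_span_pair.1 (hline a c t)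
    obtain ⟨k, hk, ek⟩ := hgen (a + t) (t * c)
    obtain ⟨c1, -, e1⟩ := hα a
    obtain ⟨c2, -, e2⟩ := hγ c
    rw [e1, e2, ek] at hAB
    obtain ⟨h1, h2, h3⟩ := eq3 (A * c1) (A * c1 * α a + B * c2) (B * c2 * γ c)
      k (k * α (a + t)) (k * β (t * c)) (by linear_combination (norm := module) hAB)
    refine mul_left_cancel₀ hk ?_
    rw [← h3]
    linear_combination γ c * h2 - α a * γ c * h1
  have hβα : ∀ t, β t = γ 1 * α t := fun t => by
    have := hrel 0 1 t
    rw [mul_one, zero_add, hα0, sub_zero] at this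
    rw [this, mul_comm]
  have hγ1 : γ 1 ≠ 0 := fun h0 => one_ne_zero (hγinj (h0.trans hγ0.symm))
  have hα1 : α 1 ≠ 0 := fun h0 => one_ne_zero (hαinj (h0.trans hα0.symm))
  have hadd : ∀ a t, α (a + t) = α a + α t := fun a t => by
    have := hrel a 1 t
    rw [mul_one, hβα] at this
    refine mul_left_cancel₀ hγ1 ?_
    linear_combination -this
  have hγα : ∀ c, α 1 * γ c = γ 1 * α c := fun c => by
    have := hrel 0 c 1
    rw [one_mul, zero_add, hα0, sub_zero, hβα] at this
    exact this.symm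
  have hmul : ∀ a c, α (a * c) * α 1 = α a * α c := fun a c => by
    have := hrel 0 c a
    rw [zero_add, hα0, sub_zero, hβα] at this
    refine mul_left_cancel₀ hγ1 ?_
    linear_combination α 1 * this + α a * hγα c
  let σ0 : F →+* F :=
    { toFun := fun a => α a / α 1
      map_one' := div_self hα1
      map_mul' := fun a c => by
        show α (a * c) / α 1 = α a / α 1 * (α c / α 1)
        field_simp
        linear_combination hmul a c
      map_zero' := by rw [hα0, zero_div]
      map_add' := fun a c => by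
        show α (a + c) / α 1 = α a / α 1 + α c / α 1
        rw [hadd, add_div] }
  let σ : F ≃+* F := RingEquiv.ofBijective σ0 (Finite.injective_iff_bijective.1 σ0.injective)
  have hσ : ∀ a, α a = α 1 * σ a := fun a => by
    show α a = α 1 * (α a / α 1)
    rw [mul_div_cancel₀ _ hα1]
  refine ⟨σ, α 1, γ 1 * α 1, hα1, mul_ne_zero hγ1 hα1, fun a => ?_, fun b => ?_, fun c => ?_,
    fun a b => ?_⟩
  · rw [← hσ]; exact hα a
  · rw [mul_assoc, ← hσ, ← hβα]; exact hβ b
  · rw [mul_div_cancel_right₀ _ hα1]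
    have : γ c = γ 1 * σ c := mul_left_cancel₀ hα1 (by rw [hγα, hσ c]; ring)
    rw [← this]
    exact hγ c
  · rw [← hσ, mul_assoc, ← hσ, ← hβα]; exact hgen a b

end CfsgLib.AutPOmega
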