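import Mathlib
import Cfsg.Agent.Lib.AutPOmega.Triangle

/-!
A collineation of the singular points of a model space is induced by a semisimilarity.
-/

set_option autoImplicit false
set_option maxHeartbeats 800000

namespace CfsgLib.AutPOmega

open QuadraticMap Module CfsgLib.Classical.Quad

variable {F W : Type*} [Field F] [AddCommGroup W] [Module F W] {m : ℕ}
variable {R : QuadraticForm F W}

local notation "𝐐" => hypForm m R

theorem ee_ne_zero (i : Fin m) : (ee i : Vm F m W) ≠ 0 := fun h => by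
  simpa using congrArg (fun z : Vm F m W => z.1.1 i) h

theorem ff_ne_zero (i : Fin m) : (ff i : Vm F m W) ≠ 0 := fun h => by
  simpa using congrArg (fun z : Vm F m W => z.1.2 i) h

/-- The diagonal isometry of the model. -/
def diagOrth (R : QuadraticForm F W) (l : Fin m → Fˣ) : Orth (hypForm m R) :=
  ⟨{ toFun := fun x => ((fun i => (l i : F) * x.1.1 i, fun i => ((l i)⁻¹ : Fˣ) * x.1.2 i), x.2)
     invFun := fun x => ((fun i => ((l i)⁻¹ : Fˣ) * x.1.1 i, fun i => (l i : F) * x.1.2 i), x.2)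
     left_inv := fun x => by refine Prod.ext (Prod.ext ?_ ?_) rfl <;> funext i <;> simp
     right_inv := fun x => by refine Prod.ext (Prod.ext ?_ ?_) rfl <;> funext i <;> simp
     map_add' := fun x y => by
       refine Prod.ext (Prod.ext ?_ ?_) rfl <;> funext i <;> simp [mul_add]
     map_smul' := fun c x => by
       refine Prod.ext (Prod.ext ?_ ?_) rfl <;> funext i <;> simp [mul_left_comm] },
   fun x => by
     simp only [hypForm_apply, LinearEquiv.coe_mk, LinearMap.coe_mk, AddHom.coe_mk]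
     congr 1
     refine Finset.sum_congr rfl fun i _ => ?_
     rw [mul_mul_mul_comm, Units.mul_inv, one_mul]⟩

theorem diagOrth_apply (l : Fin m → Fˣ) (x : Vm F m W) :
    (diagOrth R l).1 x =
      ((fun i => (l i : F) * x.1.1 i, fun i => ((l i)⁻¹ : Fˣ) * x.1.2 i), x.2) := rfl

theorem diagOrth_ee (l : Fin m → Fˣ) (i : Fin m) :
    (diagOrth R l).1 (ee i) = (l i : F) • ee i := by
  rw [diagOrth_apply]
  refine Prod.ext (Prod.ext (funext fun j => ?_) (funext fun j => ?_)) ?_ <;> simp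
  split_ifs with h <;> simp_all

theorem diagOrth_ff (l : Fin m → Fˣ) (i : Fin m) :
    (diagOrth R l).1 (ff i) = (((l i)⁻¹ : Fˣ) : F) • ff i := by
  rw [diagOrth_apply]
  refine Prod.ext (Prod.ext (funext fun j => ?_) (funext fun j => ?_)) ?_ <;> simp
  split_ifs with h <;> simp_all

theorem Img.map_orth {V : Type*} [AddCommGroup V] [Module F V] {Q : QuadraticForm F V}
    {f : V → V} {x y : V} (hi : Img (F := F) f x y) (g : Orth Q) :
    Img (F := F) (fun z => g.1 (f z)) x (g.1 y) := by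
  obtain ⟨c, hc, hfx⟩ := hi
  exact ⟨c, hc, by show g.1 (f x) = _; rw [hfx, map_smul]⟩

section FrameNormal

variable [FiniteDimensional F W] (hR : NDPolar R)
include hR

theorem exists_frame_normal {f : Vm F m W → Vm F m W} (h : PtAut 𝐐 f) :
    ∃ g : Orth 𝐐, ∀ i, Img (F := F) (fun z => g.1 (f z)) (ee i) (ee i) ∧
      Img (F := F) (fun z => g.1 (f z)) (ff i) (ff i) := by
  have hd : ∀ i, polar 𝐐 (f (ee i)) (f (ff i)) ≠ 0 := fun i h0 => by
    have := (h.perp _ _ (ee_ne_zero i) (Q_ee i) (ff_ne_zero i) (Q_ff i)).1 h0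
    simp [polar_ff_right] at this
  obtain ⟨g, hg⟩ := exists_orth_frame hR (fun i => f (ee i))
    (fun i => (polar 𝐐 (f (ee i)) (f (ff i)))⁻¹ • f (ff i))
    (fun i => h.sing _ (ee_ne_zero i) (Q_ee i))
    (fun i => by simp [QuadraticMap.map_smul, h.sing _ (ff_ne_zero i) (Q_ff i)])
    (fun i j => (h.perp _ _ (ee_ne_zero i) (Q_ee i) (ee_ne_zero j) (Q_ee j)).2
      (by simp [polar_ee_right]))
    (fun i j => by
      simp [(h.perp _ _ (ff_ne_zero i) (Q_ff i) (ff_ne_zero j) (Q_ff j)).2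
        (by simp [polar_ff_right])])
    (fun i j => by
      rw [polar_smul_right, smul_eq_mul]
      split_ifs with hij
      · subst hij; exact inv_mul_cancel₀ (hd _)
      · rw [(h.perp _ _ (ee_ne_zero i) (Q_ee i) (ff_ne_zero j) (Q_ff j)).2
          (by simp [polar_ff_right, Ne.symm hij]), mul_zero])
  refine ⟨g⁻¹, fun i => ⟨⟨1, one_ne_zero, ?_⟩, ⟨polar 𝐐 (f (ee i)) (f (ff i)), hd i, ?_⟩⟩⟩
  · show (g⁻¹).1 (f (ee i)) = _
    rw [show f (ee i) = g.1 (ee i) from ((hg i).1).symm, inv_apply_self, one_smul]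
  · show (g⁻¹).1 (f (ff i)) = _
    have h3 : g.1 (polar 𝐐 (f (ee i)) (f (ff i)) • ff i) = f (ff i) := by
      rw [map_smul, (hg i).2, smul_smul, mul_inv_cancel₀ (hd i), one_smul]
    exact (congrArg (g⁻¹).1 h3).symm.trans (inv_apply_self g _)

end FrameNormal

theorem li_pair_of_coord {x y : Vm F m W} (φ ψ : Vm F m W →ₗ[F] F) (h1 : φ x = 1) (h2 : φ y = 0)
    (h3 : ψ y = 1) : LinearIndependent F ![x, y] := by
  rw [LinearIndependent.pair_iff]
  intro a b h0
  have ha : a = 0 := by simpa [h1, h2] using congrArg φ h0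
  exact ⟨ha, by simpa [ha, h3] using congrArg ψ h0⟩

theorem li_ee (i j : Fin m) (hij : i ≠ j) : LinearIndependent F ![(ee i : Vm F m W), ee j] :=
  li_pair_of_coord
    ((LinearMap.proj i).comp ((LinearMap.fst F _ _).comp (LinearMap.fst F _ W)))
    ((LinearMap.proj j).comp ((LinearMap.fst F _ _).comp (LinearMap.fst F _ W)))
    (by simp) (by simp [hij]) (by simp)

theorem li_ff (i j : Fin m) (hij : i ≠ j) : LinearIndependent F ![(ff i : Vm F m W), ff j] :=
  li_pair_of_coord
    ((LinearMap.proj i).comp ((LinearMap.snd F _ _).comp (LinearMap.fst F _ W)))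
    ((LinearMap.proj j).comp ((LinearMap.snd F _ _).comp (LinearMap.fst F _ W)))
    (by simp) (by simp [hij]) (by simp)

theorem li_ef (i j : Fin m) : LinearIndependent F ![(ee i : Vm F m W), ff j] :=
  li_pair_of_coord
    ((LinearMap.proj i).comp ((LinearMap.fst F _ _).comp (LinearMap.fst F _ W)))
    ((LinearMap.proj j).comp ((LinearMap.snd F _ _).comp (LinearMap.fst F _ W)))
    (by simp) (by simp) (by simp)

variable [Finite F] (hm : 3 ≤ m)

include hm in
theorem exists_field_normal {f : Vm F m W → Vm F m W} (h : PtAut 𝐐 f)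
    (he : ∀ i, Img (F := F) f (ee i) (ee i)) (hf : ∀ i, Img (F := F) f (ff i) (ff i)) :
    ∃ (g : Orth 𝐐) (σ : F ≃+* F),
      (∀ i, Img (F := F) (fun z => g.1 (f z)) (ee i) (ee i)) ∧
      (∀ i, Img (F := F) (fun z => g.1 (f z)) (ff i) (ff i)) ∧
      ∀ i j, i ≠ j → ∀ t : F,
        Img (F := F) (fun z => g.1 (f z)) (ee i + t • ee j) (ee i + σ t • ee j) := by
  let i₀ : Fin m := ⟨0, by omega⟩
  let i₁ : Fin m := ⟨1, by omega⟩
  let i₂ : Fin m := ⟨2, by omega⟩
  have h01 : i₀ ≠ i₁ := by simp [i₀, i₁]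
  have h02 : i₀ ≠ i₂ := by simp [i₀, i₂]
  have h12 : i₁ ≠ i₂ := by simp [i₁, i₂]
  have htri : ∀ i j : Fin m, i ≠ i₀ → j ≠ i₀ → i ≠ j →
      ∃ (σ : F ≃+* F) (s s' : F), s ≠ 0 ∧ s' ≠ 0 ∧
        (∀ a, Img (F := F) f (ee i₀ + a • ee i) (ee i₀ + (s * σ a) • ee i)) ∧
        (∀ b, Img (F := F) f (ee i₀ + b • ee j) (ee i₀ + (s' * σ b) • ee j)) ∧
        (∀ c, Img (F := F) f (ee i + c • ee j) (ee i + (s' / s * σ c) • ee j)) := by
    intro i j hi hj hij
    have hind : LinearIndependent F ![(ee i₀ : Vm F m W), ee i, ee j] := by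
      rw [Fintype.linearIndependent_iff]
      intro g hg
      simp [Fin.sum_univ_three] at hg
      have a0 := congrArg (fun z : Vm F m W => z.1.1 i₀) hg
      have a1 := congrArg (fun z : Vm F m W => z.1.1 i) hg
      have a2 := congrArg (fun z : Vm F m W => z.1.1 j) hg
      simp [hi, hj, hij, Ne.symm hi, Ne.symm hj, Ne.symm hij] at a0 a1 a2
      intro k; fin_cases k <;> assumption
    obtain ⟨σ, s, s', hs, hs', h1, h2, h3, -⟩ := triangle h hind (Q_ee _) (Q_ee _) (Q_ee _)
      (by simp [polar_ee_right]) (by simp [polar_ee_right]) (by simp [polar_ee_right])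
      (he _) (he _) (he _)
    exact ⟨σ, s, s', hs, hs', h1, h2, h3⟩
  obtain ⟨σ, s₁, s₂, hs₁, hs₂, A1, A2, -⟩ := htri i₁ i₂ h01.symm h02.symm h12
  have hsame : ∀ (σ' : F ≃+* F) (s s' : F) (j : Fin m), j ≠ i₀ → s ≠ 0 →
      (∀ b, Img (F := F) f (ee i₀ + b • ee j) (ee i₀ + (s * σ b) • ee j)) →
      (∀ b, Img (F := F) f (ee i₀ + b • ee j) (ee i₀ + (s' * σ' b) • ee j)) →
      s' = s ∧ ∀ b, σ' b = σ b := by
    intro σ' s s' j hj hs H H'
    have e : ∀ b, s' * σ' b = s * σ b := fun b =>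
      Img.side_unique (li_ee (F := F) (W := W) i₀ j (Ne.symm hj)) (H' b) (H b)
    have e1 : s' = s := by simpa using e 1
    exact ⟨e1, fun b => mul_left_cancel₀ hs (by rw [← e b, e1])⟩
  have hall : ∀ i, i ≠ i₀ → ∃ s : F, s ≠ 0 ∧
      ∀ a, Img (F := F) f (ee i₀ + a • ee i) (ee i₀ + (s * σ a) • ee i) := by
    intro i hi
    by_cases h1 : i = i₁
    · exact ⟨s₁, hs₁, h1 ▸ A1⟩
    · obtain ⟨σ', s, s', hs, -, B1, B2, -⟩ := htri i i₁ hi h01.symm h1
      obtain ⟨-, e⟩ := hsame σ' s₁ s' i₁ h01.symm hs₁ A1 B2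
      exact ⟨s, hs, fun a => by rw [← e a]; exact B1 a⟩
  choose S hS0 hS using hall
  let l : Fin m → Fˣ := fun i => if h : i = i₀ then 1 else (Units.mk0 (S i h) (hS0 i h))⁻¹
  let g := diagOrth R l
  have hl0 : (l i₀ : F) = 1 := by simp [l]
  have hli : ∀ i (hi : i ≠ i₀), (l i : F) = (S i hi)⁻¹ := fun i hi => by simp [l, hi]
  have hmove : ∀ (i : Fin m) (a : F),
      g.1 (ee i₀ + a • ee i) = ee i₀ + ((l i : F) * a) • ee i := fun i a => by
    rw [map_add, map_smul, diagOrth_ee, diagOrth_ee, hl0, one_smul, smul_smul, mul_comm]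
  have N1 : ∀ i, i ≠ i₀ → ∀ a,
      Img (F := F) (fun z => g.1 (f z)) (ee i₀ + a • ee i) (ee i₀ + σ a • ee i) := by
    intro i hi a
    have := (hS i hi a).map_orth g
    rwa [hmove, hli i hi, ← mul_assoc, inv_mul_cancel₀ (hS0 i hi), one_mul] at this
  have N2 : ∀ i j, i ≠ i₀ → j ≠ i₀ → i ≠ j → ∀ c,
      Img (F := F) (fun z => g.1 (f z)) (ee i + c • ee j) (ee i + σ c • ee j) := by
    intro i j hi hj hij c
    obtain ⟨σ', s, s', hs, -, B1, B2, B3⟩ := htri i j hi hj hij
    obtain ⟨es, eσ⟩ := hsame σ' (S i hi) s i hi (hS0 i hi) (hS i hi) B1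
    obtain ⟨es', -⟩ := hsame σ' (S j hj) s' j hj (hS0 j hj) (hS j hj) B2
    have := ((B3 c).map_orth g).smul_right (hS0 i hi)
    rw [map_add, map_smul, diagOrth_ee, diagOrth_ee, hli i hi, hli j hj, es, es', eσ, smul_add,
      smul_smul, smul_smul, smul_smul, mul_inv_cancel₀ (hS0 i hi), one_smul] at this
    have := hS0 i hi
    have := hS0 j hj
    rwa [show S i hi * (S j hj / S i hi * σ c) * (S j hj)⁻¹ = σ c by field_simp] at *
  have hge : ∀ i, Img (F := F) (fun z => g.1 (f z)) (ee i) (ee i) := fun i => by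
    have := ((he i).map_orth g).smul_right (inv_ne_zero (l i).ne_zero)
    rwa [diagOrth_ee, smul_smul, inv_mul_cancel₀ (l i).ne_zero, one_smul] at this
  refine ⟨g, σ, hge, fun i => ?_, ?_⟩
  · have := ((hf i).map_orth g).smul_right (l i).ne_zero
    rwa [diagOrth_ff, smul_smul, Units.mul_inv, one_smul] at this
  · intro i j hij t
    by_cases hi : i = i₀
    · subst hi; exact N1 j (Ne.symm hij) t
    by_cases hj : j = i₀
    swap
    · exact N2 i j hi hj hij t
    subst hj
    by_cases ht : t = 0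
    · simpa [ht] using hge i
    have hσt : σ t ≠ 0 := by simpa using ht
    have hsc := Img.scale (h.comp g) (x := ee i₀ + t⁻¹ • ee i) (y := ee i₀ + σ t⁻¹ • ee i)
      (fun h0 => by
        have := congrArg (fun z : Vm F m W => z.1.1 i₀) h0
        simp [Ne.symm hi] at this)
      (by simp [QuadraticMap.map_add 𝐐, QuadraticMap.map_smul, Q_ee, polar_ee_right])
      (N1 i hi t⁻¹) ht
    have := hsc.smul_right hσt
    rwa [smul_add, smul_smul, mul_inv_cancel₀ ht, one_smul, map_inv₀, smul_add, smul_smul,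
      mul_inv_cancel₀ hσt, one_smul, add_comm, add_comm (σ t • ee i₀)] at this

section Normal

variable {f : Vm F m W → Vm F m W} (h : PtAut (hypForm m R) f) {σ : F ≃+* F}
  (he : ∀ i, Img (F := F) f (ee i) (ee i)) (hf : ∀ i, Img (F := F) f (ff i) (ff i))
  (hE : ∀ i j, i ≠ j → ∀ t : F, Img (F := F) f (ee i + t • ee j) (ee i + σ t • ee j))
include h he hf hE

theorem img_ff_side {i j : Fin m} (hij : i ≠ j) (t : F) :
    Img (F := F) f (ff i + t • ff j) (ff i + σ t • ff j) := by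
  obtain ⟨τ, hinj, hτ0, hτ⟩ := exists_side h (li_ff (F := F) (W := W) i j hij) (Q_ff i) (Q_ff j)
    (by simp [polar_ff_right]) (hf i) (hf j)
  suffices τ t = σ t by rw [← this]; exact hτ t
  by_cases ht : t = 0
  · rw [ht, hτ0, map_zero]
  have hc : (ee i : Vm F m W) + (-t⁻¹) • ee j ≠ 0 := fun h0 => by
    have := congrArg (fun z : Vm F m W => z.1.1 i) h0
    simp [hij] at this
  have hd : (ff i : Vm F m W) + t • ff j ≠ 0 := fun h0 => by
    have := congrArg (fun z : Vm F m W => z.1.2 i) h0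
    simp [hij] at this
  have hp : polar 𝐐 (ff i + t • ff j) (ee i + (-t⁻¹) • ee j) = 0 := by
    simp [polar_ee_right, hij, Ne.symm hij, ht]
  have h2 := (Img.polar_iff h hd
    (by simp [QuadraticMap.map_add 𝐐, QuadraticMap.map_smul, Q_ff, polar_ff_right]) hc
    (by simp [QuadraticMap.map_add 𝐐, QuadraticMap.map_smul, Q_ee, polar_ee_right])
    (hτ t) (hE i j hij _)).2 hp
  simp [polar_ee_right, hij, Ne.symm hij] at h2
  have hσt : σ t ≠ 0 := by simpa using ht
  field_simp at h2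
  linear_combination -h2

theorem coord_a (x : Vm F m W) (hx : x ≠ 0) (hQ : 𝐐 x = 0) :
    ∃ c : F, (∀ i, (f x).1.1 i = c * σ (x.1.1 i)) ∧ ((∃ i, x.1.1 i ≠ 0) → c ≠ 0) := by
  have key : ∀ i, ((f x).1.1 i = 0 ↔ x.1.1 i = 0) := fun i => by
    obtain ⟨k, hk, hk'⟩ := hf i
    have := h.perp x _ hx hQ (ff_ne_zero i) (Q_ff i)
    rw [hk', polar_smul_right, polar_ff_right, polar_ff_right, smul_eq_mul, mul_eq_zero] at this
    simpa [hk] using this
  by_cases hz : ∀ i, x.1.1 i = 0
  · exact ⟨0, fun i => by rw [(key i).2 (hz i), zero_mul], fun ⟨i, hi⟩ => absurd (hz i) hi⟩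
  push Not at hz
  obtain ⟨i₀, h0⟩ := hz
  have hs : σ (x.1.1 i₀) ≠ 0 := by simpa using h0
  refine ⟨(f x).1.1 i₀ / σ (x.1.1 i₀), fun i => ?_, fun _ => div_ne_zero (mt (key i₀).1 h0) hs⟩
  by_cases hi : i = i₀
  · subst hi; rw [div_mul_cancel₀ _ hs]
  set t := -(x.1.1 i) / x.1.1 i₀ with ht
  obtain ⟨k, hk, hk'⟩ := img_ff_side h he hf hE hi t
  have hne : (ff i : Vm F m W) + t • ff i₀ ≠ 0 := fun h0 => by
    have := congrArg (fun z : Vm F m W => z.1.2 i) h0
    simp [hi] at this
  have := (h.perp x _ hx hQ hne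
    (by simp [QuadraticMap.map_add 𝐐, QuadraticMap.map_smul, Q_ff, polar_ff_right])).2
    (by simp [polar_ff_right, ht, h0])
  rw [hk'] at this
  simp [polar_ff_right, hk, ht] at this
  field_simp at this ⊢
  simp [hk] at this
  linear_combination this

theorem coord_b (x : Vm F m W) (hx : x ≠ 0) (hQ : 𝐐 x = 0) :
    ∃ c : F, (∀ i, (f x).1.2 i = c * σ (x.1.2 i)) ∧ ((∃ i, x.1.2 i ≠ 0) → c ≠ 0) := by
  have key : ∀ i, ((f x).1.2 i = 0 ↔ x.1.2 i = 0) := fun i => by
    obtain ⟨k, hk, hk'⟩ := he i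
    have := h.perp x _ hx hQ (ee_ne_zero i) (Q_ee i)
    rw [hk', polar_smul_right, polar_ee_right, polar_ee_right, smul_eq_mul, mul_eq_zero] at this
    simpa [hk] using this
  by_cases hz : ∀ i, x.1.2 i = 0
  · exact ⟨0, fun i => by rw [(key i).2 (hz i), zero_mul], fun ⟨i, hi⟩ => absurd (hz i) hi⟩
  push Not at hz
  obtain ⟨i₀, h0⟩ := hz
  have hs : σ (x.1.2 i₀) ≠ 0 := by simpa using h0
  refine ⟨(f x).1.2 i₀ / σ (x.1.2 i₀), fun i => ?_, fun _ => div_ne_zero (mt (key i₀).1 h0) hs⟩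
  by_cases hi : i = i₀
  · subst hi; rw [div_mul_cancel₀ _ hs]
  set t := -(x.1.2 i) / x.1.2 i₀ with ht
  obtain ⟨k, hk, hk'⟩ := hE i i₀ hi t
  have hne : (ee i : Vm F m W) + t • ee i₀ ≠ 0 := fun h0 => by
    have := congrArg (fun z : Vm F m W => z.1.1 i) h0
    simp [hi] at this
  have := (h.perp x _ hx hQ hne
    (by simp [QuadraticMap.map_add 𝐐, QuadraticMap.map_smul, Q_ee, polar_ee_right])).2
    (by simp [polar_ee_right, ht, h0])
  rw [hk'] at this
  simp [polar_ee_right, hk, ht] at this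
  field_simp at this ⊢
  simp [hk] at this
  linear_combination this

include hm in
theorem exists_twist : ∃ s : F, s ≠ 0 ∧
    ∀ i j, i ≠ j → ∀ t, Img (F := F) f (ee i + t • ff j) (ee i + (s * σ t) • ff j) := by
  -- the two triangles with two members of one kind
  have T1 : ∀ i k j : Fin m, i ≠ k → i ≠ j → k ≠ j → ∃ s : F, s ≠ 0 ∧
      (∀ b, Img (F := F) f (ee i + b • ff j) (ee i + (s * σ b) • ff j)) ∧
      (∀ c, Img (F := F) f (ee k + c • ff j) (ee k + (s * σ c) • ff j)) := by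
    intro i k j hik hij hkj
    have hind : LinearIndependent F ![(ee i : Vm F m W), ee k, ff j] := by
      rw [Fintype.linearIndependent_iff]
      intro g hg
      simp [Fin.sum_univ_three] at hg
      have a0 := congrArg (fun z : Vm F m W => z.1.1 i) hg
      have a1 := congrArg (fun z : Vm F m W => z.1.1 k) hg
      have a2 := congrArg (fun z : Vm F m W => z.1.2 j) hg
      simp [hik, Ne.symm hik] at a0 a1 a2
      intro l; fin_cases l <;> assumption
    obtain ⟨σ', s, s', hs, hs', h1, h2, h3, -⟩ := triangle h hind (Q_ee _) (Q_ee _) (Q_ff _)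
      (by simp [polar_ee_right]) (by simp [polar_ff_right, Ne.symm hij])
      (by simp [polar_ff_right, Ne.symm hkj]) (he _) (he _) (hf _)
    have e : ∀ a, s * σ' a = σ a := fun a =>
      Img.side_unique (li_ee (F := F) (W := W) i k hik) (h1 a) (hE i k hik a)
    have e1 : s = 1 := by simpa using e 1
    have eσ : ∀ a, σ' a = σ a := fun a => by simpa [e1] using e a
    exact ⟨s', hs', fun b => by rw [← eσ]; exact h2 b,
      fun c => by simpa [e1, eσ] using h3 c⟩
  have T2 : ∀ i j k : Fin m, i ≠ j → i ≠ k → j ≠ k → ∃ s : F, s ≠ 0 ∧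
      (∀ b, Img (F := F) f (ee i + b • ff j) (ee i + (s * σ b) • ff j)) ∧
      (∀ b, Img (F := F) f (ee i + b • ff k) (ee i + (s * σ b) • ff k)) := by
    intro i j k hij hik hjk
    have hind : LinearIndependent F ![(ee i : Vm F m W), ff j, ff k] := by
      rw [Fintype.linearIndependent_iff]
      intro g hg
      simp [Fin.sum_univ_three] at hg
      have a0 := congrArg (fun z : Vm F m W => z.1.1 i) hg
      have a1 := congrArg (fun z : Vm F m W => z.1.2 j) hg
      have a2 := congrArg (fun z : Vm F m W => z.1.2 k) hg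
      simp [hjk, Ne.symm hjk] at a0 a1 a2
      intro l; fin_cases l <;> assumption
    obtain ⟨σ', s, s', hs, hs', h1, h2, h3, -⟩ := triangle h hind (Q_ee _) (Q_ff _) (Q_ff _)
      (by simp [polar_ff_right, Ne.symm hij]) (by simp [polar_ff_right, Ne.symm hik])
      (by simp [polar_ff_right]) (he _) (hf _) (hf _)
    have e : ∀ a, s' / s * σ' a = σ a := fun a =>
      Img.side_unique (li_ff (F := F) (W := W) j k hjk) (h3 a) (img_ff_side h he hf hE hjk a)
    have e1 : s' / s = 1 := by simpa using e 1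
    have eσ : ∀ a, σ' a = σ a := fun a => by simpa [e1] using e a
    rw [div_eq_one_iff_eq hs] at e1
    exact ⟨s, hs, fun b => by rw [← eσ]; exact h1 b, fun b => by rw [← eσ, ← e1]; exact h2 b⟩
  let o : Fin m := ⟨0, by omega⟩
  let e : Fin m := ⟨1, by omega⟩
  have hoe : o ≠ e := by simp [o, e]
  obtain ⟨k₀, hk₀o, hk₀e⟩ : ∃ k : Fin m, k ≠ o ∧ k ≠ e :=
    ⟨⟨2, by omega⟩, by simp [o], by simp [e]⟩
  obtain ⟨s, hs, hoe', -⟩ := T1 o k₀ e (Ne.symm hk₀o) hoe hk₀e
  let P : Fin m → Fin m → Prop := fun i j =>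
    ∀ t, Img (F := F) f (ee i + t • ff j) (ee i + (s * σ t) • ff j)
  have uniq : ∀ i j, i ≠ j → ∀ s' : F, P i j →
      (∀ t, Img (F := F) f (ee i + t • ff j) (ee i + (s' * σ t) • ff j)) → s' = s := by
    intro i j hij s' hP hQ'
    simpa using Img.side_unique (li_ef (F := F) (W := W) i j) (hQ' 1) (hP 1)
  have m1 : ∀ i k j, i ≠ j → k ≠ j → P i j → P k j := by
    intro i k j hij hkj hP
    by_cases hik : i = k
    · exact hik ▸ hP
    obtain ⟨s', -, H1, H2⟩ := T1 i k j hik hij hkj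
    rw [uniq i j hij s' hP H1] at H2
    exact H2
  have m2 : ∀ i j k, i ≠ j → i ≠ k → P i j → P i k := by
    intro i j k hij hik hP
    by_cases hjk : j = k
    · exact hjk ▸ hP
    obtain ⟨s', -, H1, H2⟩ := T2 i j k hij hik hjk
    rw [uniq i j hij s' hP H1] at H2
    exact H2
  refine ⟨s, hs, fun i j hij => ?_⟩
  by_cases hjo : j = o
  · subst hjo
    obtain ⟨k, hki, hko⟩ : ∃ k : Fin m, k ≠ i ∧ k ≠ o := by
      by_cases hie : i = e
      · exact ⟨k₀, hie ▸ hk₀e, hk₀o⟩
      · exact ⟨e, Ne.symm hie, Ne.symm hoe⟩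
    exact m2 i k o (Ne.symm hki) hij (m1 o i k (Ne.symm hko) (Ne.symm hki)
      (m2 o e k hoe (Ne.symm hko) hoe'))
  · exact m1 o i j (Ne.symm hjo) hij (m2 o e j hoe (Ne.symm hjo) hoe')

variable {s : F} (hs : s ≠ 0)
  (hEF : ∀ i j, i ≠ j → ∀ t, Img (F := F) f (ee i + t • ff j) (ee i + (s * σ t) • ff j))
include hs hEF hm

/-- Every singular point has a normalised image. -/
theorem exists_norm (hRan : ∀ w, R w = 0 → w = 0) (x : Vm F m W) (hx : x ≠ 0) (hQ : 𝐐 x = 0) :
    ∃ r', Img (F := F) f x ((fun i => σ (x.1.1 i), fun i => s * σ (x.1.2 i)), r') := by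
  obtain ⟨lam, hlam, hlam0⟩ := coord_a h he hf hE x hx hQ
  obtain ⟨mu, hmu, hmu0⟩ := coord_b h he hf hE x hx hQ
  by_cases ha : ∀ i, x.1.1 i = 0
  · have hb : ∃ i, x.1.2 i ≠ 0 := by
      by_contra hb
      push Not at hb
      apply hx
      refine Prod.ext (Prod.ext (funext ha) (funext hb)) (hRan _ ?_)
      simpa [hypForm_apply, ha] using hQ
    have hne := hmu0 hb
    refine ⟨(s / mu) • (f x).2, mu / s, div_ne_zero hne hs, ?_⟩
    refine Prod.ext (Prod.ext (funext fun i => ?_) (funext fun i => ?_)) ?_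
    · simp [hlam i, ha i]
    · simp [hmu i]; field_simp
    · rw [Prod.smul_snd, smul_smul]; field_simp; rw [one_smul]
  push Not at ha
  obtain ⟨a₀, ha₀⟩ := ha
  have hne := hlam0 ⟨a₀, ha₀⟩
  have hmulam : ∀ i, mu * σ (x.1.2 i) = lam * (s * σ (x.1.2 i)) := by
    intro i
    by_cases hb : x.1.2 i = 0
    · simp [hb]
    by_cases hq : ∃ a b : Fin m, a ≠ b ∧ x.1.1 a ≠ 0 ∧ x.1.2 b ≠ 0
    · obtain ⟨a, b, hab, hxa, hxb⟩ := hq
      obtain ⟨k, hk, hk'⟩ := hEF b a (Ne.symm hab) (-(x.1.2 b) / x.1.1 a)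
      have hne' : (ee b : Vm F m W) + (-(x.1.2 b) / x.1.1 a) • ff a ≠ 0 := fun h0 => by
        have := congrArg (fun z : Vm F m W => z.1.1 b) h0
        simp [hab, Ne.symm hab] at this
      have := (h.perp x _ hx hQ hne' (by
        simp [QuadraticMap.map_add 𝐐, QuadraticMap.map_smul, Q_ee, Q_ff, polar_ff_right, hab])).2
        (by simp [polar_ee_right, polar_ff_right, hxa])
      rw [hk'] at this
      simp [polar_ee_right, polar_ff_right, hk, hlam, hmu] at this
      have hσa : σ (x.1.1 a) ≠ 0 := by simpa using hxa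
      have hσb : σ (x.1.2 b) ≠ 0 := by simpa using hxb
      have : mu = lam * s := by
        field_simp at this
        simp [hk, hσb] at this
        linear_combination this
      rw [this, mul_assoc]
    · push Not at hq
      have hai : a₀ = i := by
        by_contra hne'
        exact hb (hq a₀ i hne' ha₀)
      subst hai
      obtain ⟨l, hl⟩ : ∃ l : Fin m, l ≠ a₀ := by
        rcases eq_or_ne a₀ ⟨0, by omega⟩ with h0 | h0
        · exact ⟨⟨1, by omega⟩, by rw [h0]; simp⟩
        · exact ⟨⟨0, by omega⟩, Ne.symm h0⟩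
      have hxl : x.1.1 l = 0 := by
        by_contra h0
        exact hb (hq l a₀ hl h0)
      have hxl' : x.1.2 l = 0 := by
        by_contra h0
        exact ha₀ (by by_contra; exact h0 (hq a₀ l (Ne.symm hl) ha₀))
      set c := -(x.1.2 a₀) / x.1.1 a₀ with hc
      set y : Vm F m W := ee a₀ + ee l + c • ff a₀ + (-c) • ff l with hy
      have hy0 : y ≠ 0 := fun h0 => by
        have := congrArg (fun z : Vm F m W => z.1.1 l) h0
        simp [hy, hl, Ne.symm hl] at this
      have hQy : 𝐐 y = 0 := by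
        simp [hy, QuadraticMap.map_add 𝐐, QuadraticMap.map_smul, Q_ee, Q_ff, polar_ee_right,
          polar_ff_right, hl, Ne.symm hl]
      have ya0 : y.1.1 a₀ = 1 := by simp [hy, hl, Ne.symm hl]
      have yal : y.1.1 l = 1 := by simp [hy, hl, Ne.symm hl]
      have yb0 : y.1.2 a₀ = c := by simp [hy, hl, Ne.symm hl]
      have ybl : y.1.2 l = -c := by simp [hy, hl, Ne.symm hl]
      have ya : ∀ t, t ≠ a₀ → t ≠ l → y.1.1 t = 0 := fun t h1 h2 => by simp [hy, h1, h2]
      have yb : ∀ t, t ≠ a₀ → t ≠ l → y.1.2 t = 0 := fun t h1 h2 => by simp [hy, h1, h2]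
      have hy2 : y.2 = 0 := by simp [hy]
      clear_value y
      obtain ⟨ly, hly, hly0⟩ := coord_a h he hf hE y hy0 hQy
      obtain ⟨my, hmy, -⟩ := coord_b h he hf hE y hy0 hQy
      have hly0' := hly0 ⟨l, by rw [yal]; exact one_ne_zero⟩
      obtain ⟨k, hk, hk'⟩ := hEF l a₀ hl c
      have hc0 : c ≠ 0 := by simp [hc, hb, ha₀]
      have hσc : σ c ≠ 0 := by simpa using hc0
      have hmly : my = ly * s := by
        have hne' : (ee l : Vm F m W) + c • ff a₀ ≠ 0 := fun h0 => by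
          have := congrArg (fun z : Vm F m W => z.1.1 l) h0
          simp at this
        have := (h.perp y _ hy0 hQy hne' (by
          simp [QuadraticMap.map_add 𝐐, QuadraticMap.map_smul, Q_ee, Q_ff, polar_ff_right,
            Ne.symm hl])).2 (by simp [polar_ee_right, polar_ff_right, ya0, ybl])
        rw [hk'] at this
        simp [hk, polar_ee_right, polar_ff_right, hly, hmy, ya0, ybl] at this
        refine mul_left_cancel₀ hk (mul_right_cancel₀ hσc ?_)
        linear_combination -this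
      have hzero : ∀ t, t ≠ a₀ → t ≠ l → (f y).1.1 t = 0 ∧ (f y).1.2 t = 0 := fun t h1 h2 => by
        simp [hly, hmy, ya t h1 h2, yb t h1 h2]
      have := (h.perp x y hx hQ hy0 hQy).2 (by
        rw [polar_hypForm, hy2, polar_zero_right, add_zero,
          Finset.sum_eq_single a₀ (fun t _ ht => by
            rcases eq_or_ne t l with rfl | htl
            · simp [hxl, hxl']
            · simp [ya t ht htl, yb t ht htl]) (by simp), ya0, yb0, hc]
        field_simp
        ring)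
      rw [polar_hypForm] at this
      have hfy : (f y).2 = 0 := hRan _ (by
        have h1 := h.sing y hy0 hQy
        rw [hypForm_apply, Finset.sum_eq_add a₀ l (Ne.symm hl) (fun t _ ht => by
          rw [(hzero t ht.1 ht.2).1, zero_mul]) (by simp) (by simp)] at h1
        simpa [hly, hmy, ya0, yal, yb0, ybl] using h1)
      rw [hfy, polar_zero_right, add_zero, Finset.sum_eq_single a₀ (fun t _ ht => by
        rcases eq_or_ne t l with rfl | htl
        · simp [hlam, hmu, hxl, hxl']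
        · simp [(hzero t ht htl).1, (hzero t ht htl).2]) (by simp)] at this
      simp [hlam, hmu, hly, hmy, ya0, yb0, hmly, hc] at this
      have hσa : σ (x.1.1 a₀) ≠ 0 := by simpa using ha₀
      field_simp at this
      simp [hly0', hb] at this
      linear_combination σ (x.1.2 a₀) * this
  refine ⟨lam⁻¹ • (f x).2, lam, hne, ?_⟩
  refine Prod.ext (Prod.ext (funext fun i => ?_) (funext fun i => ?_)) ?_
  · exact hlam i
  · exact (hmu i).trans (hmulam i)
  · rw [Prod.smul_snd, smul_smul, mul_inv_cancel₀ hne, one_smul]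

/-- The semilinear map on the kernel part, and the normal form of the collineation. -/
theorem exists_kernel_map (hRan : ∀ w, R w = 0 → w = 0) :
    ∃ ρ : W → W, (∀ a b, ρ (a + b) = ρ a + ρ b) ∧ (∀ (c : F) a, ρ (c • a) = σ c • ρ a) ∧
      (∀ a, R (ρ a) = s * σ (R a)) ∧
      ∀ x : Vm F m W, x ≠ 0 → 𝐐 x = 0 →
        Img (F := F) f x ((fun i => σ (x.1.1 i), fun i => s * σ (x.1.2 i)), ρ x.2) := by
  let i : Fin m := ⟨0, by omega⟩
  let j : Fin m := ⟨1, by omega⟩
  let k : Fin m := ⟨2, by omega⟩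
  have hij : i ≠ j := by simp [i, j]
  have hik : i ≠ k := by simp [i, k]
  have hjk : j ≠ k := by simp [j, k]
  have hnorm := exists_norm hm h he hf hE hs hEF hRan
  let nrm : Vm F m W → W → Vm F m W :=
    fun x r' => ((fun i => σ (x.1.1 i), fun i => s * σ (x.1.2 i)), r')
  have hQn : ∀ x r', 𝐐 (nrm x r') = s * σ (∑ t, x.1.1 t * x.1.2 t) + R r' := by
    intro x r'
    rw [hypForm_apply, map_sum, Finset.mul_sum]
    congr 1
    exact Finset.sum_congr rfl fun t _ => by rw [map_mul]; ring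
  have hR' : ∀ x r', x ≠ 0 → 𝐐 x = 0 → Img (F := F) f x (nrm x r') → R r' = s * σ (R x.2) := by
    intro x r' hx hQ hi
    have h1 := Img.sing_right h hx hQ hi
    rw [hQn] at h1
    rw [hypForm_apply] at hQ
    rw [eq_neg_of_add_eq_zero_left hQ, map_neg] at h1
    linear_combination h1
  have hpol : ∀ x y rx ry, x ≠ 0 → 𝐐 x = 0 → y ≠ 0 → 𝐐 y = 0 → Img (F := F) f x (nrm x rx) →
      Img (F := F) f y (nrm y ry) → polar 𝐐 x y = 0 →
      polar R rx ry = s * σ (polar R x.2 y.2) := by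
    intro x y rx ry hx hQx hy hQy hix hiy hxy
    have h1 := (Img.polar_iff h hx hQx hy hQy hix hiy).2 hxy
    rw [polar_hypForm] at h1 hxy
    rw [eq_neg_of_add_eq_zero_right hxy, map_neg, map_sum, mul_neg, Finset.mul_sum]
    refine (eq_neg_of_add_eq_zero_right h1).trans ?_
    congr 1
    exact Finset.sum_congr rfl fun t _ => by simp only [nrm, map_add, map_mul]; ring
  have hsame : ∀ x y rx ry, x ≠ 0 → 𝐐 x = 0 → y ≠ 0 → 𝐐 y = 0 → Img (F := F) f x (nrm x rx) →
      Img (F := F) f y (nrm y ry) → polar 𝐐 x y = 0 → x.2 = y.2 → rx = ry := by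
    intro x y rx ry hx hQx hy hQy hix hiy hxy he2
    have h1 := hpol x y rx ry hx hQx hy hQy hix hiy hxy
    rw [← sub_eq_zero]
    refine hRan _ ?_
    rw [sub_eq_add_neg, QuadraticMap.map_add R, QuadraticMap.map_neg, polar_neg_right, h1,
      hR' x rx hx hQx hix, hR' y ry hy hQy hiy, he2, polar_self', map_mul, map_ofNat]
    ring
  let y0 : W → Vm F m W := fun r => ee i + ee j + (-(R r)) • ff i + ww r
  have hy0 : ∀ r, y0 r ≠ 0 := fun r h0 => by
    have := congrArg (fun z : Vm F m W => z.1.1 j) h0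
    simp [y0, Ne.symm hij] at this
  have hy0Q : ∀ r, 𝐐 (y0 r) = 0 := fun r => by
    simp [y0, QuadraticMap.map_add 𝐐, QuadraticMap.map_smul, Q_ee, Q_ff, Q_ww, polar_ee_right,
      polar_ff_right, polar_ww_right, hij, Ne.symm hij]
  choose ρ hρ using fun r => hnorm (y0 r) (hy0 r) (hy0Q r)
  have hρR : ∀ r, R (ρ r) = s * σ (R r) := fun r => by
    rw [hR' (y0 r) (ρ r) (hy0 r) (hy0Q r) (hρ r)]
    simp [y0]
  -- step 1: a coordinate outside the first two
  have step1 : ∀ (x : Vm F m W) (rx : W) (l : Fin m), x ≠ 0 → 𝐐 x = 0 →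
      Img (F := F) f x (nrm x rx) → l ≠ i → l ≠ j → x.1.1 l ≠ 0 → rx = ρ x.2 := by
    intro x rx l hx hQ hix hli hlj hl
    set r := x.2 with hr
    set c := -(x.1.2 i + x.1.2 j + -(R r) * x.1.1 i + 2 * R r) / x.1.1 l with hc
    set y : Vm F m W := y0 r + c • ff l with hy
    have hyn : y ≠ 0 := fun h0 => by
      have := congrArg (fun z : Vm F m W => z.1.1 j) h0
      simp [hy, y0, Ne.symm hij] at this
    have hyQ : 𝐐 y = 0 := by
      rw [hy, QuadraticMap.map_add 𝐐, hy0Q]
      simp [y0, QuadraticMap.map_smul, Q_ff, polar_ff_right, hli, hlj]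
    obtain ⟨ry, hry⟩ := hnorm y hyn hyQ
    have hy2 : y.2 = r := by simp [hy, y0]
    have h1 : ry = ρ r := hsame y (y0 r) ry (ρ r) hyn hyQ (hy0 r) (hy0Q r) hry (hρ r) (by
      simp [hy, y0, polar_ee_right, polar_ff_right, polar_ww_right, polar_self', Q_ee, Q_ff, Q_ww, hij,
        Ne.symm hij,
        hli, hlj, Ne.symm hli, Ne.symm hlj]
      ring) (by rw [hy2]; simp [y0])
    refine (hsame x y rx ry hx hQ hyn hyQ hix hry ?_ hy2.symm).trans h1
    simp [hy, y0, polar_ee_right, polar_ff_right, polar_ww_right, polar_self', ← hr, hc]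
    field_simp
    ring
  have step2 : ∀ (x : Vm F m W) (rx : W), x ≠ 0 → 𝐐 x = 0 →
      Img (F := F) f x (nrm x rx) → rx = ρ x.2 := by
    intro x rx hx hQ hix
    by_cases hr0 : x.2 = 0
    · have h1 := hR' x rx hx hQ hix
      have h2 := hρR x.2
      rw [hr0, QuadraticMap.map_zero, map_zero, mul_zero] at h1 h2
      rw [hRan _ h1, hr0, hRan _ h2]
    obtain ⟨l, hl⟩ : ∃ l, x.1.1 l ≠ 0 := by
      by_contra ha
      push Not at ha
      exact hr0 (hRan _ (by simpa [hypForm_apply, ha] using hQ))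
    by_cases hli : l ≠ i ∧ l ≠ j
    · exact step1 x rx l hx hQ hix hli.1 hli.2 hl
    obtain ⟨n, hnk, hnl⟩ : ∃ n : Fin m, n ≠ k ∧ n ≠ l := by
      rcases eq_or_ne l i with h0 | h0
      · exact ⟨j, hjk, by rw [h0]; exact Ne.symm hij⟩
      · exact ⟨i, hik, Ne.symm h0⟩
    have hlk : l ≠ k := by
      rintro rfl
      exact hli ⟨Ne.symm hik, Ne.symm hjk⟩
    set r := x.2 with hr
    set c := -(x.1.2 n + x.1.2 k + -(R r) * x.1.1 n + 2 * R r) / x.1.1 l with hc
    set y : Vm F m W := ee n + ee k + (-(R r)) • ff n + c • ff l + ww r with hy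
    have hyn : y ≠ 0 := fun h0 => by
      have := congrArg (fun z : Vm F m W => z.1.1 k) h0
      simp [hy, Ne.symm hnk] at this
    have hyQ : 𝐐 y = 0 := by
      simp [hy, QuadraticMap.map_add 𝐐, QuadraticMap.map_smul, Q_ee, Q_ff, Q_ww, polar_ee_right,
        polar_ff_right, polar_ww_right, hnk, Ne.symm hnk, hnl, Ne.symm hnl, hlk, Ne.symm hlk]
    obtain ⟨ry, hry⟩ := hnorm y hyn hyQ
    have hy2 : y.2 = r := by simp [hy]
    have h1 := step1 y ry k hyn hyQ hry (Ne.symm hik) (Ne.symm hjk) (by simp [hy, Ne.symm hnk])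
    refine (hsame x y rx ry hx hQ hyn hyQ hix hry ?_ hy2.symm).trans (h1.trans (by rw [hy2]))
    simp [hy, polar_ee_right, polar_ff_right, polar_ww_right, polar_self', ← hr, hc]
    field_simp
    ring
  have hall : ∀ x, x ≠ 0 → 𝐐 x = 0 → Img (F := F) f x (nrm x (ρ x.2)) := by
    intro x hx hQ
    obtain ⟨rx, hrx⟩ := hnorm x hx hQ
    rwa [← step2 x rx hx hQ hrx]
  have hρB : ∀ r r', polar R (ρ r) (ρ r') = s * σ (polar R r r') := by
    intro r r'
    set c := R r + R r' - polar R r r' with hc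
    set y : Vm F m W := y0 r' + c • ff k with hy
    set x : Vm F m W := y0 r + ee k with hx
    have hxn : x ≠ 0 := fun h0 => by
      have := congrArg (fun z : Vm F m W => z.1.1 k) h0
      simp [hx, y0, Ne.symm hik, Ne.symm hjk] at this
    have hyn : y ≠ 0 := fun h0 => by
      have := congrArg (fun z : Vm F m W => z.1.1 j) h0
      simp [hy, y0, Ne.symm hij] at this
    have hxQ : 𝐐 x = 0 := by
      rw [hx, QuadraticMap.map_add 𝐐, hy0Q]
      simp [y0, Q_ee, polar_ee_right, Ne.symm hik]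
    have hyQ : 𝐐 y = 0 := by
      rw [hy, QuadraticMap.map_add 𝐐, hy0Q]
      simp [y0, QuadraticMap.map_smul, Q_ff, polar_ff_right, Ne.symm hik, Ne.symm hjk]
    have hx2 : x.2 = r := by simp [hx, y0]
    have hy2 : y.2 = r' := by simp [hy, y0]
    have h1 := hpol x y _ _ hxn hxQ hyn hyQ (hall x hxn hxQ) (hall y hyn hyQ) (by
      simp [hx, hy, y0, polar_ee_right, polar_ff_right, polar_ww_right, Q_ee, Q_ff, hij, Ne.symm hij, hik,
        Ne.symm hik, hjk, Ne.symm hjk, hc]
      ring)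
    rwa [hx2, hy2] at h1
  refine ⟨ρ, fun a b => ?_, fun c a => ?_, hρR, hall⟩
  · rw [← sub_eq_zero]
    refine hRan _ ?_
    rw [sub_eq_add_neg, QuadraticMap.map_add R, QuadraticMap.map_neg, polar_neg_right,
      polar_add_right, QuadraticMap.map_add R (ρ a) (ρ b), hρR, hρR, hρR, hρB, hρB, hρB,
      QuadraticMap.map_add R a b]
    simp only [polar_add_left, polar_self', map_add, map_mul, map_ofNat, polar_comm R b a]
    ring
  · rw [← sub_eq_zero]
    refine hRan _ ?_
    rw [sub_eq_add_neg, QuadraticMap.map_add R, QuadraticMap.map_neg, polar_neg_right,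
      QuadraticMap.map_smul, polar_smul_right, hρR, hρR, hρB, polar_smul_left, polar_self',
      QuadraticMap.map_smul]
    simp only [smul_eq_mul, map_mul, map_ofNat]
    ring

end Normal

variable [Finite W] [FiniteDimensional F W]

include hm in
/-- Every collineation of the singular points is induced by a semisimilarity. -/
theorem exists_semisimilarity (hR : NDPolar R) (hRan : ∀ w, R w = 0 → w = 0)
    {f : Vm F m W → Vm F m W} (h : PtAut 𝐐 f) :
    ∃ (σ : F ≃+* F) (s : F) (Φ : Vm F m W ≃+ Vm F m W), s ≠ 0 ∧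
      (∀ (c : F) x, Φ (c • x) = σ c • Φ x) ∧ (∀ x, 𝐐 (Φ x) = s * σ (𝐐 x)) ∧
      ∀ x, x ≠ 0 → 𝐐 x = 0 → Img (F := F) f x (Φ x) := by
  obtain ⟨g₁, hg₁⟩ := exists_frame_normal hR h
  obtain ⟨g₂, σ, he, hf, hE⟩ :=
    exists_field_normal hm (h.comp g₁) (fun i => (hg₁ i).1) (fun i => (hg₁ i).2)
  have h2 := (h.comp g₁).comp g₂
  obtain ⟨s, hs, hEF⟩ := exists_twist hm h2 he hf hE
  obtain ⟨ρ, hadd, hsmul, hρ, hall⟩ := exists_kernel_map hm h2 he hf hE hs hEF hRan
  let g : Orth 𝐐 := (g₂ * g₁)⁻¹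
  let A : Vm F m W →+ Vm F m W :=
    AddMonoidHom.mk' (fun x => ((fun i => σ (x.1.1 i), fun i => s * σ (x.1.2 i)), ρ x.2))
      (fun x y => by
        refine Prod.ext (Prod.ext ?_ ?_) (hadd _ _) <;> funext i <;> simp [mul_add])
  let B : Vm F m W →+ Vm F m W := g.1.toAddEquiv.toAddMonoidHom.comp A
  have hA : ∀ (c : F) x, A (c • x) = σ c • A x := fun c x => by
    refine Prod.ext (Prod.ext ?_ ?_) (hsmul _ _) <;> funext i <;> simp [A, mul_left_comm]
  have hAQ : ∀ x, 𝐐 (A x) = s * σ (𝐐 x) := fun x => by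
    show 𝐐 ((fun i => σ (x.1.1 i), fun i => s * σ (x.1.2 i)), ρ x.2) = _
    rw [hypForm_apply, hypForm_apply, hρ, map_add, map_sum, mul_add, Finset.mul_sum]
    congr 1
    exact Finset.sum_congr rfl fun i _ => by rw [map_mul]; ring
  have hinj : Function.Injective B := by
    refine g.1.injective.comp ?_
    rw [injective_iff_map_eq_zero]
    intro x hx
    have h1 := congrArg (fun z : Vm F m W => z.1.1) hx
    have h2 := congrArg (fun z : Vm F m W => z.1.2) hx
    have h3 := congrArg (fun z : Vm F m W => R z.2) hx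
    refine Prod.ext (Prod.ext (funext fun i => ?_) (funext fun i => ?_)) (hRan _ ?_)
    · simpa [A] using congrFun h1 i
    · simpa [A, hs] using congrFun h2 i
    · simpa [A, hρ, hs] using h3
  have : Finite (Vm F m W) := inferInstance
  let Φ : Vm F m W ≃+ Vm F m W :=
    AddEquiv.ofBijective B (Finite.injective_iff_bijective.1 hinj)
  refine ⟨σ, s, Φ, hs, fun c x => ?_, fun x => ?_, fun x hx hQ => ?_⟩
  · show g.1 (A (c • x)) = σ c • g.1 (A x)
    rw [hA, map_smul]
  · show 𝐐 (g.1 (A x)) = _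
    rw [orth_Q, hAQ]
  · obtain ⟨c, hc, hfx⟩ := (hall x hx hQ).map_orth g
    refine ⟨c, hc, ?_⟩
    change g.1 (g₂.1 (g₁.1 (f x))) = c • g.1 (A x) at hfx
    rwa [← mul_apply g₂ g₁, inv_apply_self] at hfx

end CfsgLib.AutPOmega
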