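import Mathlib
import Cfsg.Agent.Lib.AutPOmega.Coord

/-!
Automorphisms of the central quotient of the Siegel group of a model space are induced by
semisimilarities.
-/

set_option autoImplicit false
set_option maxHeartbeats 3200000

namespace CfsgLib.AutPOmega

open QuadraticMap Module CfsgLib.Classical.Quad

variable {F V : Type*} [Field F] [AddCommGroup V] [Module F V]

/-- A semisimilarity of a quadratic space. -/
structure SemiSim (Q : QuadraticForm F V) where
  /-- the field automorphism -/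
  σ : F ≃+* F
  /-- the multiplier -/
  s : F
  s_ne : s ≠ 0
  /-- the map -/
  Φ : V ≃+ V
  map_smul : ∀ (c : F) x, Φ (c • x) = σ c • Φ x
  quad : ∀ x, Q (Φ x) = s * σ (Q x)

variable {Q : QuadraticForm F V}

namespace SemiSim

variable (T : SemiSim Q)

theorem symm_smul (c : F) (x : V) : T.Φ.symm (c • x) = T.σ.symm c • T.Φ.symm x := by
  apply T.Φ.injective
  rw [T.map_smul, T.Φ.apply_symm_apply, T.Φ.apply_symm_apply, T.σ.apply_symm_apply]

theorem polar_map (x y : V) : polar Q (T.Φ x) (T.Φ y) = T.s * T.σ (polar Q x y) := by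
  simp only [polar, ← map_add, T.quad, map_sub, mul_sub]

theorem quad_symm (x : V) : T.s * T.σ (Q (T.Φ.symm x)) = Q x := by
  rw [← T.quad, T.Φ.apply_symm_apply]

/-- Conjugation of a single isometry. -/
def conjFun (g : Orth Q) : Orth Q :=
  ⟨{ toFun := fun x => T.Φ (g.1 (T.Φ.symm x))
     invFun := fun x => T.Φ ((g⁻¹).1 (T.Φ.symm x))
     left_inv := fun x => by
       show T.Φ ((g⁻¹).1 (T.Φ.symm (T.Φ (g.1 (T.Φ.symm x))))) = x
       rw [T.Φ.symm_apply_apply, inv_apply_self, T.Φ.apply_symm_apply]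
     right_inv := fun x => by
       show T.Φ (g.1 (T.Φ.symm (T.Φ ((g⁻¹).1 (T.Φ.symm x))))) = x
       rw [T.Φ.symm_apply_apply, self_apply_inv, T.Φ.apply_symm_apply]
     map_add' := fun x y => by rw [map_add, map_add, map_add]
     map_smul' := fun c x => by
       rw [T.symm_smul, _root_.map_smul g.1, T.map_smul, T.σ.apply_symm_apply, RingHom.id_apply] },
   fun x => by
     show Q (T.Φ (g.1 (T.Φ.symm x))) = Q x
     rw [T.quad, orth_Q, T.quad_symm]⟩

theorem conjFun_apply (g : Orth Q) (x : V) : (T.conjFun g).1 x = T.Φ (g.1 (T.Φ.symm x)) := rfl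

/-- The inverse semisimilarity. -/
def inv : SemiSim Q where
  σ := T.σ.symm
  s := (T.σ.symm T.s)⁻¹
  s_ne := inv_ne_zero (by simpa using T.s_ne)
  Φ := T.Φ.symm
  map_smul := T.symm_smul
  quad x := by
    have h := congrArg T.σ.symm (T.quad_symm x)
    rw [_root_.map_mul, T.σ.symm_apply_apply] at h
    rw [← h, inv_mul_cancel_left₀ (by simpa using T.s_ne)]

/-- Conjugation of the isometry group by a semisimilarity. -/
def conjOrth : MulAut (Orth Q) where
  toFun := T.conjFun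
  invFun := T.inv.conjFun
  left_inv g := orth_ext fun x => by
    show T.Φ.symm (T.Φ (g.1 (T.Φ.symm (T.Φ x)))) = g.1 x
    rw [T.Φ.symm_apply_apply, T.Φ.symm_apply_apply]
  right_inv g := orth_ext fun x => by
    show T.Φ (T.Φ.symm (g.1 (T.Φ (T.Φ.symm x)))) = g.1 x
    rw [T.Φ.apply_symm_apply, T.Φ.apply_symm_apply]
  map_mul' g h := orth_ext fun x => by
    show T.Φ (g.1 (h.1 (T.Φ.symm x))) = T.Φ (g.1 (T.Φ.symm (T.Φ (h.1 (T.Φ.symm x)))))
    rw [T.Φ.symm_apply_apply]

theorem conjOrth_apply (g : Orth Q) (x : V) :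
    (T.conjOrth g).1 x = T.Φ (g.1 (T.Φ.symm x)) := rfl

theorem conjOrth_sg {u w : V} (hu : Q u = 0) (hw : polar Q u w = 0) :
    T.conjOrth (sg Q u w) = sg Q (T.Φ u) (T.s⁻¹ • T.Φ w) := by
  have hu' : Q (T.Φ u) = 0 := by rw [T.quad, hu, _root_.map_zero, mul_zero]
  have hw' : polar Q (T.Φ u) (T.s⁻¹ • T.Φ w) = 0 := by
    rw [polar_smul_right, T.polar_map, hw, _root_.map_zero, mul_zero, smul_zero]
  refine orth_ext fun x => ?_
  obtain ⟨x, rfl⟩ := T.Φ.surjective x
  have := T.s_ne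
  rw [conjOrth_apply, T.Φ.symm_apply_apply, sg_apply hu hw, sg_apply hu' hw', map_add, map_add,
    T.map_smul, T.map_smul, polar_smul_right, QuadraticMap.map_smul, T.polar_map, T.polar_map,
    T.quad]
  simp only [smul_eq_mul, map_sub, map_neg, _root_.map_mul, smul_smul]
  match_scalars <;> field_simp

/-- The image of a subspace. -/
def mapSub (L : Submodule F V) : Submodule F V where
  carrier := T.Φ '' L
  add_mem' := by
    rintro _ _ ⟨a, ha, rfl⟩ ⟨b, hb, rfl⟩
    exact ⟨a + b, L.add_mem ha hb, map_add _ _ _⟩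
  zero_mem' := ⟨0, L.zero_mem, _root_.map_zero _⟩
  smul_mem' := by
    rintro c _ ⟨a, ha, rfl⟩
    exact ⟨T.σ.symm c • a, L.smul_mem _ ha, by rw [T.map_smul, T.σ.apply_symm_apply]⟩

theorem mapSub_span (u w : V) :
    T.mapSub (Submodule.span F {u, w}) = Submodule.span F {T.Φ u, T.Φ w} := by
  ext x
  constructor
  · rintro ⟨a, ha, rfl⟩
    obtain ⟨c, d, rfl⟩ := Submodule.mem_span_pair.1 ha
    rw [map_add, T.map_smul, T.map_smul]
    exact Submodule.mem_span_pair.2 ⟨_, _, rfl⟩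
  · intro hx
    obtain ⟨c, d, rfl⟩ := Submodule.mem_span_pair.1 hx
    refine ⟨T.σ.symm c • u + T.σ.symm d • w, Submodule.mem_span_pair.2 ⟨_, _, rfl⟩, ?_⟩
    rw [map_add, T.map_smul, T.map_smul, T.σ.apply_symm_apply, T.σ.apply_symm_apply]

theorem li_map {u w : V} (h : LinearIndependent F ![u, w]) :
    LinearIndependent F ![T.Φ u, T.Φ w] := by
  rw [LinearIndependent.pair_iff] at h ⊢
  intro a b hab
  rw [← T.σ.apply_symm_apply a, ← T.σ.apply_symm_apply b, ← T.map_smul, ← T.map_smul, ← map_add,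
    map_eq_zero_iff _ T.Φ.injective] at hab
  obtain ⟨ha, hb⟩ := h _ _ hab
  exact ⟨by simpa using ha, by simpa using hb⟩

theorem isLine_mapSub {L : Submodule F V} (hL : IsLine Q L) : IsLine Q (T.mapSub L) := by
  obtain ⟨u, w, hind, hu, hw, huw, rfl⟩ := hL
  rw [mapSub_span]
  exact isLine_span (T.li_map hind) (by simp [T.quad, hu]) (by simp [T.quad, hw])
    (by simp [T.polar_map, huw])

theorem map_rootSub {L : Submodule F V} (hL : IsLine Q L) :
    (rootSub Q L).map T.conjOrth.toMonoidHom = rootSub Q (T.mapSub L) := by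
  obtain ⟨u, w, -, hu, hw, huw, rfl⟩ := hL
  rw [mapSub_span]
  have hu' : Q (T.Φ u) = 0 := by simp [T.quad, hu]
  have hw' : Q (T.Φ w) = 0 := by simp [T.quad, hw]
  have huw' : polar Q (T.Φ u) (T.Φ w) = 0 := by simp [T.polar_map, huw]
  ext g
  rw [Subgroup.mem_map, mem_rootSub_iff hu' hw' huw' rfl]
  constructor
  · rintro ⟨k, hk, rfl⟩
    obtain ⟨t, rfl⟩ := (mem_rootSub_iff hu hw huw rfl).1 hk
    exact ⟨T.s⁻¹ * T.σ t, by
      rw [MulEquiv.coe_toMonoidHom, T.conjOrth_sg hu (by simp [huw]), T.map_smul, smul_smul]⟩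
  · rintro ⟨t, rfl⟩
    refine ⟨_, (mem_rootSub_iff hu hw huw rfl).2 ⟨T.σ.symm (T.s * t), rfl⟩, ?_⟩
    rw [MulEquiv.coe_toMonoidHom, T.conjOrth_sg hu (by simp [huw]), T.map_smul, smul_smul,
      T.σ.apply_symm_apply, inv_mul_cancel_left₀ T.s_ne]

variable [FiniteDimensional F V] (hnd : NDPolar Q) (P : Frame Q)

/-- Conjugation by a semisimilarity on the Siegel group. -/
noncomputable def conjSiegel : MulAut (siegelGroup Q) :=
  ((MulEquiv.subgroupCongr (commutator_orth_eq hnd P).symm).trans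
    (commutatorEquiv T.conjOrth)).trans (MulEquiv.subgroupCongr (commutator_orth_eq hnd P))

theorem coe_conjSiegel (g : siegelGroup Q) :
    ((T.conjSiegel hnd P g : siegelGroup Q) : Orth Q) = T.conjOrth g := rfl

/-- Conjugation by a semisimilarity on the central quotient. -/
noncomputable def conjPS : MulAut (POm Q) := centralQuotientEquiv (T.conjSiegel hnd P)

theorem conjPS_mk (g : siegelGroup Q) :
    T.conjPS hnd P (QuotientGroup.mk g) = QuotientGroup.mk (T.conjSiegel hnd P g) := rfl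

theorem map_rbar {L : Submodule F V} (hL : IsLine Q L) :
    (rbar Q L).map (T.conjPS hnd P).toMonoidHom = rbar Q (T.mapSub L) := by
  ext x
  rw [Subgroup.mem_map, mem_rbar_iff]
  constructor
  · rintro ⟨y, hy, rfl⟩
    obtain ⟨g, hg, rfl⟩ := mem_rbar_iff.1 hy
    refine ⟨T.conjSiegel hnd P g, ?_, rfl⟩
    rw [← T.map_rootSub hL, coe_conjSiegel]
    exact ⟨_, hg, rfl⟩
  · rintro ⟨g, hg, rfl⟩
    rw [← T.map_rootSub hL] at hg
    obtain ⟨k, hk, hkg⟩ := hg
    refine ⟨QuotientGroup.mk ⟨k, rootSub_le L hk⟩, mem_rbar_iff.2 ⟨_, hk, rfl⟩, ?_⟩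
    show T.conjPS hnd P _ = _
    rw [conjPS_mk]
    exact congrArg _ (Subtype.ext hkg)

end SemiSim

section Model

variable {W : Type*} [AddCommGroup W] [Module F W] [FiniteDimensional F W] {m : ℕ}
variable {R : QuadraticForm F W} [Fintype F] (hR : NDPolar R) (hm : 3 ≤ m)
include hR hm

local notation "𝐐" => hypForm m R

/-- An automorphism fixing the root groups of all lines is trivial. -/
theorem eq_one_of_fix_rbar (p : ℕ) [Fact p.Prime] [CharP F p] (δ : MulAut (POm (hypForm m R)))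
    (h : ∀ L, IsLine (hypForm m R) L → (rbar 𝐐 L).map δ.toMonoidHom = rbar 𝐐 L) : δ = 1 := by
  have hnd := ndPolar_hypForm hR m
  refine MulEquiv.ext fun x => ?_
  obtain ⟨g, rfl⟩ := QuotientGroup.mk_surjective x
  obtain ⟨g', hg'⟩ := QuotientGroup.mk_surjective (δ (QuotientGroup.mk g))
  rw [MulAut.one_apply, ← hg']
  have hline : ∀ L, IsLine 𝐐 L → L.map ((g : Orth 𝐐).1 : Vm F m W →ₗ[F] Vm F m W) =
      L.map ((g' : Orth 𝐐).1 : Vm F m W →ₗ[F] Vm F m W) := by
    intro L hL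
    refine rbar_injective hnd (frame R hm) p (hL.map _) (hL.map _) ?_
    have h1 := h _ (hL.map (g : Orth 𝐐))
    rw [← rbar_conj, Subgroup.map_map] at h1
    rw [← rbar_conj, ← rbar_conj]
    conv_rhs => rw [← h L hL, Subgroup.map_map]
    rw [← h1]
    congr 1
    refine MonoidHom.ext fun y => ?_
    show δ (conjP (g : Orth 𝐐) y) = conjP (g' : Orth 𝐐) (δ y)
    rw [← conj_mk, ← conj_mk, MulAut.conj_apply, MulAut.conj_apply, map_mul, map_mul, map_inv, hg']
  set k : Orth 𝐐 := (g' : Orth 𝐐)⁻¹ * (g : Orth 𝐐) with hk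
  have hfix : ∀ u, u ≠ 0 → 𝐐 u = 0 → ∃ c : F, k.1 u = c • u := by
    intro u hu hQ
    obtain ⟨L, M, huL, huM, -, huniq⟩ := exists_bent hR hm u hu hQ
    have key : ∀ N : Ln 𝐐, u ∈ N.1 → k.1 u ∈ N.1 := fun N hN => by
      have h1 : (g : Orth 𝐐).1 u ∈ N.1.map ((g' : Orth 𝐐).1 : Vm F m W →ₗ[F] Vm F m W) :=
        hline N.1 N.2 ▸ Submodule.mem_map_of_mem hN
      obtain ⟨z, hz, hzeq⟩ := h1
      rw [hk, mul_apply, ← hzeq]
      exact (inv_apply_self (g' : Orth 𝐐) z).symm ▸ hz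
    exact huniq _ (key L huL) (key M huM)
  refine QuotientGroup.eq.2 ?_
  exact (mem_center_siegelGroup_iff hnd (frame R hm) _).2
    (scalar_of_fix_lines hnd (frame R hm) k hfix)

/-- An automorphism whose line permutation preserves the incidence is a semisimilarity. -/
theorem exists_semiSim_of_preserve (hRan : ∀ w, R w = 0 → w = 0) (p : ℕ) [Fact p.Prime]
    [CharP F p] (β : MulAut (POm (hypForm m R))) (τ : LinePerm (hypForm m R))
    (hτ : ∀ L, (rbar (hypForm m R) L.1).map β.toMonoidHom = rbar (hypForm m R) (τ.π L).1)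
    (hmeet : ∀ L M, Meet (τ.π L).1 (τ.π M).1 ↔ Meet L.1 M.1)
    (hperp : ∀ L M, Perp (hypForm m R) (τ.π L).1 (τ.π M).1 ↔ Perp (hypForm m R) L.1 M.1) :
    ∃ T : SemiSim (hypForm m R), β = T.conjPS (ndPolar_hypForm hR m) (frame R hm) := by
  have hnd := ndPolar_hypForm hR m
  have : Finite W := Module.finite_of_finite F
  obtain ⟨f, hf, hfl⟩ := exists_ptAut hR hm τ hmeet hperp
  obtain ⟨σ, s, Φ, hs, hsmul, hquad, himg⟩ := exists_semisimilarity hm hR hRan hf
  let T : SemiSim 𝐐 := ⟨σ, s, hs, Φ, hsmul, hquad⟩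
  refine ⟨T, ?_⟩
  set γ := T.conjPS hnd (frame R hm)
  suffices γ⁻¹ * β = 1 by
    exact (inv_mul_eq_one.1 this).symm
  refine eq_one_of_fix_rbar hR hm p _ fun L hL => ?_
  obtain ⟨u, w, hind, hu, hw, huw, hs'⟩ := id hL
  have key : (τ.π ⟨L, hL⟩).1 = T.mapSub L := by
    conv_rhs => rw [hs', T.mapSub_span]
    refine (τ.π ⟨L, hL⟩).2.eq_span ?_ ?_ (T.li_map hind)
    · obtain ⟨c, hc, hfx⟩ := himg u (hind.ne_zero 0) hu
      have h1 := (hfl u (hind.ne_zero 0) hu ⟨L, hL⟩).1
        (show u ∈ L from hs' ▸ Submodule.subset_span (Set.mem_insert _ _))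
      rw [hfx] at h1
      exact (Submodule.smul_mem_iff _ hc).1 h1
    · obtain ⟨c, hc, hfx⟩ := himg w (hind.ne_zero 1) hw
      have h1 := (hfl w (hind.ne_zero 1) hw ⟨L, hL⟩).1
        (show w ∈ L from hs' ▸ Submodule.subset_span (Set.mem_insert_of_mem _ rfl))
      rw [hfx] at h1
      exact (Submodule.smul_mem_iff _ hc).1 h1
  have h1 := hτ ⟨L, hL⟩
  rw [key, ← T.map_rbar hnd (frame R hm) hL] at h1
  rw [show (γ⁻¹ * β).toMonoidHom = (γ⁻¹).toMonoidHom.comp β.toMonoidHom from rfl,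
    ← Subgroup.map_map, h1, Subgroup.map_map]
  convert Subgroup.map_id _
  exact MonoidHom.ext fun x => γ.symm_apply_apply x

/-- Every automorphism of the central quotient is induced by a semisimilarity. -/
theorem exists_semiSim (hRan : ∀ w, R w = 0 → w = 0) (hcl : ClawHyp R m) (p : ℕ) [Fact p.Prime]
    [CharP F p] (β : MulAut (POm (hypForm m R))) :
    ∃ T : SemiSim (hypForm m R), β = T.conjPS (ndPolar_hypForm hR m) (frame R hm) := by
  obtain ⟨τ, hτ⟩ := exists_linePerm hR hm p β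
  exact exists_semiSim_of_preserve hR hm hRan p β τ hτ (τ.meet_iff hR hm hRan hcl)
    (τ.perp_iff hR hm hRan hcl)

end Model

end CfsgLib.AutPOmega
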