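import Mathlib
import Cfsg.Prelude.Def_LieTypeDatum
import Cfsg.Agent.Lib.AutPOmega.Main

/-!
`Aut(PΩ)` of the standard forms is the image of the semisimilarity group.
-/

set_option autoImplicit false
set_option maxHeartbeats 400000

namespace CfsgLib.AutPOmega

open QuadraticMap Module CfsgLib.Classical.Quad Matrix

variable {F : Type*} [Field F] {ι : Type} [Fintype ι] [DecidableEq ι] {Qf : (ι → F) → F}
variable {V : Type*} [AddCommGroup V] [Module F V] [FiniteDimensional F V] {Q : QuadraticForm F V}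

theorem isometryEquivModel_apply (e : (ι → F) ≃ₗ[F] V) (he : ∀ v, Q (e v) = Qf v)
    (s : Cfsg.isometryGroup F Qf) (v : ι → F) :
    (isometryEquivModel e he s).1 (e v) = e ((s.1 : Matrix ι ι F) *ᵥ v) := by
  show e ((isometryGroupEquiv (Q.comp (e : (ι → F) →ₗ[F] V)) he s).1 (e.symm (e v))) = _
  rw [e.symm_apply_apply]
  exact congrArg e (isometryGroupEquiv_apply _ he s v)

theorem pomegaEquiv_mk (e : (ι → F) ≃ₗ[F] V) (he : ∀ v, Q (e v) = Qf v) (hnd : NDPolar Q)
    (P : Frame Q) (s : ↥(Cfsg.Omega F Qf)) :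
    pomegaEquiv e he hnd P (QuotientGroup.mk s) = QuotientGroup.mk
      (MulEquiv.subgroupCongr (commutator_orth_eq hnd P)
        (commutatorEquiv (isometryEquivModel e he) s)) := rfl

/-- An automorphism of `PΩ` that is conjugation by a semisimilarity in the model is induced by a
semisimilarity of the standard form. -/
theorem exists_pair (e : (ι → F) ≃ₗ[F] V) (he : ∀ v, Q (e v) = Qf v) (hnd : NDPolar Q)
    (P : Frame Q) (β : Cfsg.POmega F Qf ≃* Cfsg.POmega F Qf) (T : SemiSim Q)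
    (hβ : ∀ x, pomegaEquiv e he hnd P (β x) = T.conjPS hnd P (pomegaEquiv e he hnd P x)) :
    ∃ (g : GL ι F) (σ : F ≃+* F),
      Cfsg.IsSemisimilarityPair Qf g σ ∧ Cfsg.IsInducedBySemilinearPOmega Qf g σ β := by
  let L : (ι → F) →ₗ[F] (ι → F) :=
    { toFun := fun v => e.symm (T.Φ (e fun i => T.σ.symm (v i)))
      map_add' := fun v w => by
        rw [← map_add e.symm, ← map_add T.Φ, ← map_add e]
        congr 3
        funext i
        simp
      map_smul' := fun c v => by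
        have h : (fun i => T.σ.symm ((c • v) i)) = T.σ.symm c • fun i => T.σ.symm (v i) := by
          funext i; simp
        rw [h, map_smul, T.map_smul, map_smul, T.σ.apply_symm_apply, RingHom.id_apply] }
  have hinj : Function.Injective L := fun v w h => by
    funext i
    exact T.σ.symm.injective (congrFun (e.injective (T.Φ.injective (e.symm.injective h))) i)
  let g : GL ι F := Matrix.GeneralLinearGroup.toLin.symm
    (LinearMap.GeneralLinearGroup.ofLinearEquiv (LinearEquiv.ofInjectiveEndo L hinj))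
  have hg : ∀ v, (g : Matrix ι ι F) *ᵥ v = L v := fun v => by
    have h : (Matrix.GeneralLinearGroup.toLin g : (ι → F) →ₗ[F] ι → F) v =
        (g : Matrix ι ι F) *ᵥ v := by simp
    rw [← h, MulEquiv.apply_symm_apply]
    rfl
  have hΦ : ∀ v, (g : Matrix ι ι F) *ᵥ (fun i => T.σ (v i)) = e.symm (T.Φ (e v)) := fun v => by
    rw [hg]
    show e.symm (T.Φ (e fun i => T.σ.symm (T.σ (v i)))) = _
    simp
  refine ⟨g, T.σ, ⟨Units.mk0 T.s T.s_ne, fun v => ?_⟩, fun s s' hs => ?_⟩
  · rw [hΦ, ← he, e.apply_symm_apply, T.quad, he]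
    rfl
  · refine (pomegaEquiv e he hnd P).injective ?_
    rw [hβ, pomegaEquiv_mk, pomegaEquiv_mk, T.conjPS_mk]
    congr 1
    refine Subtype.ext (orth_ext fun x => ?_)
    show T.Φ ((isometryEquivModel e he s.1).1 (T.Φ.symm x)) = (isometryEquivModel e he s'.1).1 x
    obtain ⟨y, rfl⟩ := T.Φ.surjective x
    obtain ⟨v, rfl⟩ := e.surjective y
    rw [T.Φ.symm_apply_apply, isometryEquivModel_apply]
    have h1 : T.Φ (e v) = e ((g : Matrix ι ι F) *ᵥ fun i => T.σ (v i)) := by
      rw [hΦ, e.apply_symm_apply]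
    rw [h1, isometryEquivModel_apply, hs, Matrix.mulVec_mulVec, Matrix.mul_assoc _ _ (g : Matrix ι ι F),
      Units.inv_mul, Matrix.mul_one, ← Matrix.mulVec_mulVec]
    have h2 : ((s.1.1 : Matrix ι ι F).map T.σ) *ᵥ (fun i => T.σ (v i)) =
        fun i => T.σ (((s.1.1 : Matrix ι ι F) *ᵥ v) i) := by
      funext i
      simp [Matrix.mulVec, dotProduct, map_sum]
    rw [h2, hΦ, e.apply_symm_apply]

variable {W : Type*} [AddCommGroup W] [Module F W] [FiniteDimensional F W] {m : ℕ}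
variable {R : QuadraticForm F W}

/-- Every automorphism of `PΩ` comes from a semisimilarity. -/
theorem gammaPOmega_eq_top [Fintype F] (e : (ι → F) ≃ₗ[F] Vm F m W)
    (he : ∀ v, hypForm m R (e v) = Qf v) (hR : NDPolar R) (hm : 3 ≤ m)
    (hRan : ∀ w, R w = 0 → w = 0) (hcl : ClawHyp R m) : Cfsg.gammaPOmega F Qf = ⊤ := by
  obtain ⟨p, hp⟩ := CharP.exists F
  haveI : Fact p.Prime := ⟨CharP.char_is_prime F p⟩
  have hnd := ndPolar_hypForm hR m
  let E := pomegaEquiv e he hnd (frame R hm)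
  refine eq_top_iff.2 fun β _ => Subgroup.subset_closure ?_
  obtain ⟨T, hT⟩ := exists_semiSim hR hm hRan hcl p (E.symm.trans (β.trans E))
  obtain ⟨g, σ, h1, h2⟩ := exists_pair e he hnd (frame R hm) β T fun x => by
    have := congrArg (fun γ : MulAut (POm (hypForm m R)) => γ (E x)) hT
    simpa [E] using this
  exact ⟨g, σ, h1, h2⟩

theorem clawHyp_of_five_le (R : QuadraticForm F W) (hm : 5 ≤ m) : ClawHyp R m := by
  refine Or.inr ⟨by omega, ee ⟨4, by omega⟩ + ff ⟨4, by omega⟩, ?_, fun l hl => ?_⟩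
  · simp [QuadraticMap.map_add (hypForm m R), Q_ee, Q_ff, polar_ff_right]
  · have hne : l ≠ (⟨4, by omega⟩ : Fin m) := fun h => by rw [h] at hl; simp at hl
    constructor <;> simp [hne]

theorem clawHyp_of_kernel (R : QuadraticForm F W) (hm : 3 ≤ m) (w : W) (hw : R w ≠ 0) :
    ClawHyp R m := by
  rcases hm.eq_or_lt with h | h
  · exact Or.inl h.symm
  · exact Or.inr ⟨h, ww w, by rwa [Q_ww], fun l _ => ⟨rfl, rfl⟩⟩

/-- `Aut(PΩ_{2m+1}(F))`, `F` of odd order. -/
theorem gammaPOmega_odd_eq_top [Fintype F] (hodd : Odd (Nat.card F)) (hm : 3 ≤ m) :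
    Cfsg.gammaPOmega F (Cfsg.quadFormOdd m F) = ⊤ := by
  have h2 := two_ne_zero_iff_odd.2 hodd
  refine gammaPOmega_eq_top (oddEquiv m F) (oddEquiv_spec m) (ndPolar_lineForm h2) hm
    (fun w hw => ?_) (clawHyp_of_kernel _ hm 1 (by simp [lineForm_apply]))
  funext u
  rw [lineForm_apply, mul_self_eq_zero] at hw
  exact hw

/-- `Aut(PΩ⁺_{2m}(F))`, `m ≥ 5`. -/
theorem gammaPOmega_plus_eq_top [Fintype F] (hm : 5 ≤ m) :
    Cfsg.gammaPOmega F (Cfsg.quadFormPlus m F) = ⊤ :=
  gammaPOmega_eq_top (plusEquiv m F) (plusEquiv_spec m) ndPolar_zeroKernel (by omega)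
    (fun _ _ => Subsingleton.elim _ _) (clawHyp_of_five_le _ hm)

/-- `Aut(PΩ⁻_{2m+2}(F))`. -/
theorem gammaPOmega_minus_eq_top [Fintype F] {a b : F} (hab : IsAniso a b) (hm : 3 ≤ m) :
    Cfsg.gammaPOmega F (Cfsg.quadFormMinus m F a b) = ⊤ :=
  gammaPOmega_eq_top (minusEquiv m F) (minusEquiv_spec m a b) (ndPolar_binForm hab) hm
    (fun _ hw => binForm_eq_zero hab hw)
    (clawHyp_of_kernel _ hm ![1, 0] (by simp [binForm_apply]))

end CfsgLib.AutPOmega
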