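import Mathlib
import Cfsg.Agent.Lib.AutPOmega.Transfer

/-!
The group of semisimilarities of a model space, its map onto the automorphism group of the central
quotient of the Siegel group, and the order of that automorphism group.
-/

set_option autoImplicit false
set_option maxHeartbeats 800000

namespace CfsgLib.AutPOmega

open QuadraticMap Module CfsgLib.Classical.Quad

variable {F V : Type*} [Field F] [AddCommGroup V] [Module F V]
variable {Q : QuadraticForm F V}

namespace SemiSim

theorem ext' {T U : SemiSim Q} (h1 : T.σ = U.σ) (h2 : T.s = U.s) (h3 : ∀ x, T.Φ x = U.Φ x) :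
    T = U := by
  obtain ⟨σ, s, hs, Φ, h, hq⟩ := T
  obtain ⟨σ', s', hs', Φ', h', hq'⟩ := U
  obtain rfl : σ = σ' := h1
  obtain rfl : s = s' := h2
  obtain rfl : Φ = Φ' := AddEquiv.ext h3
  rfl

instance : One (SemiSim Q) :=
  ⟨{ σ := 1, s := 1, s_ne := one_ne_zero, Φ := AddEquiv.refl V, map_smul := fun _ _ => rfl,
     quad := fun x => (one_mul (Q x)).symm }⟩

instance : Mul (SemiSim Q) :=
  ⟨fun T U =>
    { σ := T.σ * U.σ
      s := T.s * T.σ U.s
      s_ne := mul_ne_zero T.s_ne (by simpa using U.s_ne)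
      Φ := U.Φ.trans T.Φ
      map_smul := fun c x => by
        show T.Φ (U.Φ (c • x)) = T.σ (U.σ c) • T.Φ (U.Φ x)
        rw [U.map_smul, T.map_smul]
      quad := fun x => by
        show Q (T.Φ (U.Φ x)) = T.s * T.σ U.s * T.σ (U.σ (Q x))
        rw [T.quad, U.quad, _root_.map_mul, mul_assoc] }⟩

instance : Inv (SemiSim Q) := ⟨fun T => T.inv⟩

theorem mul_σ (T U : SemiSim Q) : (T * U).σ = T.σ * U.σ := rfl

theorem mul_s (T U : SemiSim Q) : (T * U).s = T.s * T.σ U.s := rfl

theorem mul_Φ (T U : SemiSim Q) (x : V) : (T * U).Φ x = T.Φ (U.Φ x) := rfl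

instance : Group (SemiSim Q) where
  mul_assoc T U X := ext' (mul_assoc T.σ U.σ X.σ)
    (by simp only [mul_s, mul_σ, _root_.map_mul, mul_assoc]; rfl) fun _ => rfl
  one_mul T := ext' (one_mul T.σ) (show (1 : F) * T.s = T.s from one_mul _) fun _ => rfl
  mul_one T := ext' (mul_one T.σ)
    (show T.s * T.σ 1 = T.s by rw [_root_.map_one, mul_one]) fun _ => rfl
  inv_mul_cancel T := by
    refine ext' (inv_mul_cancel T.σ) ?_ fun x => T.Φ.symm_apply_apply x
    show (T.σ.symm T.s)⁻¹ * T.σ.symm T.s = 1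
    exact inv_mul_cancel₀ (by simpa using T.s_ne)

/-- The field automorphism of a semisimilarity. -/
def toσ : SemiSim Q →* (F ≃+* F) where
  toFun T := T.σ
  map_one' := rfl
  map_mul' _ _ := rfl

/-- An isometry as a semisimilarity. -/
def ofOrth : Orth Q →* SemiSim Q where
  toFun g :=
    { σ := 1, s := 1, s_ne := one_ne_zero, Φ := g.1.toAddEquiv
      map_smul := fun c x => g.1.map_smul c x
      quad := fun x => (orth_Q g x).trans (one_mul (Q x)).symm }
  map_one' := ext' rfl rfl fun _ => rfl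
  map_mul' g h := ext' (mul_one (1 : F ≃+* F)).symm
    (show (1 : F) = 1 * (1 : F ≃+* F) 1 by simp) fun _ => rfl

theorem ofOrth_Φ (g : Orth Q) (x : V) : (ofOrth g).Φ x = g.1 x := rfl

/-- The scalar semisimilarities. -/
def scal : Fˣ →* SemiSim Q where
  toFun c :=
    { σ := 1, s := (c : F) * c, s_ne := mul_ne_zero c.ne_zero c.ne_zero
      Φ :=
        { toFun := fun x => (c : F) • x
          invFun := fun x => ((c⁻¹ : Fˣ) : F) • x
          left_inv := fun x => by simp [smul_smul]
          right_inv := fun x => by simp [smul_smul]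
          map_add' := smul_add (c : F) }
      map_smul := fun d x => smul_comm (c : F) d x
      quad := fun x => by
        show Q ((c : F) • x) = (c : F) * c * Q x
        rw [QuadraticMap.map_smul, smul_eq_mul] }
  map_one' := ext' rfl (by show ((1 : Fˣ) : F) * _ = (1 : F); simp)
    fun x => one_smul F x
  map_mul' c d := ext' (mul_one (1 : F ≃+* F)).symm
    (show ((c * d : Fˣ) : F) * (c * d : Fˣ) = (c : F) * c * ((d : F) * d) by
      rw [Units.val_mul]; ring)
    fun x => show ((c * d : Fˣ) : F) • x = (c : F) • (d : F) • x by rw [Units.val_mul, smul_smul]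

theorem scal_Φ (c : Fˣ) (x : V) : (scal (Q := Q) c).Φ x = (c : F) • x := rfl

variable [FiniteDimensional F V] (hnd : NDPolar Q) (P : Frame Q)

/-- Conjugation, as a homomorphism. -/
noncomputable def conjHom : SemiSim Q →* MulAut (POm Q) :=
  MonoidHom.mk' (fun T => T.conjPS hnd P) fun T U => MulEquiv.ext fun x => by
    obtain ⟨g, rfl⟩ := QuotientGroup.mk_surjective x
    rw [MulAut.mul_apply, conjPS_mk, conjPS_mk, conjPS_mk]
    exact congrArg _ (Subtype.ext (orth_ext fun y => rfl))

theorem conjHom_apply (T : SemiSim Q) : conjHom hnd P T = T.conjPS hnd P := rfl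

theorem conjHom_scal (c : Fˣ) : conjHom hnd P (scal c) = 1 := by
  refine MulEquiv.ext fun x => ?_
  obtain ⟨g, rfl⟩ := QuotientGroup.mk_surjective x
  rw [conjHom_apply, conjPS_mk, MulAut.one_apply]
  refine congrArg _ (Subtype.ext (orth_ext fun y => ?_))
  show (c : F) • (g : Orth Q).1 (((c⁻¹ : Fˣ) : F) • y) = (g : Orth Q).1 y
  rw [_root_.map_smul, smul_smul, Units.mul_inv, one_smul]

theorem conjHom_ofOrth_siegel (g : siegelGroup Q) :
    conjHom hnd P (ofOrth (g : Orth Q)) = MulAut.conj (QuotientGroup.mk g : POm Q) := by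
  refine MulEquiv.ext fun x => ?_
  obtain ⟨k, rfl⟩ := QuotientGroup.mk_surjective x
  rw [conjHom_apply, conjPS_mk, MulAut.conj_apply, ← QuotientGroup.mk_inv, ← QuotientGroup.mk_mul,
    ← QuotientGroup.mk_mul]
  exact congrArg _ (Subtype.ext (orth_ext fun y => rfl))

end SemiSim

/-! ### Multipliers -/

/-- `det² = s^n` for a similarity. -/
theorem det_sq_eq_pow [FiniteDimensional F V] (hnd : NDPolar Q) (L : V →ₗ[F] V) (s : F)
    (hL : ∀ x, Q (L x) = s * Q x) : LinearMap.det L ^ 2 = s ^ finrank F V := by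
  classical
  let b := Module.finBasis F V
  set B := polarBilin Q with hB
  have hcomp : B.compl₁₂ L L = s • B := by
    refine LinearMap.ext fun x => LinearMap.ext fun y => ?_
    simp [hB, polarBilin_apply_apply, polar, ← map_add, hL, mul_sub]
  have h := congrArg Matrix.det (LinearMap.toMatrix₂_compl₁₂ b b b b B L L)
  rw [hcomp, _root_.map_smul, Matrix.det_smul, Matrix.det_mul, Matrix.det_mul, Matrix.det_transpose,
    LinearMap.det_toMatrix, Fintype.card_fin] at h
  have hne : (LinearMap.toMatrix₂ b b B).det ≠ 0 :=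
    (LinearMap.BilinForm.nondegenerate_iff_det_ne_zero b).1 (polarBilin_nondegenerate hnd)
  refine mul_right_cancel₀ hne ?_
  linear_combination -h

namespace SemiSim

/-- The multiplier, on the similarities. -/
def toS : (toσ (Q := Q)).ker →* Fˣ where
  toFun T := Units.mk0 T.1.s T.1.s_ne
  map_one' := Units.ext rfl
  map_mul' T U := Units.ext (by
    show T.1.s * T.1.σ U.1.s = T.1.s * U.1.s
    rw [show T.1.σ = 1 from T.2]
    rfl)

theorem toS_ker_eq : Nat.card (toS (Q := Q)).ker = Nat.card (Orth Q) := by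
  have hσ : ∀ T : (toS (Q := Q)).ker, T.1.1.σ = 1 := fun T => T.1.2
  have hs : ∀ T : (toS (Q := Q)).ker, T.1.1.s = 1 := fun T => congrArg Units.val T.2
  refine Nat.card_congr
    { toFun := fun T => ⟨{ T.1.1.Φ with
        map_smul' := fun c x => by
          show T.1.1.Φ (c • x) = c • T.1.1.Φ x
          rw [T.1.1.map_smul, hσ T]; rfl },
        fun x => by
          show Q (T.1.1.Φ x) = Q x
          rw [T.1.1.quad, hσ T, hs T, one_mul]; rfl⟩
      invFun := fun g => ⟨⟨ofOrth g, rfl⟩, Units.ext rfl⟩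
      left_inv := fun T => Subtype.ext (Subtype.ext (ext' (hσ T).symm (hs T).symm fun _ => rfl))
      right_inv := fun g => orth_ext fun _ => rfl }

/-- The order of the group of semisimilarities. -/
theorem card_eq :
    Nat.card (SemiSim Q) =
      Nat.card (toσ (Q := Q)).range * Nat.card (toS (Q := Q)).range * Nat.card (Orth Q) := by
  rw [← toS_ker_eq, Subgroup.card_eq_card_quotient_mul_card_subgroup (toσ (Q := Q)).ker,
    Nat.card_congr (QuotientGroup.quotientKerEquivRange (toσ (Q := Q))).toEquiv,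
    Subgroup.card_eq_card_quotient_mul_card_subgroup (toS (Q := Q)).ker,
    Nat.card_congr (QuotientGroup.quotientKerEquivRange (toS (Q := Q))).toEquiv, mul_assoc]

end SemiSim

section Model

variable {W : Type*} [AddCommGroup W] [Module F W] [FiniteDimensional F W] {m : ℕ}
variable {R : QuadraticForm F W} [Fintype F] (hR : NDPolar R) (hm : 3 ≤ m)
variable (p : ℕ) [Fact p.Prime] [CharP F p]
include hR hm p

/-- The kernel of conjugation consists of the scalars. -/
theorem conjHom_ker :
    (SemiSim.conjHom (ndPolar_hypForm hR m) (frame R hm)).ker =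
      (SemiSim.scal (Q := hypForm m R)).range := by
  refine le_antisymm (fun T hT => ?_) ?_
  swap
  · rintro _ ⟨c, rfl⟩
    exact SemiSim.conjHom_scal _ _ c
  have hnd := ndPolar_hypForm hR m
  have hline : ∀ L, IsLine (hypForm m R) L → T.mapSub L = L := fun L hL => by
    refine rbar_injective hnd (frame R hm) p (T.isLine_mapSub hL) hL ?_
    rw [← T.map_rbar hnd (frame R hm) hL, ← SemiSim.conjHom_apply, MonoidHom.mem_ker.1 hT]
    exact Subgroup.map_id _
  have hpt : ∀ u, u ≠ 0 → hypForm m R u = 0 → ∃ c : F, T.Φ u = c • u := by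
    intro u hu hQ
    obtain ⟨L, M, huL, huM, -, huniq⟩ := exists_bent hR hm u hu hQ
    exact huniq _ (hline L.1 L.2 ▸ ⟨u, huL, rfl⟩) (hline M.1 M.2 ▸ ⟨u, huM, rfl⟩)
  let i : Fin m := ⟨0, by omega⟩
  let j : Fin m := ⟨1, by omega⟩
  have hij : i ≠ j := by simp [i, j]
  obtain ⟨a, ha⟩ := hpt _ (ee_ne_zero i) (Q_ee i)
  obtain ⟨b, hb⟩ := hpt _ (ee_ne_zero j) (Q_ee j)
  obtain ⟨d, hd⟩ := hpt _ (ff_ne_zero i) (Q_ff i)
  have key : ∀ (x y : Vm F m W) (α β : F) (t : F), LinearIndependent F ![x, y] →
      hypForm m R x = 0 → hypForm m R y = 0 → polar (hypForm m R) x y = 0 → T.Φ x = α • x →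
      T.Φ y = β • y → α * t = T.σ t * β := by
    intro x y α β t hind hx hy hxy hα hβ
    have hne : x + t • y ≠ 0 := fun h0 => by
      obtain ⟨h1, -⟩ := LinearIndependent.pair_iff.1 hind 1 t (by rwa [one_smul])
      exact one_ne_zero h1
    obtain ⟨c, hc⟩ := hpt _ hne (by
      simp [QuadraticMap.map_add (hypForm m R), QuadraticMap.map_smul, hx, hy, hxy])
    rw [map_add, T.map_smul, hα, hβ, smul_smul, smul_add, smul_smul] at hc
    obtain ⟨h1, h2⟩ := coeff_pair hind hc
    rw [h2, h1]
  have k1 := fun t => key _ _ a b t (li_ee i j hij) (Q_ee i) (Q_ee j) (by simp [polar_ee_right]) ha hb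
  have k2 := fun t => key _ _ b d t (li_ef j i) (Q_ee j) (Q_ff i)
    (by simp [polar_ff_right, hij]) hb hd
  have hab : a = b := by simpa using k1 1
  have hbd : b = d := by simpa using k2 1
  have ha0 : a ≠ 0 := fun h0 => ee_ne_zero (W := W) i
    ((map_eq_zero_iff _ T.Φ.injective).1 (by rw [ha, h0, zero_smul]))
  have hσ : T.σ = 1 := RingEquiv.ext fun t => by
    have := k1 t
    rw [← hab] at this
    show T.σ t = t
    exact (mul_left_cancel₀ ha0 (by rw [this, mul_comm])).symm
  have hs : T.s = a * a := by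
    have h1 := T.polar_map (ee i : Vm F m W) (ff i)
    rw [ha, hd, ← hbd, ← hab] at h1
    simpa [polar_ff_right, hσ] using h1.symm
  let g : Orth (hypForm m R) :=
    ⟨LinearEquiv.ofBijective
      { toFun := fun x => a⁻¹ • T.Φ x
        map_add' := fun x y => by rw [map_add, smul_add]
        map_smul' := fun c x => by
          rw [T.map_smul, hσ, smul_comm]; rfl }
      ⟨fun x y h => T.Φ.injective (smul_right_injective _ (inv_ne_zero ha0) h), fun y => by
        obtain ⟨x, hx⟩ := T.Φ.surjective (a • y)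
        exact ⟨x, show a⁻¹ • T.Φ x = y by rw [hx, smul_smul, inv_mul_cancel₀ ha0, one_smul]⟩⟩,
     fun x => by
      show hypForm m R (a⁻¹ • T.Φ x) = hypForm m R x
      rw [QuadraticMap.map_smul, T.quad, hσ, hs, smul_eq_mul]
      show a⁻¹ * a⁻¹ * (a * a * hypForm m R x) = _
      field_simp⟩
  have hsc := scalar_of_fix_lines hnd (frame R hm) g fun u hu hQ => by
    obtain ⟨c, hc⟩ := hpt u hu hQ
    exact ⟨a⁻¹ * c, show a⁻¹ • T.Φ u = _ by rw [hc, smul_smul]⟩
  have hcases : (∀ x, T.Φ x = a • x) ∨ ∀ x, T.Φ x = (-a) • x := by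
    rcases hsc with h | h
    · refine Or.inl fun x => ?_
      have h1 : a⁻¹ • T.Φ x = x := h x
      conv_rhs => rw [← h1, smul_smul, mul_inv_cancel₀ ha0, one_smul]
    · refine Or.inr fun x => ?_
      have h1 : a⁻¹ • T.Φ x = -x := h x
      rw [neg_smul, ← smul_neg, ← h1, smul_smul, mul_inv_cancel₀ ha0, one_smul]
  rcases hcases with h | h
  · exact ⟨Units.mk0 a ha0, SemiSim.ext' hσ.symm hs.symm fun x => (h x).symm⟩
  · exact ⟨Units.mk0 (-a) (neg_ne_zero.2 ha0),
      SemiSim.ext' hσ.symm ((neg_mul_neg a a).trans hs.symm) fun x => (h x).symm⟩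

/-- The order of the automorphism group of the central quotient. -/
theorem card_mulAut (hRan : ∀ w, R w = 0 → w = 0) (hcl : ClawHyp R m) :
    Nat.card (MulAut (POm (hypForm m R))) * (Nat.card F - 1) =
      Nat.card (SemiSim (hypForm m R)) := by
  classical
  set C := SemiSim.conjHom (ndPolar_hypForm hR m) (frame R hm)
  have hsurj : Function.Surjective C := fun β => by
    obtain ⟨T, hT⟩ := exists_semiSim hR hm hRan hcl p β
    exact ⟨T, hT.symm⟩
  have hinj : Function.Injective (SemiSim.scal (Q := hypForm m R)) := fun c d h => by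
    have h1 := congrArg
      (fun T : SemiSim (hypForm m R) => (T.Φ (ee ⟨0, by omega⟩)).1.1 ⟨0, by omega⟩) h
    refine Units.ext ?_
    simpa [SemiSim.scal_Φ] using h1
  rw [Subgroup.card_eq_card_quotient_mul_card_subgroup C.ker,
    Nat.card_congr (QuotientGroup.quotientKerEquivOfSurjective C hsurj).toEquiv,
    conjHom_ker hR hm p, ← Nat.card_congr (MonoidHom.ofInjective hinj).toEquiv,
    Nat.card_units]

end Model

end CfsgLib.AutPOmega
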