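import Mathlib
import Cfsg.Agent.Lib.AutPOmega.Semi
import Cfsg.Agent.Lib.AutPOmega.BinFrob
import Cfsg.Agent.Lib.AutPSL.FieldAut

/-!
Standard semisimilarities of the models and the orders of the automorphism groups of the standard
groups `PΩ`.
-/

set_option autoImplicit false
set_option maxHeartbeats 800000

namespace CfsgLib.AutPOmega

open QuadraticMap Module CfsgLib.Classical.Quad

variable {F : Type*} [Field F]

section Lift

variable {W : Type*} [AddCommGroup W] [Module F W] (m : ℕ) {R : QuadraticForm F W}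

/-- The semisimilarity of a model built from one of the kernel part. -/
def liftSemi (T : SemiSim R) : SemiSim (hypForm m R) where
  σ := T.σ
  s := T.s
  s_ne := T.s_ne
  Φ :=
    { toFun := fun x => ((fun i => T.σ (x.1.1 i), fun i => T.s * T.σ (x.1.2 i)), T.Φ x.2)
      invFun := fun x =>
        ((fun i => T.σ.symm (x.1.1 i), fun i => T.σ.symm (T.s⁻¹ * x.1.2 i)), T.Φ.symm x.2)
      left_inv := fun x => by
        refine Prod.ext (Prod.ext (funext fun i => ?_) (funext fun i => ?_)) ?_ <;> simp [T.s_ne]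
      right_inv := fun x => by
        refine Prod.ext (Prod.ext (funext fun i => ?_) (funext fun i => ?_)) ?_ <;> simp [T.s_ne]
      map_add' := fun x y => by
        refine Prod.ext (Prod.ext (funext fun i => ?_) (funext fun i => ?_)) ?_ <;> simp [mul_add] }
  map_smul c x := by
    refine Prod.ext (Prod.ext (funext fun i => ?_) (funext fun i => ?_)) (T.map_smul c x.2) <;>
      simp [mul_left_comm]
  quad x := by
    show hypForm m R ((fun i => T.σ (x.1.1 i), fun i => T.s * T.σ (x.1.2 i)), T.Φ x.2) = _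
    rw [hypForm_apply, hypForm_apply, T.quad, map_add, map_sum, mul_add, Finset.mul_sum]
    congr 1
    exact Finset.sum_congr rfl fun i _ => by rw [_root_.map_mul]; ring

theorem liftSemi_Φ (T : SemiSim R) (x : Vm F m W) :
    (liftSemi m T).Φ x = ((fun i => T.σ (x.1.1 i), fun i => T.s * T.σ (x.1.2 i)), T.Φ x.2) := rfl

/-- Lifting is a homomorphism. -/
def liftHom (R : QuadraticForm F W) : SemiSim R →* SemiSim (hypForm m R) where
  toFun := liftSemi m
  map_one' := SemiSim.ext' rfl rfl fun x => by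
    show ((fun i => x.1.1 i, fun i => (1 : F) * x.1.2 i), x.2) = x
    simp
  map_mul' T U := SemiSim.ext' rfl rfl fun x => by
    rw [SemiSim.mul_Φ, liftSemi_Φ, liftSemi_Φ, liftSemi_Φ, SemiSim.mul_Φ, SemiSim.mul_σ,
      SemiSim.mul_s]
    refine Prod.ext (Prod.ext rfl (funext fun i => ?_)) rfl
    show T.s * T.σ U.s * T.σ (U.σ (x.1.2 i)) = T.s * T.σ (U.s * U.σ (x.1.2 i))
    rw [_root_.map_mul, mul_assoc]

end Lift

variable [Fintype F]

/-- The Frobenius generates the automorphisms of a finite field. -/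
theorem exists_frobenius_gen (p : ℕ) [Fact p.Prime] [CharP F p] :
    ∃ φ : F ≃+* F, (∀ x, φ x = x ^ p) ∧ ∀ σ : F ≃+* F, ∃ k : ℕ, φ ^ k = σ := by
  letI : Algebra (ZMod p) F := ZMod.algebra _ _
  refine ⟨(FiniteField.frobeniusAlgEquivOfAlgebraic (ZMod p) F).toRingEquiv,
    fun x => ?_, fun σ => ?_⟩
  · show FiniteField.frobeniusAlgEquivOfAlgebraic (ZMod p) F x = _
    simp [ZMod.card]
  · let σ' : F ≃ₐ[ZMod p] F := AlgEquiv.ofRingEquiv (f := σ)
      (fun x => by rw [← ZMod.natCast_zmod_val x, map_natCast, map_natCast])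
    obtain ⟨⟨k, _⟩, hk⟩ :=
      (FiniteField.bijective_frobeniusAlgEquivOfAlgebraic_pow (ZMod p) F).2 σ'
    refine ⟨k, RingEquiv.ext fun x => ?_⟩
    have h1 : ∀ (n : ℕ) (y : F),
        ((FiniteField.frobeniusAlgEquivOfAlgebraic (ZMod p) F).toRingEquiv ^ n) y =
          (FiniteField.frobeniusAlgEquivOfAlgebraic (ZMod p) F ^ n) y := by
      intro n
      induction n with
      | zero => exact fun y => rfl
      | succ n ih => intro y; rw [pow_succ, pow_succ]; exact ih _
    rw [h1]
    exact congrArg (fun τ : F ≃ₐ[ZMod p] F => τ x) hk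

/-- The coordinatewise semisimilarity of the one-dimensional form. -/
def lineSemi (σ : F ≃+* F) : SemiSim (lineForm F) where
  σ := σ
  s := 1
  s_ne := one_ne_zero
  Φ :=
    { toFun := fun x u => σ (x u)
      invFun := fun x u => σ.symm (x u)
      left_inv := fun x => by funext u; simp
      right_inv := fun x => by funext u; simp
      map_add' := fun x y => by funext u; simp }
  map_smul c x := by funext u; simp
  quad x := by
    show lineForm F (fun u => σ (x u)) = _
    rw [lineForm_apply, lineForm_apply, one_mul, _root_.map_mul]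

variable {a b : F}

theorem binMul_injective (hab : IsAniso a b) {v : Fin 2 → F} (hv : binForm a b v ≠ 0) :
    Function.Injective (binMul a b v) := by
  rw [← LinearMap.ker_eq_bot, eq_bot_iff]
  intro x hx
  refine binForm_eq_zero hab ?_
  have h := binForm_binMul a b v x
  rw [LinearMap.mem_ker.1 hx, QuadraticMap.map_zero] at h
  exact (mul_eq_zero.1 h.symm).resolve_left hv

/-- Multiplication by a vector is a similarity of the binary form. -/
theorem exists_bin_similarity (hab : IsAniso a b) {c : F} (hc : c ≠ 0) :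
    ∃ T : SemiSim (binForm a b), T.σ = 1 ∧ T.s = c := by
  obtain ⟨v, hv⟩ := exists_binForm_eq hab c
  exact ⟨{ σ := 1, s := c, s_ne := hc
           Φ := (LinearEquiv.ofInjectiveEndo (binMul a b v)
            (binMul_injective hab (by rw [hv]; exact hc))).toAddEquiv
           map_smul := fun d x => (binMul a b v).map_smul d x
           quad := fun x => (binForm_binMul a b v x).trans (by rw [hv]; rfl) }, rfl, rfl⟩

/-- The Frobenius semisimilarity of the binary form, with reflection as `f`-th power. -/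
theorem exists_bin_frob_semi (p f : ℕ) [Fact p.Prime] [CharP F p] (hF : Fintype.card F = p ^ f)
    (hab : IsAniso a b) :
    ∃ T : SemiSim (binForm a b), (∀ x, T.σ x = x ^ p) ∧ T.s = 1 ∧
      ∀ x, T.Φ^[f] x = (refl (binForm a b) ![a, -2]).1 x := by
  obtain ⟨φ, hφ, -⟩ := exists_frobenius_gen (F := F) p
  obtain ⟨ρ, hadd, hsmul, hquad, hiter⟩ := exists_bin_frobenius p f hF hab
  let A : (Fin 2 → F) →+ (Fin 2 → F) := AddMonoidHom.mk' ρ hadd
  have hinj : Function.Injective A := by
    rw [injective_iff_map_eq_zero]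
    intro x hx
    have h1 : binForm a b x ^ p = 0 := by
      rw [← hquad, show ρ x = 0 from hx, QuadraticMap.map_zero]
    exact binForm_eq_zero hab (eq_zero_of_pow_eq_zero h1)
  exact ⟨{ σ := φ, s := 1, s_ne := one_ne_zero
           Φ := AddEquiv.ofBijective A (Finite.injective_iff_bijective.1 hinj)
           map_smul := fun c x => (hsmul c x).trans (by rw [hφ]; rfl)
           quad := fun x => (hquad x).trans (by rw [one_mul, hφ]) }, hφ, rfl, hiter⟩

theorem toσ_lift_surjective_odd (m : ℕ) :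
    Function.Surjective (SemiSim.toσ (Q := hypForm m (lineForm F))) :=
  fun σ => ⟨liftSemi m (lineSemi σ), rfl⟩

theorem toσ_lift_surjective_minus (p f : ℕ) [Fact p.Prime] [CharP F p]
    (hF : Fintype.card F = p ^ f) (hab : IsAniso a b) (m : ℕ) :
    Function.Surjective (SemiSim.toσ (Q := hypForm m (binForm a b))) := by
  intro σ
  obtain ⟨φ, hφ, hgen⟩ := exists_frobenius_gen (F := F) p
  obtain ⟨T, hT, -, -⟩ := exists_bin_frob_semi p f hF hab
  obtain ⟨k, rfl⟩ := hgen σ
  refine ⟨liftSemi m T ^ k, ?_⟩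
  rw [map_pow]
  congr 1
  exact RingEquiv.ext fun x => (hT x).trans (hφ x).symm

theorem toS_surjective_minus (hab : IsAniso a b) (m : ℕ) :
    Function.Surjective (SemiSim.toS (Q := hypForm m (binForm a b))) := by
  intro c
  obtain ⟨T, h1, h2⟩ := exists_bin_similarity hab c.ne_zero
  exact ⟨⟨liftSemi m T, h1⟩, Units.ext h2⟩

theorem toS_range_odd (h2 : (2 : F) ≠ 0) (m : ℕ) :
    (SemiSim.toS (Q := hypForm m (lineForm F))).range = (powMonoidHom 2 : Fˣ →* Fˣ).range := by
  refine le_antisymm ?_ ?_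
  · rintro _ ⟨T, rfl⟩
    have hσ : T.1.σ = 1 := T.2
    let L : Vm F m (Unit → F) →ₗ[F] Vm F m (Unit → F) :=
      { toFun := T.1.Φ
        map_add' := map_add T.1.Φ
        map_smul' := fun c x => by rw [T.1.map_smul, hσ]; rfl }
    have hd := det_sq_eq_pow (ndPolar_hypForm (ndPolar_lineForm h2) m) L T.1.s fun x => by
      show hypForm m (lineForm F) (T.1.Φ x) = _
      rw [T.1.quad, hσ]; rfl
    have hfr : finrank F (Vm F m (Unit → F)) = 2 * m + 1 := by
      simp [Module.finrank_prod, two_mul]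
    rw [hfr, pow_succ T.1.s, mul_comm 2 m, pow_mul] at hd
    have hd0 : LinearMap.det L ≠ 0 := fun h0 => by
      rw [h0, zero_pow two_ne_zero] at hd
      exact mul_ne_zero (pow_ne_zero _ (pow_ne_zero _ T.1.s_ne)) T.1.s_ne hd.symm
    refine ⟨Units.mk0 (LinearMap.det L / T.1.s ^ m) (div_ne_zero hd0 (pow_ne_zero _ T.1.s_ne)),
      Units.ext ?_⟩
    show (LinearMap.det L / T.1.s ^ m) ^ 2 = T.1.s
    have := T.1.s_ne
    rw [div_pow, hd]
    field_simp
  · rintro _ ⟨c, rfl⟩
    exact ⟨⟨SemiSim.scal c, rfl⟩, Units.ext (pow_two (c : F)).symm⟩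

theorem card_sq_units (h2 : (2 : F) ≠ 0) :
    Nat.card (powMonoidHom 2 : Fˣ →* Fˣ).range * 2 = Nat.card F - 1 := by
  classical
  have hk : Nat.card (powMonoidHom 2 : Fˣ →* Fˣ).ker = 2 := by
    rw [Nat.card_eq_two_iff]
    refine ⟨1, ⟨-1, by show (-1 : Fˣ) ^ 2 = 1; simp⟩, fun h => ?_,
      Set.eq_univ_of_forall fun x => ?_⟩
    · have h1 : ((1 : Fˣ) : F) = ((-1 : Fˣ) : F) := congrArg (fun z => ((z.1 : Fˣ) : F)) h
      rw [Units.val_one, Units.val_neg, Units.val_one] at h1
      exact h2 (by linear_combination h1)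
    · have hx : (x.1 : F) * x.1 = 1 := by
        have := congrArg Units.val (show (x.1 : Fˣ) ^ 2 = 1 from x.2)
        rwa [Units.val_pow_eq_pow_val, pow_two, Units.val_one] at this
      rcases mul_self_eq_one_iff.1 hx with h | h
      · exact Or.inl (Subtype.ext (Units.ext h))
      · exact Or.inr (Subtype.ext (Units.ext (h.trans (by simp))))
  rw [← Nat.card_units, Subgroup.card_eq_card_quotient_mul_card_subgroup
    (powMonoidHom 2 : Fˣ →* Fˣ).ker, hk,
    Nat.card_congr (QuotientGroup.quotientKerEquivRange (powMonoidHom 2 : Fˣ →* Fˣ)).toEquiv]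

theorem card_mulAut_congr {G H : Type*} [Group G] [Group H] (e : G ≃* H) :
    Nat.card (MulAut G) = Nat.card (MulAut H) := Nat.card_congr (MulAut.congr e).toEquiv

/-- The order of `Aut(PΩ_{2m+1}(q))`. -/
theorem card_aut_odd (p f : ℕ) [Fact p.Prime] [CharP F p] (hF : Fintype.card F = p ^ f)
    (hodd : Odd (Nat.card F)) (m : ℕ) (hm : 3 ≤ m) :
    Nat.card (MulAut (Cfsg.POmega F (Cfsg.quadFormOdd m F))) =
      2 * f * Nat.card (Cfsg.POmega F (Cfsg.quadFormOdd m F)) := by
  have h2 := two_ne_zero_iff_odd.2 hodd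
  have hR := ndPolar_lineForm (F := F) h2
  have hRan : ∀ w, lineForm F w = 0 → w = 0 := fun w hw => by
    funext u
    rw [lineForm_apply, mul_self_eq_zero] at hw
    exact hw
  have h1 := card_mulAut hR hm p hRan (clawHyp_of_kernel _ hm 1 (by simp [lineForm_apply]))
  rw [SemiSim.card_eq, MonoidHom.range_eq_top.2 (toσ_lift_surjective_odd m), Subgroup.card_top,
    CfsgLib.AutPSL.card_ringAut hF, toS_range_odd h2, card_orth_odd h2,
    ← card_mulAut_congr (pomegaEquiv (oddEquiv m F) (oddEquiv_spec m) (ndPolar_hypForm hR m)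
      (frame (lineForm F) hm))] at h1
  have h3 := card_pomega_odd hodd (m := m) (by omega)
  have h4 := card_sq_units (F := F) h2
  have hpos : 0 < Nat.card (powMonoidHom 2 : Fˣ →* Fˣ).range := Nat.card_pos
  refine Nat.eq_of_mul_eq_mul_right (show 0 < Nat.card F - 1 by omega) ?_
  rw [h1, mul_assoc 2 (Nat.card F ^ (m ^ 2)), ← h3, ← h4]
  ring

/-- The order of `Aut(PΩ⁻_{2m+2}(q))`. -/
theorem card_aut_minus (p f : ℕ) [Fact p.Prime] [CharP F p] (hF : Fintype.card F = p ^ f)
    (hab : IsAniso a b) (m : ℕ) (hm : 3 ≤ m) :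
    Nat.card (MulAut (Cfsg.POmega F (Cfsg.quadFormMinus m F a b))) =
      2 * Nat.gcd 4 (Nat.card F ^ (m + 1) + 1) * f *
        Nat.card (Cfsg.POmega F (Cfsg.quadFormMinus m F a b)) := by
  have hR := ndPolar_binForm hab
  have h1 := card_mulAut hR hm p (fun _ hw => binForm_eq_zero hab hw)
    (clawHyp_of_kernel _ hm ![1, 0] (by simp [binForm_apply]))
  rw [SemiSim.card_eq, MonoidHom.range_eq_top.2 (toσ_lift_surjective_minus p f hF hab m),
    MonoidHom.range_eq_top.2 (toS_surjective_minus hab m), Subgroup.card_top, Subgroup.card_top,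
    CfsgLib.AutPSL.card_ringAut hF, Nat.card_units, card_orth_minus hab,
    ← card_mulAut_congr (pomegaEquiv (minusEquiv m F) (minusEquiv_spec m a b) (ndPolar_hypForm hR m)
      (frame (binForm a b) hm))] at h1
  have h3 := card_pomega_minus hab (m := m) (by omega)
  have hpos : 1 < Nat.card F := Finite.one_lt_card
  refine Nat.eq_of_mul_eq_mul_right (show 0 < Nat.card F - 1 by omega) ?_
  rw [h1, mul_assoc 2 (Nat.card F ^ ((m + 1) * m)) (Nat.card F ^ (m + 1) + 1),
    mul_assoc 2 (Nat.card F ^ ((m + 1) * m) * (Nat.card F ^ (m + 1) + 1)), ← h3]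
  ring

end CfsgLib.AutPOmega
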