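import Mathlib
import Cfsg.Prelude.Def_KGroupFacts
import Cfsg.Agent.Lib.AutPOmega.Lifts

/-!
The outer automorphism group of the central quotient of the Siegel group of a model as an image of
the semisimilarity group.
-/

set_option autoImplicit false
set_option maxHeartbeats 800000

namespace CfsgLib.AutPOmega

open QuadraticMap Module CfsgLib.Classical.Quad

/-- Isomorphic groups have isomorphic outer automorphism groups. -/
noncomputable def outEquiv {G H : Type*} [Group G] [Group H] (e : G ≃* H) :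
    Cfsg.Out G ≃* Cfsg.Out H :=
  QuotientGroup.congr _ _ (MulAut.congr e) (by
    ext β
    constructor
    · rintro ⟨_, ⟨x, rfl⟩, rfl⟩
      exact ⟨e x, MulEquiv.ext fun y => by simp [MulAut.congr, MulAut.conj_apply]⟩
    · rintro ⟨x, rfl⟩
      refine ⟨MulAut.conj (e.symm x), ⟨_, rfl⟩, MulEquiv.ext fun y => ?_⟩
      simp [MulAut.congr, MulAut.conj_apply])

variable {F : Type*} [Field F]

section General

variable {V : Type*} [AddCommGroup V] [Module F V] {Q : QuadraticForm F V}

theorem SemiSim.conj_ofOrth (T : SemiSim Q) (g : Orth Q) :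
    T * SemiSim.ofOrth g * T⁻¹ = SemiSim.ofOrth (T.conjOrth g) := by
  refine SemiSim.ext' (mul_inv_cancel T.σ) ?_ fun x => rfl
  show T.s * T.σ 1 * (T.σ * 1 : F ≃+* F) (T.σ.symm T.s)⁻¹ = 1
  rw [mul_one T.σ, _root_.map_one, mul_one, map_inv₀, T.σ.apply_symm_apply, mul_inv_cancel₀ T.s_ne]

theorem SemiSim.conjOrth_refl (T : SemiSim Q) (v : V) :
    T.conjOrth (refl Q v) = refl Q (T.Φ v) := by
  refine orth_ext fun x => ?_
  obtain ⟨x, rfl⟩ := T.Φ.surjective x
  rw [SemiSim.conjOrth_apply, T.Φ.symm_apply_apply, refl_apply, refl_apply, map_add, T.map_smul,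
    T.polar_map, T.quad, map_neg, map_div₀, mul_div_mul_left _ _ T.s_ne]

/-- The linear part of a similarity. -/
def SemiSim.linPart (T : SemiSim Q) (hσ : T.σ = 1) : V →ₗ[F] V where
  toFun := T.Φ
  map_add' := map_add T.Φ
  map_smul' c x := by rw [T.map_smul, hσ]; rfl

theorem SemiSim.linPart_apply (T : SemiSim Q) (hσ : T.σ = 1) (x : V) : T.linPart hσ x = T.Φ x :=
  rfl

end General

section Model

variable {W : Type*} [AddCommGroup W] [Module F W] [FiniteDimensional F W] {m : ℕ}
variable {R : QuadraticForm F W} [Fintype F]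

/-- The hypotheses on a model. -/
structure Good (R : QuadraticForm F W) (m p : ℕ) : Prop where
  hR : NDPolar R
  hm : 3 ≤ m
  hRan : ∀ w, R w = 0 → w = 0
  hp : p.Prime
  hchar : CharP F p

variable {p : ℕ} (hG : Good R m p)

/-- The map onto the outer automorphism group. -/
noncomputable def psi (hG : Good R m p) :
    SemiSim (hypForm m R) →* Cfsg.Out (POm (hypForm m R)) :=
  (QuotientGroup.mk' _).comp (SemiSim.conjHom (ndPolar_hypForm hG.hR m) (frame R hG.hm))

/-- Its restriction to the isometries. -/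
noncomputable def psiO (hG : Good R m p) : Orth (hypForm m R) →* Cfsg.Out (POm (hypForm m R)) :=
  (psi hG).comp SemiSim.ofOrth

include hG

theorem psi_surjective (hcl : ClawHyp R m) : Function.Surjective (psi hG) := by
  haveI : Fact p.Prime := ⟨hG.hp⟩
  haveI := hG.hchar
  intro x
  obtain ⟨β, rfl⟩ := QuotientGroup.mk_surjective x
  obtain ⟨T, hT⟩ := exists_semiSim hG.hR hG.hm hG.hRan hcl p β
  exact ⟨T, congrArg QuotientGroup.mk hT.symm⟩

theorem psi_scal (c : Fˣ) : psi hG (SemiSim.scal c) = 1 := by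
  show QuotientGroup.mk (SemiSim.conjHom _ _ (SemiSim.scal c)) = _
  rw [SemiSim.conjHom_scal]
  rfl

theorem psiO_siegel {g : Orth (hypForm m R)} (hg : g ∈ siegelGroup (hypForm m R)) :
    psiO hG g = 1 := by
  refine (QuotientGroup.eq_one_iff _).2 ⟨QuotientGroup.mk ⟨g, hg⟩, ?_⟩
  exact (SemiSim.conjHom_ofOrth_siegel _ _ ⟨g, hg⟩).symm

theorem exists_of_psi_eq_one {T : SemiSim (hypForm m R)} (hT : psi hG T = 1) :
    ∃ (c : Fˣ) (h : Orth (hypForm m R)), h ∈ siegelGroup (hypForm m R) ∧
      T = SemiSim.scal c * SemiSim.ofOrth h := by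
  haveI : Fact p.Prime := ⟨hG.hp⟩
  haveI := hG.hchar
  obtain ⟨z, hz⟩ := (QuotientGroup.eq_one_iff _).1 hT
  obtain ⟨h, rfl⟩ := QuotientGroup.mk_surjective z
  have hk : T * (SemiSim.ofOrth (h : Orth (hypForm m R)))⁻¹ ∈
      (SemiSim.conjHom (ndPolar_hypForm hG.hR m) (frame R hG.hm)).ker := by
    rw [MonoidHom.mem_ker, map_mul, map_inv, SemiSim.conjHom_ofOrth_siegel, hz, mul_inv_cancel]
  rw [conjHom_ker hG.hR hG.hm p] at hk
  obtain ⟨c, hc⟩ := hk
  exact ⟨c, h.1, h.2, by rw [hc, inv_mul_cancel_right]⟩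

theorem sigma_of_psi_eq_one {T : SemiSim (hypForm m R)} (hT : psi hG T = 1) : T.σ = 1 := by
  obtain ⟨c, h, -, rfl⟩ := exists_of_psi_eq_one hG hT
  exact one_mul (1 : F ≃+* F)

theorem isSquare_of_psi_eq_one {T : SemiSim (hypForm m R)} (hT : psi hG T = 1) :
    IsSquare T.s := by
  obtain ⟨c, h, -, rfl⟩ := exists_of_psi_eq_one hG hT
  exact ⟨(c : F), mul_one ((c : F) * c)⟩

theorem det_of_psiO_eq_one (hn : Even (finrank F (Vm F m W))) {g : Orth (hypForm m R)}
    (hg : psiO hG g = 1) : detHom (hypForm m R) g = 1 := by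
  obtain ⟨c, h, hh, he⟩ := exists_of_psi_eq_one hG hg
  have hc : (c : F) * c = 1 := by
    have := (congrArg SemiSim.s he).symm
    simpa [SemiSim.mul_s, SemiSim.ofOrth, SemiSim.scal] using this
  have hdet : detHom (hypForm m R) h = 1 :=
    map_eq_one_of_mem (ndPolar_hypForm hG.hR m) (frame R hG.hm) _ hh
  have hx : ∀ x, g.1 x = (c : F) • h.1 x := fun x => congrArg (fun T => T.Φ x) he
  rcases mul_self_eq_one_iff.1 hc with h1 | h1
  · rw [show g = h from orth_ext fun x => by rw [hx, h1, one_smul], hdet]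
  · rw [show g = negOne _ * h from orth_ext fun x => by
        rw [hx, h1, neg_one_smul]; rfl, map_mul, hdet, mul_one]
    exact Units.ext (by rw [detHom_negOne, hn.neg_one_pow]; rfl)

theorem psi_conj_refl (T : SemiSim (hypForm m R)) (v : Vm F m W) :
    psi hG T * psiO hG (refl _ v) * (psi hG T)⁻¹ = psiO hG (refl _ (T.Φ v)) := by
  show _ * psi hG (SemiSim.ofOrth _) * _ = psi hG (SemiSim.ofOrth _)
  rw [← map_inv, ← map_mul, ← map_mul, SemiSim.conj_ofOrth, SemiSim.conjOrth_refl]

theorem psiO_refl_eq {v w : Vm F m W} (hv : hypForm m R v ≠ 0) (hw : hypForm m R w ≠ 0)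
    (h : IsSquare (hypForm m R v / hypForm m R w)) :
    psiO hG (refl _ v) = psiO hG (refl _ w) := by
  have hnd := ndPolar_hypForm hG.hR m
  obtain ⟨t, ht⟩ := h
  have hQ : hypForm m R v = t * t * hypForm m R w := by rw [← ht, div_mul_cancel₀ _ hw]
  have ht0 : t ≠ 0 := fun h0 => hv (by rw [hQ, h0, zero_mul, zero_mul])
  have he := reflClass_eq hnd (frame R hG.hm) v
  rw [hQ, reflClass_sq hnd (frame R hG.hm) ht0,
    ← reflClass_eq hnd (frame R hG.hm) w] at he
  have hmem : (refl (hypForm m R) v)⁻¹ * refl _ w ∈ siegelGroup (hypForm m R) :=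
    QuotientGroup.eq.1 he
  exact inv_mul_eq_one.1 (by rw [← map_inv, ← map_mul]; exact psiO_siegel hG hmem)

/-- The image of the isometries is generated by reflections. -/
theorem psiO_mem_of_refl (S : Subgroup (Cfsg.Out (POm (hypForm m R))))
    (h : ∀ v, hypForm m R v ≠ 0 → psiO hG (refl _ v) ∈ S) (g : Orth (hypForm m R)) :
    psiO hG g ∈ S := by
  have hg : g ∈ Subgroup.closure
      (Set.range (refl (hypForm m R)) ∪ siegelSet (hypForm m R)) := by
    rw [closure_refl_siegel (ndPolar_hypForm hG.hR m)]; trivial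
  induction hg using Subgroup.closure_induction with
  | mem x hx =>
    rcases hx with ⟨v, rfl⟩ | hx
    · by_cases hv : hypForm m R v = 0
      · rw [show refl (hypForm m R) v = 1 from orth_ext fun x => by simp [refl_apply, hv], map_one]
        exact one_mem S
      · exact h v hv
    · rw [psiO_siegel hG (Subgroup.subset_closure hx)]
      exact one_mem S
  | one => rw [map_one]; exact one_mem S
  | mul x y _ _ hx hy => rw [map_mul]; exact mul_mem hx hy
  | inv x _ hx => rw [map_inv]; exact inv_mem hx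

/-- A semisimilarity fixing the square classes centralises the image of the isometries. -/
theorem psi_commute_psiO (T : SemiSim (hypForm m R))
    (hT : ∀ c : F, c ≠ 0 → IsSquare (T.s * T.σ c / c)) (g : Orth (hypForm m R)) :
    psi hG T * psiO hG g = psiO hG g * psi hG T := by
  have h := psiO_mem_of_refl hG (Subgroup.centralizer {psi hG T}) (fun v hv => ?_) g
  · exact Subgroup.mem_centralizer_iff.1 h _ rfl
  rw [Subgroup.mem_centralizer_iff]
  rintro _ rfl
  refine mul_inv_eq_iff_eq_mul.1 ?_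
  rw [psi_conj_refl hG T v]
  refine psiO_refl_eq hG ?_ hv ?_
  · rw [T.quad]
    exact mul_ne_zero T.s_ne (by simpa using hv)
  · rw [T.quad]
    exact hT _ hv

/-- A similarity with square multiplier lies in the image of the isometries. -/
theorem psi_mem_psiO {T : SemiSim (hypForm m R)} (hσ : T.σ = 1) (hs : IsSquare T.s) :
    psi hG T ∈ (psiO hG).range := by
  obtain ⟨c, hc⟩ := hs
  have hc0 : c ≠ 0 := fun h0 => T.s_ne (by rw [hc, h0, mul_zero])
  set U := (SemiSim.scal (Q := hypForm m R) (Units.mk0 c hc0))⁻¹ * T with hU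
  have hUσ : U.σ = 1 := by rw [hU, SemiSim.mul_σ, hσ, mul_one]; rfl
  have hUs : U.s = 1 := by
    rw [hU, SemiSim.mul_s]
    show (c * c)⁻¹ * T.s = 1
    rw [hc, inv_mul_cancel₀ (mul_ne_zero hc0 hc0)]
  let g : Orth (hypForm m R) :=
    ⟨LinearEquiv.ofBijective (U.linPart hUσ) U.Φ.bijective,
      fun x => by
        show hypForm m R (U.Φ x) = hypForm m R x
        rw [U.quad, hUσ, hUs, one_mul]; rfl⟩
  have hg : SemiSim.ofOrth g = U := SemiSim.ext' hUσ.symm hUs.symm fun _ => rfl
  refine ⟨g, ?_⟩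
  show psi hG (SemiSim.ofOrth g) = _
  rw [hg, hU, map_mul, map_inv, psi_scal hG, inv_one, one_mul]

theorem conj_injective :
    Function.Injective (MulAut.conj : POm (hypForm m R) →* MulAut (POm (hypForm m R))) := by
  haveI : Fact p.Prime := ⟨hG.hp⟩
  haveI := hG.hchar
  rw [injective_iff_map_eq_one]
  intro z hz
  obtain ⟨g, rfl⟩ := QuotientGroup.mk_surjective z
  have hk : SemiSim.ofOrth (g : Orth (hypForm m R)) ∈
      (SemiSim.conjHom (ndPolar_hypForm hG.hR m) (frame R hG.hm)).ker := by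
    rw [MonoidHom.mem_ker, SemiSim.conjHom_ofOrth_siegel, hz]
  rw [conjHom_ker hG.hR hG.hm p] at hk
  obtain ⟨c, hc⟩ := hk
  have hc1 : (c : F) * c = 1 := congrArg SemiSim.s hc
  refine (QuotientGroup.eq_one_iff g).2
    ((mem_center_siegelGroup_iff (ndPolar_hypForm hG.hR m) (frame R hG.hm) g).2 ?_)
  have hx : ∀ x, (g : Orth (hypForm m R)).1 x = (c : F) • x := fun x =>
    (congrArg (fun T => T.Φ x) hc).symm
  rcases mul_self_eq_one_iff.1 hc1 with h | h
  · exact Or.inl fun x => by rw [hx, h, one_smul]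
  · exact Or.inr fun x => by rw [hx, h, neg_one_smul]

theorem card_out_mul :
    Nat.card (Cfsg.Out (POm (hypForm m R))) * Nat.card (POm (hypForm m R)) =
      Nat.card (MulAut (POm (hypForm m R))) := by
  rw [Subgroup.card_eq_card_quotient_mul_card_subgroup (Cfsg.Inn (POm (hypForm m R))),
    Nat.card_congr (MonoidHom.ofInjective (conj_injective hG)).toEquiv]

end Model

end CfsgLib.AutPOmega
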