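import Mathlib
import Cfsg.Agent.Lib.AutPOmega.Out

/-!
The split octonion product on the eight-dimensional hyperbolic model and its identities.
-/

set_option autoImplicit false
set_option maxHeartbeats 1600000

namespace CfsgLib.AutPOmega

open QuadraticMap Module CfsgLib.Classical.Quad

variable {F : Type*} [Field F]

/-- The eight-dimensional hyperbolic model. -/
abbrev V8 (F : Type*) : Type _ := Vm F 4 (Fin 0 → F)

/-- The hyperbolic form on it. -/
abbrev Q8 (F : Type*) [Field F] : QuadraticForm F (V8 F) := hypForm 4 (zeroKernel F)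

theorem v8_ext {x y : V8 F} (a0 : x.1.1 0 = y.1.1 0) (a1 : x.1.1 1 = y.1.1 1)
    (a2 : x.1.1 2 = y.1.1 2) (a3 : x.1.1 3 = y.1.1 3) (b0 : x.1.2 0 = y.1.2 0)
    (b1 : x.1.2 1 = y.1.2 1) (b2 : x.1.2 2 = y.1.2 2) (b3 : x.1.2 3 = y.1.2 3) : x = y := by
  refine Prod.ext (Prod.ext (funext fun i => ?_) (funext fun i => ?_)) (Subsingleton.elim _ _) <;>
    fin_cases i <;> assumption

/-- The vector with given coordinates. -/
def o8 (a0 a1 a2 a3 b0 b1 b2 b3 : F) : V8 F := ((![a0, a1, a2, a3], ![b0, b1, b2, b3]), 0)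

/-- The product of the split octonions. -/
def omul (x y : V8 F) : V8 F :=
  o8 (x.1.1 0 * y.1.1 0 - (x.1.1 1 * y.1.2 1 + x.1.1 2 * y.1.2 2 + x.1.1 3 * y.1.2 3))
    (x.1.1 0 * y.1.1 1 + y.1.2 0 * x.1.1 1 - (x.1.2 2 * y.1.2 3 - x.1.2 3 * y.1.2 2))
    (x.1.1 0 * y.1.1 2 + y.1.2 0 * x.1.1 2 - (x.1.2 3 * y.1.2 1 - x.1.2 1 * y.1.2 3))
    (x.1.1 0 * y.1.1 3 + y.1.2 0 * x.1.1 3 - (x.1.2 1 * y.1.2 2 - x.1.2 2 * y.1.2 1))
    (x.1.2 0 * y.1.2 0 - (x.1.2 1 * y.1.1 1 + x.1.2 2 * y.1.1 2 + x.1.2 3 * y.1.1 3))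
    (y.1.1 0 * x.1.2 1 + x.1.2 0 * y.1.2 1 - (x.1.1 2 * y.1.1 3 - x.1.1 3 * y.1.1 2))
    (y.1.1 0 * x.1.2 2 + x.1.2 0 * y.1.2 2 - (x.1.1 3 * y.1.1 1 - x.1.1 1 * y.1.1 3))
    (y.1.1 0 * x.1.2 3 + x.1.2 0 * y.1.2 3 - (x.1.1 1 * y.1.1 2 - x.1.1 2 * y.1.1 1))

/-- The identity element. -/
def oone : V8 F := o8 1 0 0 0 1 0 0 0

/-- Octonion conjugation. -/
def obar (x : V8 F) : V8 F :=
  o8 (x.1.2 0) (-x.1.1 1) (-x.1.1 2) (-x.1.1 3) (x.1.1 0) (-x.1.2 1) (-x.1.2 2) (-x.1.2 3)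

theorem Q8_apply (x : V8 F) : Q8 F x =
    x.1.1 0 * x.1.2 0 + x.1.1 1 * x.1.2 1 + x.1.1 2 * x.1.2 2 + x.1.1 3 * x.1.2 3 := by
  simp [Q8, hypForm_apply, Fin.sum_univ_four]

theorem polar_Q8 (x y : V8 F) : polar (Q8 F) x y =
    x.1.1 0 * y.1.2 0 + x.1.1 1 * y.1.2 1 + x.1.1 2 * y.1.2 2 + x.1.1 3 * y.1.2 3 +
      (y.1.1 0 * x.1.2 0 + y.1.1 1 * x.1.2 1 + y.1.1 2 * x.1.2 2 + y.1.1 3 * x.1.2 3) := by
  simp [QuadraticMap.polar, Q8_apply]; ring

theorem obar_obar (x : V8 F) : obar (obar x) = x := by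
  apply v8_ext <;> simp [obar, o8]

theorem Q8_obar (x : V8 F) : Q8 F (obar x) = Q8 F x := by
  simp [Q8_apply, obar, o8, mul_comm]

theorem Q8_omul (x y : V8 F) : Q8 F (omul x y) = Q8 F x * Q8 F y := by
  simp [Q8_apply, omul, o8]; ring

theorem omul_add_left (x x' y : V8 F) : omul (x + x') y = omul x y + omul x' y := by
  apply v8_ext <;> simp [omul, o8] <;> ring

theorem omul_add_right (x y y' : V8 F) : omul x (y + y') = omul x y + omul x y' := by
  apply v8_ext <;> simp [omul, o8] <;> ring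

theorem omul_smul_left (c : F) (x y : V8 F) : omul (c • x) y = c • omul x y := by
  apply v8_ext <;> simp [omul, o8] <;> ring

theorem omul_smul_right (c : F) (x y : V8 F) : omul x (c • y) = c • omul x y := by
  apply v8_ext <;> simp [omul, o8] <;> ring

theorem oone_omul (x : V8 F) : omul oone x = x := by
  apply v8_ext <;> simp [omul, oone, o8]

theorem omul_oone (x : V8 F) : omul x oone = x := by
  apply v8_ext <;> simp [omul, oone, o8]

theorem obar_omul (x y : V8 F) : obar (omul x y) = omul (obar y) (obar x) := by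
  apply v8_ext <;> simp [obar, omul, o8] <;> ring

theorem obar_omul_omul (x y : V8 F) : omul (obar x) (omul x y) = Q8 F x • y := by
  apply v8_ext <;> simp [Q8_apply, obar, omul, o8] <;> ring

theorem omul_omul_obar (x y : V8 F) : omul (omul y x) (obar x) = Q8 F x • y := by
  apply v8_ext <;> simp [Q8_apply, obar, omul, o8] <;> ring

theorem omul_flexible (u x : V8 F) : omul (omul u x) u = omul u (omul x u) := by
  apply v8_ext <;> simp [omul, o8] <;> ring

theorem omul_moufang (u x y : V8 F) :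
    omul (omul u (omul x y)) u = omul (omul u x) (omul y u) := by
  apply v8_ext <;> simp [omul, o8] <;> ring

theorem obar_eq (x : V8 F) : -obar x = x + (-(polar (Q8 F) x oone)) • oone := by
  apply v8_ext <;> simp [polar_Q8, obar, oone, o8] <;> ring

theorem sandwich_eq (u x : V8 F) :
    omul (omul u x) u = Q8 F u • -obar x + (-(polar (Q8 F) (-obar x) u)) • u := by
  apply v8_ext <;> simp [polar_Q8, Q8_apply, obar, omul, o8] <;> ring

end CfsgLib.AutPOmega
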