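import Mathlib
import Cfsg.Agent.Lib.AutPOmega.Out
import Cfsg.Agent.Lib.TwoFusion.DihedralIso

/-!
The structure of the outer automorphism groups of the odd-dimensional and the minus type
orthogonal groups.
-/

set_option autoImplicit false
set_option maxHeartbeats 800000

namespace CfsgLib.AutPOmega

open QuadraticMap Module CfsgLib.Classical.Quad

section Abstract

variable {G : Type*} [Group G] [Finite G]

/-- Two commuting subgroups with trivial intersection and complementary orders. -/
noncomputable def internalProd (A B : Subgroup G) (hc : ∀ a ∈ A, ∀ b ∈ B, a * b = b * a)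
    (hd : ∀ g ∈ A, g ∈ B → g = 1) (hcard : Nat.card G ≤ Nat.card A * Nat.card B) : A × B ≃* G :=
  MulEquiv.ofBijective (A.subtype.noncommCoprod B.subtype fun a b => hc a.1 a.2 b.1 b.2) (by
    have hinj : Function.Injective
        (A.subtype.noncommCoprod B.subtype fun a b => hc a.1 a.2 b.1 b.2) := by
      rw [injective_iff_map_eq_one]
      rintro ⟨a, b⟩ h
      have h1 : (a : G) * b = 1 := h
      have ha : (a : G) = 1 := hd a a.2 (by rw [eq_inv_of_mul_eq_one_left h1]; exact B.inv_mem b.2)
      refine Prod.ext (Subtype.ext ha) (Subtype.ext ?_)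
      rwa [ha, one_mul] at h1
    refine ⟨hinj, ?_⟩
    have hle := Nat.card_le_card_of_injective _ hinj
    rw [Nat.card_prod] at hle
    exact ((Nat.bijective_iff_injective_and_card _).2
      ⟨hinj, by rw [Nat.card_prod]; omega⟩).2)

/-- A product of two cyclic subgroups. -/
theorem prod_cyclic (A B : Subgroup G) [IsCyclic A] [IsCyclic B] {a b : ℕ}
    (hA : Nat.card A = a) (hB : Nat.card B = b) (hc : ∀ x ∈ A, ∀ y ∈ B, x * y = y * x)
    (hd : ∀ g ∈ A, g ∈ B → g = 1) (hcard : Nat.card G ≤ a * b) :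
    Nonempty (G ≃* Multiplicative (ZMod a × ZMod b)) := by
  have eA : A ≃* Multiplicative (ZMod a) :=
    mulEquivOfCyclicCardEq (hA.trans (by rw [Nat.card_congr Multiplicative.toAdd, Nat.card_zmod]))
  have eB : B ≃* Multiplicative (ZMod b) :=
    mulEquivOfCyclicCardEq (hB.trans (by rw [Nat.card_congr Multiplicative.toAdd, Nat.card_zmod]))
  exact ⟨(internalProd A B hc hd (by rw [hA, hB]; exact hcard)).symm.trans
    ((eA.prodCongr eB).trans (MulEquiv.prodMultiplicative (ZMod a) (ZMod b)).symm)⟩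

omit [Finite G] in
theorem card_eq_mul_of_complement (N B : Subgroup G) (hd : ∀ g ∈ N, g ∈ B → g = 1)
    (hgen : ∀ y, ∃ a ∈ N, ∃ b ∈ B, y = a * b) :
    Nat.card G = Nat.card N * Nat.card B := by
  rw [← Nat.card_prod]
  refine (Nat.card_congr (Equiv.ofBijective (fun z : N × B => (z.1 : G) * (z.2 : G)) ⟨?_, ?_⟩)).symm
  · refine Subgroup.mul_injective_of_disjoint ?_
    rw [disjoint_iff, Subgroup.eq_bot_iff_forall]
    exact fun g hg => hd g hg.1 hg.2
  · intro y
    obtain ⟨a, ha, b, hb, rfl⟩ := hgen y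
    exact ⟨(⟨a, ha⟩, ⟨b, hb⟩), rfl⟩

end Abstract

variable {F : Type*} [Field F] [Fintype F]

theorem isSquare_mul_of_not {a b : F} (ha : ¬ IsSquare a) (hb : ¬ IsSquare b) : IsSquare (a * b) := by
  classical
  have ha0 : a ≠ 0 := fun h => ha (h ▸ IsSquare.zero)
  have hb0 : b ≠ 0 := fun h => hb (h ▸ IsSquare.zero)
  rw [← quadraticChar_one_iff_isSquare (mul_ne_zero ha0 hb0), _root_.map_mul,
    quadraticChar_neg_one_iff_not_isSquare.2 ha, quadraticChar_neg_one_iff_not_isSquare.2 hb]
  norm_num

section Model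

variable {W : Type*} [AddCommGroup W] [Module F W] [FiniteDimensional F W] {m : ℕ}
variable {R : QuadraticForm F W} {p : ℕ}

/-- The field automorphism of an outer class. -/
noncomputable def sigmaOut (hG : Good R m p) (hcl : ClawHyp R m) :
    Cfsg.Out (POm (hypForm m R)) →* (F ≃+* F) :=
  (psi hG).liftOfSurjective (psi_surjective hG hcl)
    ⟨SemiSim.toσ, fun _ hT => sigma_of_psi_eq_one hG hT⟩

theorem sigmaOut_psi (hG : Good R m p) (hcl : ClawHyp R m) (T : SemiSim (hypForm m R)) :
    sigmaOut hG hcl (psi hG T) = T.σ :=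
  MonoidHom.liftOfRightInverse_comp_apply _ _ _ _ T

theorem sigmaOut_psiO (hG : Good R m p) (hcl : ClawHyp R m) (g : Orth (hypForm m R)) : sigmaOut hG hcl (psiO hG g) = 1 :=
  sigmaOut_psi hG hcl _

/-- Whether the multiplier is a square. -/
noncomputable def multSign (V : Type*) [AddCommGroup V] [Module F V] (Q : QuadraticForm F V)
    [DecidableEq F] : SemiSim Q →* ℤ where
  toFun T := quadraticChar F T.s
  map_one' := _root_.map_one _
  map_mul' T U := by
    rw [SemiSim.mul_s, _root_.map_mul]
    congr 1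
    have hU : U.s ≠ 0 := U.s_ne
    have hiff : IsSquare (T.σ U.s) ↔ IsSquare U.s :=
      ⟨fun ⟨y, hy⟩ => ⟨T.σ.symm y, T.σ.injective (by simp [hy])⟩, fun h => h.map T.σ⟩
    by_cases h : IsSquare U.s
    · rw [(quadraticChar_one_iff_isSquare (by simpa using hU)).2 (hiff.2 h),
        (quadraticChar_one_iff_isSquare hU).2 h]
    · rw [quadraticChar_neg_one_iff_not_isSquare.2 (mt hiff.1 h),
        quadraticChar_neg_one_iff_not_isSquare.2 h]

attribute [local instance] _root_.Classical.propDecidable in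
/-- The multiplier class of an outer class. -/
noncomputable def signOut (hG : Good R m p) (hcl : ClawHyp R m) : Cfsg.Out (POm (hypForm m R)) →* ℤˣ :=
  (psi hG).liftOfSurjective (psi_surjective hG hcl)
    ⟨(multSign _ (hypForm m R)).toHomUnits, fun T hT => Units.ext
      ((quadraticChar_one_iff_isSquare T.s_ne).2 (isSquare_of_psi_eq_one hG hT))⟩

theorem signOut_psi (hG : Good R m p) (hcl : ClawHyp R m) (T : SemiSim (hypForm m R)) :
    signOut hG hcl (psi hG T) = 1 ↔ IsSquare T.s := by
  classical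
  rw [signOut, MonoidHom.liftOfRightInverse_comp_apply, ← Units.val_inj]
  show quadraticChar F T.s = 1 ↔ _
  convert quadraticChar_one_iff_isSquare T.s_ne

theorem signOut_psiO (hG : Good R m p) (hcl : ClawHyp R m) (g : Orth (hypForm m R)) : signOut hG hcl (psiO hG g) = 1 :=
  (signOut_psi hG hcl (SemiSim.ofOrth g)).2 IsSquare.one

/-- Isometries have commuting images. -/
theorem psiO_commute (hG : Good R m p) (g h : Orth (hypForm m R)) :
    psiO hG g * psiO hG h = psiO hG h * psiO hG g :=
  psi_commute_psiO hG (SemiSim.ofOrth g)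
    (fun c hc => ⟨1, by show 1 * c / c = 1 * 1; field_simp⟩) h

theorem orderOf_frobenius {f : ℕ} (hpf : Fintype.card F = p ^ f) [Fact p.Prime] {φ : F ≃+* F}
    (hgen : ∀ σ : F ≃+* F, ∃ k : ℕ, φ ^ k = σ) : orderOf φ = f := by
  haveI : Finite (F ≃+* F) := Finite.of_injective _ DFunLike.coe_injective
  have htop : Subgroup.zpowers φ = ⊤ := eq_top_iff.2 fun σ _ => by
    obtain ⟨k, rfl⟩ := hgen σ
    exact Subgroup.pow_mem _ (Subgroup.mem_zpowers φ) k
  rw [← Nat.card_zpowers, htop, Subgroup.card_top, CfsgLib.AutPSL.card_ringAut hpf]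

end Model

/-- The coordinatewise semisimilarities of the one-dimensional form. -/
def lineHom : (F ≃+* F) →* SemiSim (lineForm F) where
  toFun := lineSemi
  map_one' := SemiSim.ext' rfl rfl fun _ => rfl
  map_mul' σ τ := SemiSim.ext' rfl (show (1 : F) = 1 * σ 1 by simp) fun _ => rfl

/-- `Out(PΩ_{2m+1}(q))`. -/
theorem out_odd (p f : ℕ) [Fact p.Prime] [CharP F p] (hF : Fintype.card F = p ^ f)
    (hodd : Odd (Nat.card F)) (m : ℕ) (hm : 3 ≤ m) :
    Nonempty (Cfsg.Out (Cfsg.POmega F (Cfsg.quadFormOdd m F)) ≃*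
      Multiplicative (ZMod 2 × ZMod f)) := by
  have h2 := two_ne_zero_iff_odd.2 hodd
  have hG : Good (lineForm F) m p :=
    ⟨ndPolar_lineForm h2, hm, fun w hw => funext fun u => by
      rw [lineForm_apply, mul_self_eq_zero] at hw; exact hw,
      Fact.out, inferInstance⟩
  have hcl : ClawHyp (lineForm F) m := clawHyp_of_kernel _ hm 1 (by simp [lineForm_apply])
  let e := pomegaEquiv (oddEquiv m F) (oddEquiv_spec m) (ndPolar_hypForm hG.hR m)
    (frame (lineForm F) hm)
  suffices Nonempty (Cfsg.Out (POm (hypForm m (lineForm F))) ≃* Multiplicative (ZMod 2 × ZMod f)) by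
    obtain ⟨i⟩ := this
    exact ⟨(outEquiv e).trans i⟩
  haveI : Finite (siegelGroup (hypForm m (lineForm F))) := Subtype.finite
  haveI : Finite (POm (hypForm m (lineForm F))) := Finite.of_surjective _ QuotientGroup.mk_surjective
  haveI : Finite (MulAut (POm (hypForm m (lineForm F)))) :=
    Finite.of_injective (fun g : MulAut (POm (hypForm m (lineForm F))) => (g : _ → _))
      DFunLike.coe_injective
  have hcard : Nat.card (Cfsg.Out (POm (hypForm m (lineForm F)))) = 2 * f := by
    refine Nat.eq_of_mul_eq_mul_right (Nat.card_pos (α := POm (hypForm m (lineForm F)))) ?_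
    rw [card_out_mul hG, ← card_mulAut_congr e, card_aut_odd p f hF hodd m hm,
      Nat.card_congr e.toEquiv]
  obtain ⟨φ, hφ, hgen⟩ := exists_frobenius_gen (F := F) p
  let L := liftHom m (lineForm F) (lineHom φ)
  set x := psi hG L with hx
  have hσx : sigmaOut hG hcl x = φ := sigmaOut_psi hG hcl L
  have hxord : orderOf x = f := by
    rw [← orderOf_frobenius hF hgen]
    refine Nat.dvd_antisymm (orderOf_dvd_of_pow_eq_one ?_) (by
      rw [← hσx]; exact orderOf_map_dvd _ x)
    rw [hx, ← map_pow, show L = ((liftHom m (lineForm F)).comp lineHom) φ from rfl, ← map_pow,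
      pow_orderOf_eq_one, _root_.map_one, _root_.map_one]
  set N := (psiO hG).range
  set B := Subgroup.zpowers x
  have hB : Nat.card B = f := by rw [Nat.card_zpowers, hxord]
  have hcomm : ∀ a ∈ N, ∀ b ∈ B, a * b = b * a := by
    rintro _ ⟨g, rfl⟩ _ ⟨k, rfl⟩
    refine (Commute.zpow_left (?_ : Commute x (psiO hG g)) k).symm.eq
    refine psi_commute_psiO hG L (fun c hc => ?_) g
    have : IsSquare (φ c / c) := by
      obtain ⟨j, hj⟩ := (hodd : Odd (Nat.card F))
      obtain ⟨k, hk⟩ : Odd p := (Fact.out : p.Prime).odd_of_ne_two fun h2' => by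
        subst h2'
        exact h2 CharTwo.two_eq_zero
      exact ⟨c ^ k, by rw [hφ, hk, pow_succ, mul_div_cancel_right₀ _ hc, two_mul, pow_add]⟩
    simpa [L, liftHom, liftSemi, lineHom, lineSemi] using this
  have hd : ∀ g ∈ N, g ∈ B → g = 1 := by
    rintro _ ⟨g, rfl⟩ ⟨k, hk⟩
    have hk' : x ^ k = psiO hG g := hk
    have h1 := congrArg (sigmaOut hG hcl) hk'
    rw [map_zpow, hσx, sigmaOut_psiO] at h1
    rw [← hk', ← orderOf_dvd_iff_zpow_eq_one, hxord, ← orderOf_frobenius hF hgen,
      orderOf_dvd_iff_zpow_eq_one]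
    exact h1
  -- every class is an isometry class times a power of `x`
  have hgenall : ∀ y, ∃ a ∈ N, ∃ b ∈ B, y = a * b := by
    intro y
    obtain ⟨T, rfl⟩ := psi_surjective hG hcl y
    obtain ⟨k, hk⟩ := hgen T.σ
    set U := T * (L ^ k)⁻¹ with hU
    have hUσ : U.σ = 1 := by
      show SemiSim.toσ U = 1
      rw [hU, map_mul, map_inv, map_pow, show SemiSim.toσ L = φ from rfl, hk]
      exact mul_inv_cancel _
    have hUs : IsSquare U.s := by
      have hmem : SemiSim.toS ⟨U, hUσ⟩ ∈ (powMonoidHom 2 : Fˣ →* Fˣ).range := by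
        rw [← toS_range_odd h2 m]; exact ⟨_, rfl⟩
      obtain ⟨c, hc⟩ := hmem
      exact ⟨c, (congrArg Units.val hc).symm.trans (by rw [powMonoidHom_apply, Units.val_pow_eq_pow_val, pow_two])⟩
    have hT : U * L ^ k = T := inv_mul_cancel_right T (L ^ k)
    refine ⟨psi hG U, psi_mem_psiO hG hUσ hUs, x ^ k,
      Subgroup.pow_mem _ (Subgroup.mem_zpowers x) k, ?_⟩
    calc psi hG T = psi hG (U * L ^ k) := congrArg (psi hG) hT.symm
      _ = psi hG U * psi hG (L ^ k) := map_mul (psi hG) U (L ^ k)
      _ = psi hG U * x ^ k := congrArg (psi hG U * ·) (map_pow (psi hG) L k)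
  have hN : Nat.card N = 2 := by
    have h := card_eq_mul_of_complement N B hd hgenall
    rw [hB, hcard] at h
    exact (Nat.eq_of_mul_eq_mul_right (hB ▸ Nat.card_pos) h).symm
  haveI : Fact (Nat.Prime 2) := ⟨Nat.prime_two⟩
  haveI : IsCyclic N := isCyclic_of_prime_card hN
  exact prod_cyclic N B hN hB hcomm hd hcard.le

variable {a b : F}

theorem det_binMul (a b : F) (v : Fin 2 → F) :
    LinearMap.det (binMul a b v) = binForm a b v := by
  rw [← LinearMap.det_toMatrix (Pi.basisFun F (Fin 2)), Matrix.det_fin_two, binForm_apply]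
  simp [binMul, LinearMap.toMatrix_apply]
  ring

/-- The determinant on the similarities. -/
noncomputable def detSim {V : Type*} [AddCommGroup V] [Module F V] (Q : QuadraticForm F V) :
    (SemiSim.toσ (Q := Q)).ker →* F where
  toFun T := LinearMap.det (T.1.linPart T.2)
  map_one' := LinearMap.det_id
  map_mul' T U := by
    rw [← _root_.map_mul]
    rfl

theorem detSim_conj {V : Type*} [AddCommGroup V] [Module F V] [FiniteDimensional F V]
    {Q : QuadraticForm F V} (T : SemiSim Q) (U : (SemiSim.toσ (Q := Q)).ker)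
    (U' : (SemiSim.toσ (Q := Q)).ker) (h : U'.1 = T * U.1 * T⁻¹) :
    detSim Q U' = T.σ (detSim Q U) := by
  let b := Module.finBasis F V
  let e : V ≃ₗ[F] (Fin (finrank F V) → F) :=
    { toFun := fun x i => T.σ (b.equivFun (T.Φ.symm x) i)
      map_add' := fun x y => by funext i; simp
      map_smul' := fun c x => by
        funext i
        rw [T.symm_smul, _root_.map_smul]
        simp
      invFun := fun z => T.Φ (b.equivFun.symm fun i => T.σ.symm (z i))
      left_inv := fun x => by simp
      right_inv := fun z => by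
        funext i
        show T.σ (b.equivFun (T.Φ.symm (T.Φ (b.equivFun.symm fun i => T.σ.symm (z i)))) i) = z i
        rw [T.Φ.symm_apply_apply, LinearEquiv.apply_symm_apply, RingEquiv.apply_symm_apply] }
  let b' := Module.Basis.ofEquivFun e
  show LinearMap.det (U'.1.linPart U'.2) = T.σ (LinearMap.det (U.1.linPart U.2))
  rw [← LinearMap.det_toMatrix b', ← LinearMap.det_toMatrix b,
    show T.σ _ = T.σ.toRingHom _ from rfl, RingHom.map_det]
  congr 1
  ext i j
  rw [RingHom.mapMatrix_apply, Matrix.map_apply, LinearMap.toMatrix_apply,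
    LinearMap.toMatrix_apply, Module.Basis.coe_ofEquivFun]
  show e (U'.1.linPart U'.2 (e.symm (Pi.single j 1))) i = _
  have he : e.symm (Pi.single j 1) = T.Φ (b j) := by
    rw [LinearEquiv.symm_apply_eq]
    funext l
    show (Pi.single j (1 : F) : Fin (finrank F V) → F) l = T.σ (b.equivFun (T.Φ.symm (T.Φ (b j))) l)
    rw [T.Φ.symm_apply_apply, b.equivFun_apply, b.repr_self]
    rcases eq_or_ne l j with rfl | hl
    · simp
    · simp [hl, Finsupp.single_eq_of_ne hl]
  rw [he]
  show T.σ (b.equivFun (T.Φ.symm (U'.1.Φ (T.Φ (b j)))) i) = _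
  rw [h, SemiSim.mul_Φ, SemiSim.mul_Φ, show (T⁻¹).Φ = T.Φ.symm from rfl,
    T.Φ.symm_apply_apply, T.Φ.symm_apply_apply]
  rfl

theorem detSim_lift {W : Type*} [AddCommGroup W] [Module F W] [FiniteDimensional F W] (m : ℕ)
    {R : QuadraticForm F W} (T : SemiSim R) (hσ : T.σ = 1) :
    detSim (hypForm m R) ⟨liftSemi m T, hσ⟩ = T.s ^ m * LinearMap.det (T.linPart hσ) := by
  show LinearMap.det ((liftSemi m T).linPart hσ) = _
  have : (liftSemi m T).linPart hσ =
      LinearMap.prodMap (LinearMap.prodMap (LinearMap.id : (Fin m → F) →ₗ[F] _)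
        (T.s • LinearMap.id : (Fin m → F) →ₗ[F] _)) (T.linPart hσ) := by
    refine LinearMap.ext fun x => ?_
    have hσ' : ∀ c, T.σ c = c := fun c => by rw [hσ]; rfl
    refine Prod.ext (Prod.ext (funext fun i => hσ' _) (funext fun i => ?_)) rfl
    show T.s * T.σ (x.1.2 i) = T.s • x.1.2 i
    rw [hσ', smul_eq_mul]
  rw [this, LinearMap.det_prodMap, LinearMap.det_prodMap, LinearMap.det_id, LinearMap.det_smul,
    LinearMap.det_id, Module.finrank_fin_fun, one_mul, mul_one]

end CfsgLib.AutPOmega
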