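import Mathlib
import Cfsg.Agent.Lib.AutPOmega.OutCases

/-!
The structure of the outer automorphism groups of the minus type orthogonal groups.
-/

set_option autoImplicit false
set_option maxHeartbeats 800000

namespace CfsgLib.AutPOmega

open QuadraticMap Module CfsgLib.Classical.Quad

section Abstract

variable {G H : Type*} [Group G] [Finite G] [Group H]

theorem orderOf_eq_double {x r : G} {f : ℕ} (σ : G →* H) (hσ : orderOf (σ x) = f) (hxf : x ^ f = r)
    (hrr : r * r = 1) (hr : r ≠ 1) : orderOf x = 2 * f := by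
  have h1 : orderOf x ∣ 2 * f := orderOf_dvd_of_pow_eq_one (by
    rw [two_mul, pow_add, hxf, hrr])
  obtain ⟨k, hk⟩ : f ∣ orderOf x := hσ ▸ orderOf_map_dvd σ x
  have hf : 0 < f := Nat.pos_of_ne_zero fun h0 => hr (by rw [← hxf, h0, pow_zero])
  rw [hk, mul_comm 2 f] at h1
  rcases (Nat.dvd_prime Nat.prime_two).1 (Nat.dvd_of_mul_dvd_mul_left hf h1) with rfl | rfl
  · exact absurd (by rw [← hxf, ← mul_one f, ← hk, pow_orderOf_eq_one]) hr
  · rw [hk, mul_comm]

/-- The split case. -/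
theorem abstract_minus_split (σ : G →* H) (ε : G →* ℤˣ) {r t x : G} {f : ℕ}
    (hσ : orderOf (σ x) = f) (hxf : x ^ f = r) (hrr : r * r = 1) (hr : r ≠ 1) (htt : t * t = 1)
    (hεx : ε x = 1) (hεt : ε t ≠ 1) (hxt : x * t = t * x) (hcard : Nat.card G ≤ 4 * f) :
    Nonempty (G ≃* Multiplicative (ZMod 2 × ZMod (2 * f))) := by
  have ht : orderOf t = 2 :=
    orderOf_eq_prime (by rw [pow_two, htt]) fun h => hεt (by rw [h, map_one])
  refine prod_cyclic (Subgroup.zpowers t) (Subgroup.zpowers x) (by rw [Nat.card_zpowers, ht])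
    (by rw [Nat.card_zpowers, orderOf_eq_double σ hσ hxf hrr hr]) ?_ ?_ (le_of_le_of_eq hcard (by ring))
  · rintro _ ⟨i, rfl⟩ _ ⟨j, rfl⟩
    exact ((Commute.symm hxt).zpow_zpow i j).eq
  · rintro g hg ⟨j, rfl⟩
    obtain ⟨n, hn⟩ := (isOfFinOrder_of_finite t).mem_powers_iff_mem_zpowers.2 hg
    obtain ⟨i, hi, hi'⟩ : ∃ i, i < 2 ∧ t ^ i = x ^ j :=
      ⟨n % 2, Nat.mod_lt _ two_pos, ht ▸ (pow_mod_orderOf t n).trans hn⟩
    interval_cases i
    · show x ^ j = 1
      rw [← hi', pow_zero]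
    · refine absurd ?_ hεt
      rw [← pow_one t, hi', map_zpow, hεx, one_zpow]

/-- The dihedral case. -/
theorem abstract_minus_dihedral (σ : G →* H) {r r' t x w : G} {f : ℕ} (hf : Odd f)
    (hσ : orderOf (σ x) = f) (hxf : x ^ f = r) (hσr : σ r = 1) (hσt : σ t = 1) (hrr : r * r = 1)
    (hrr' : r * r' = r' * r) (hr' : r' = t * r * t⁻¹) (hne : r' ≠ r)
    (hxr : x * r = r * x) (hxr' : x * r' = r' * x) (htt : t * t = 1 ∨ t * t = r * r')
    (hw : w = 1 ∨ w = r * r') (hxt : x * t = w * t * x) (hcard : Nat.card G ≤ 8 * f) :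
    Nonempty (G ≃* DihedralGroup 4 × Multiplicative (ZMod f)) := by
  have hr'r' : r' * r' = 1 := by
    rw [hr']
    calc _ = t * (r * r) * t⁻¹ := by group
      _ = 1 := by rw [hrr, mul_one, mul_inv_cancel]
  have hzz : r * r' * (r * r') = 1 := by
    rw [mul_assoc, ← mul_assoc r', ← hrr', mul_assoc r, hr'r', mul_one, hrr]
  have hz1 : r * r' ≠ 1 := fun h => hne (by
    rw [eq_inv_of_mul_eq_one_right h]; exact inv_eq_of_mul_eq_one_right hrr)
  obtain ⟨a, haa, hra, hσa, hay⟩ : ∃ a, a * a = r * r' ∧ r * a * r * a = 1 ∧ σ a = 1 ∧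
      (a = t ∨ a = t * r) := by
    rcases htt with htt | htt
    · refine ⟨t * r, ?_, ?_, by rw [map_mul, hσt, hσr, one_mul], Or.inr rfl⟩
      · rw [hrr', hr', inv_eq_of_mul_eq_one_right htt]; simp only [mul_assoc]
      · calc r * (t * r) * r * (t * r) = r * t * (r * r) * t * r := by simp only [mul_assoc]
          _ = r * (t * t) * r := by rw [hrr, mul_one, mul_assoc r t t]
          _ = 1 := by rw [htt, mul_one, hrr]
    · refine ⟨t, htt, ?_, hσt, Or.inl rfl⟩
      calc r * t * r * t = r * (t * r * t⁻¹) * (t * t) := by group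
        _ = 1 := by rw [← hr', htt, hzz]
  have haord : orderOf a = 4 := by
    refine orderOf_eq_prime_pow (p := 2) (n := 1) ?_ ?_
    · show ¬ a ^ 2 ^ 1 = 1
      rwa [pow_one, pow_two, haa]
    · show a ^ 2 ^ 2 = 1
      rw [show 2 ^ 2 = 2 + 2 from rfl, pow_add, pow_two, haa, hzz]
  have hba : r * a * r⁻¹ = a⁻¹ := by
    rw [inv_eq_of_mul_eq_one_right hrr]
    exact eq_inv_of_mul_eq_one_left hra
  have hnot : r ∉ Subgroup.zpowers a := by
    rintro ⟨i, hi⟩
    have hcom : r * a * r⁻¹ = a := by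
      rw [show r = a ^ i from hi.symm, (Commute.zpow_self a i).eq, mul_inv_cancel_right]
    rw [hba, inv_eq_iff_mul_eq_one, haa] at hcom
    exact hz1 hcom
  have hb : r * r ∈ Subgroup.zpowers a := hrr ▸ one_mem _
  set D := CfsgLib.TwoFusion.cyclicByInverter a r hba hb
  obtain ⟨eD⟩ := CfsgLib.TwoFusion.exists_dihedral_mulEquiv (by norm_num) haord hrr hba hnot D
    fun g => CfsgLib.TwoFusion.mem_cyclicByInverter hba hb g
  have hy : orderOf (x * x) = f := by
    refine Nat.dvd_antisymm (orderOf_dvd_of_pow_eq_one ?_) ?_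
    · rw [(Commute.refl x).mul_pow, hxf, hrr]
    · refine dvd_trans (dvd_of_eq ?_) (orderOf_map_dvd σ (x * x))
      rw [← pow_two, map_pow, Nat.Coprime.orderOf_pow]
      · exact hσ.symm
      · rw [hσ]; exact Nat.coprime_two_right.2 hf
  have hxw : x * w = w * x := by
    rcases hw with rfl | rfl
    · rw [mul_one, one_mul]
    · exact (Commute.mul_right hxr hxr').eq
  have hww : w * w = 1 := by rcases hw with rfl | rfl <;> simp [hzz]
  have hyt : Commute (x * x) t := by
    show x * x * t = t * (x * x)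
    calc x * x * t = x * (w * t * x) := by rw [mul_assoc, hxt]
      _ = w * (x * t) * x := by rw [← mul_assoc, ← mul_assoc, hxw]; simp only [mul_assoc]
      _ = w * w * t * (x * x) := by rw [hxt]; simp only [mul_assoc]
      _ = _ := by rw [hww, one_mul]
  have hyr : Commute (x * x) r := (show Commute x r from hxr).mul_left hxr
  have hya : Commute (x * x) a := by
    rcases hay with rfl | rfl
    · exact hyt
    · exact hyt.mul_right hyr
  have hB : Nat.card (Subgroup.zpowers (x * x)) = f := by rw [Nat.card_zpowers, hy]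
  have hD : Nat.card D = 8 := by rw [Nat.card_congr eD.toEquiv, DihedralGroup.nat_card]
  have hc : ∀ g ∈ D, ∀ h ∈ Subgroup.zpowers (x * x), g * h = h * g := by
    rintro g ⟨i, rfl | rfl⟩ _ ⟨j, rfl⟩
    · exact (hya.zpow_zpow j i).symm.eq
    · exact (((hyr.zpow_left j).mul_right (hya.zpow_zpow j i))).symm.eq
  have hd : ∀ g ∈ D, g ∈ Subgroup.zpowers (x * x) → g = 1 := by
    rintro g hg ⟨j, rfl⟩
    have hσg : σ ((x * x) ^ j) = 1 := by
      obtain ⟨i, h | h⟩ := hg
      · simp only [h, map_zpow, hσa, one_zpow]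
      · simp only [h, map_mul, map_zpow, hσr, hσa, one_zpow, one_mul]
    show (x * x) ^ j = 1
    rw [← orderOf_dvd_iff_zpow_eq_one, hy]
    rw [map_zpow, ← pow_two, map_pow, ← orderOf_dvd_iff_zpow_eq_one, Nat.Coprime.orderOf_pow
      (by rw [hσ]; exact Nat.coprime_two_right.2 hf), hσ] at hσg
    exact hσg
  have eB : Subgroup.zpowers (x * x) ≃* Multiplicative (ZMod f) :=
    mulEquivOfCyclicCardEq (hB.trans (by rw [Nat.card_congr Multiplicative.toAdd, Nat.card_zmod]))
  exact ⟨(internalProd D (Subgroup.zpowers (x * x)) hc hd (by rw [hD, hB]; exact hcard)).symm.trans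
    (eD.prodCongr eB)⟩

theorem card_of_decomposition (N : Subgroup G) (σ : G →* H) (ε : G →* ℤˣ) {t x : G} {f : ℕ}
    (hNσ : ∀ n ∈ N, σ n = 1) (hNε : ∀ n ∈ N, ε n = 1) (hσt : σ t = 1) (hσx : orderOf (σ x) = f)
    (hεx : ε x = 1) (hεt : ε t ≠ 1)
    (hall : ∀ y, ∃ n ∈ N, ∃ (i : Fin 2) (k : Fin f), y = n * (t ^ (i : ℕ) * x ^ (k : ℕ))) :
    Nat.card G = Nat.card N * 2 * f := by
  have hbij : Function.Bijective (fun z : N × Fin 2 × Fin f =>
      (z.1 : G) * (t ^ (z.2.1 : ℕ) * x ^ (z.2.2 : ℕ))) := by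
    constructor
    · rintro ⟨⟨n, hn⟩, i, k⟩ ⟨⟨n', hn'⟩, i', k'⟩ h
      simp only at h
      have hσ := congrArg σ h
      simp only [map_mul, map_pow, hNσ n hn, hNσ n' hn', hσt, one_pow, one_mul] at hσ
      have hk : k = k' := Fin.ext (pow_injOn_Iio_orderOf
        (show (k : ℕ) < orderOf (σ x) by rw [hσx]; exact k.2)
        (show (k' : ℕ) < orderOf (σ x) by rw [hσx]; exact k'.2) hσ)
      subst hk
      have hε := congrArg ε h
      simp only [map_mul, map_pow, hNε n hn, hNε n' hn', hεx, one_pow, one_mul, mul_one] at hε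
      have hi : i = i' := by
        rw [(Int.units_eq_one_or (ε t)).resolve_left hεt] at hε
        fin_cases i <;> fin_cases i' <;> first | rfl | (exfalso; revert hε; decide)
      subst hi
      exact Prod.ext (Subtype.ext (mul_right_cancel h)) rfl
    · intro y
      obtain ⟨n, hn, i, k, rfl⟩ := hall y
      exact ⟨(⟨n, hn⟩, i, k), rfl⟩
  rw [← Nat.card_congr (Equiv.ofBijective _ hbij), Nat.card_prod, Nat.card_prod, Nat.card_fin,
    Nat.card_fin, ← mul_assoc]

end Abstract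

variable {F : Type*} [Field F] [Fintype F]

theorem SemiSim.pow_s {V : Type*} [AddCommGroup V] [Module F V] {Q : QuadraticForm F V}
    {T : SemiSim Q} (h : T.s = 1) (n : ℕ) : (T ^ n).s = 1 := by
  induction n with
  | zero => rfl
  | succ n ih => rw [pow_succ, SemiSim.mul_s, ih, h, _root_.map_one, one_mul]

theorem SemiSim.pow_Φ {V : Type*} [AddCommGroup V] [Module F V] {Q : QuadraticForm F V}
    (T : SemiSim Q) (n : ℕ) (x : V) : (T ^ n).Φ x = T.Φ^[n] x := by
  induction n generalizing x with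
  | zero => rfl
  | succ n ih => rw [pow_succ, SemiSim.mul_Φ, ih, Function.iterate_succ_apply]

variable {a b : F}

/-- The lifted Frobenius semisimilarity of the minus model. -/
theorem exists_minus_frob (p f : ℕ) [Fact p.Prime] [CharP F p] (hF : Fintype.card F = p ^ f)
    (hab : IsAniso a b) {φ : F ≃+* F} (hφ : ∀ x, φ x = x ^ p)
    (hgen : ∀ σ : F ≃+* F, ∃ k : ℕ, φ ^ k = σ) (M : ℕ) :
    ∃ L : SemiSim (hypForm M (binForm a b)), L.σ = φ ∧ L.s = 1 ∧
      L ^ f = SemiSim.ofOrth (refl _ (ww ![a, -2])) := by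
  obtain ⟨T, hT, hTs, hTf⟩ := exists_bin_frob_semi p f hF hab
  have hTσ : T.σ = φ := RingEquiv.ext fun x => (hT x).trans (hφ x).symm
  refine ⟨liftHom M _ T, hTσ, hTs, ?_⟩
  rw [← map_pow]
  have h1 : (T ^ f).σ = 1 := by
    show SemiSim.toσ (T ^ f) = 1
    rw [map_pow, ← orderOf_frobenius hF hgen, show SemiSim.toσ T = φ from hTσ, pow_orderOf_eq_one]
  refine SemiSim.ext' h1 (SemiSim.pow_s hTs f) fun x => ?_
  show (liftSemi M (T ^ f)).Φ x = (refl (hypForm M (binForm a b)) (ww ![a, -2])).1 x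
  rw [liftSemi_Φ, h1, SemiSim.pow_s hTs f, SemiSim.pow_Φ, hTf, refl_apply, refl_apply,
    polar_ww_right, Q_ww]
  refine Prod.ext (Prod.ext (funext fun i => ?_) (funext fun i => ?_)) ?_ <;> simp

theorem binForm_frob_ne (hab : IsAniso a b) : binForm a b ![a, -2] ≠ 0 := by
  intro h
  have h0 := binForm_eq_zero hab h
  have ha : a = 0 := by simpa using congrFun h0 0
  have h2 : (2 : F) = 0 := by simpa using congrFun h0 1
  haveI : CharP F 2 := CharTwo.of_one_ne_zero_of_two_eq_zero one_ne_zero h2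
  obtain ⟨y, hy⟩ := FiniteField.isSquare_of_char_two (ringChar.eq F 2) b
  have h1 : binForm a b ![y, 1] = 0 := by
    rw [binForm_apply]
    simp only [Matrix.cons_val_zero, Matrix.cons_val_one, ha, hy]
    linear_combination (y * y) * h2
  simpa using congrFun (binForm_eq_zero hab h1) 1

theorem good_minus (p : ℕ) [Fact p.Prime] [CharP F p] (hab : IsAniso a b) {M : ℕ} (hM : 3 ≤ M) :
    Good (binForm a b) M p :=
  ⟨ndPolar_binForm hab, hM, fun _ hw => binForm_eq_zero hab hw,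
    Fact.out, inferInstance⟩

theorem claw_minus {M : ℕ} (hM : 3 ≤ M) : ClawHyp (binForm a b) M :=
  clawHyp_of_kernel _ hM ![1, 0] (by simp [binForm_apply])

theorem finite_out_aux {W : Type*} [AddCommGroup W] [Module F W] [Finite W] (M : ℕ)
    (R : QuadraticForm F W) : Finite (Cfsg.Out (POm (hypForm M R))) := by
  haveI : Finite (siegelGroup (hypForm M R)) := Subtype.finite
  haveI : Finite (POm (hypForm M R)) := Finite.of_surjective _ QuotientGroup.mk_surjective
  haveI : Finite (MulAut (POm (hypForm M R))) :=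
    Finite.of_injective (fun g : MulAut (POm (hypForm M R)) => (g : _ → _)) DFunLike.coe_injective
  exact Finite.of_surjective _ QuotientGroup.mk_surjective

theorem card_out_minus (p f : ℕ) [Fact p.Prime] [CharP F p] (hF : Fintype.card F = p ^ f)
    (hab : IsAniso a b) (M : ℕ) (hM : 3 ≤ M) :
    Nat.card (Cfsg.Out (POm (hypForm M (binForm a b)))) =
      2 * Nat.gcd 4 (Nat.card F ^ (M + 1) + 1) * f := by
  have hG := good_minus p hab hM
  haveI : Finite (siegelGroup (hypForm M (binForm a b))) := Subtype.finite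
  haveI : Finite (POm (hypForm M (binForm a b))) :=
    Finite.of_surjective _ QuotientGroup.mk_surjective
  let e := pomegaEquiv (minusEquiv M F) (minusEquiv_spec M a b) (ndPolar_hypForm hG.hR M)
    (frame (binForm a b) hM)
  refine Nat.eq_of_mul_eq_mul_right (Nat.card_pos (α := POm (hypForm M (binForm a b)))) ?_
  rw [card_out_mul hG, ← card_mulAut_congr e, card_aut_minus p f hF hab M hM,
    Nat.card_congr e.toEquiv]

/-- `Out(PΩ⁻_{2M+2}(q))`, `q` even. -/
theorem out_minus_even (f : ℕ) [CharP F 2] (hF : Fintype.card F = 2 ^ f) (hab : IsAniso a b)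
    (M : ℕ) (hM : 3 ≤ M) :
    IsCyclic (Cfsg.Out (Cfsg.POmega F (Cfsg.quadFormMinus M F a b))) ∧
      Nat.card (Cfsg.Out (Cfsg.POmega F (Cfsg.quadFormMinus M F a b))) = 2 * f := by
  haveI : Fact (Nat.Prime 2) := ⟨Nat.prime_two⟩
  have hG := good_minus 2 hab hM
  have hcl := claw_minus (a := a) (b := b) hM
  let e := pomegaEquiv (minusEquiv M F) (minusEquiv_spec M a b) (ndPolar_hypForm hG.hR M)
    (frame (binForm a b) hM)
  have hc := card_out_minus 2 f hF hab M hM
  have hf : f ≠ 0 := fun h0 => by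
    have h1 := Finite.one_lt_card (α := F)
    rw [Nat.card_eq_fintype_card, hF, h0] at h1
    omega
  have hgcd : Nat.gcd 4 (Nat.card F ^ (M + 1) + 1) = 1 := by
    rw [Nat.card_eq_fintype_card, hF, ← pow_mul, show (4 : ℕ) = 2 ^ 2 from rfl]
    refine Nat.Coprime.pow_left 2 (Nat.coprime_two_left.2 ?_)
    exact Even.add_one ((Nat.even_pow).2 ⟨even_two, Nat.mul_ne_zero hf (by omega)⟩)
  rw [hgcd, mul_one] at hc
  obtain ⟨φ, hφ, hgen⟩ := exists_frobenius_gen (F := F) 2
  obtain ⟨L, hLσ, hLs, hLf⟩ := exists_minus_frob 2 f hF hab hφ hgen M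
  have hsq : ∀ c : F, IsSquare c := fun c => FiniteField.isSquare_of_char_two (ringChar.eq F 2) c
  have hu : hypForm M (binForm a b) (ww ![a, -2]) ≠ 0 := by
    rw [Q_ww]; exact binForm_frob_ne hab
  have hN : ∀ g, psiO hG g ∈ Subgroup.zpowers (psi hG L) := psiO_mem_of_refl hG _ fun v hv => by
    rw [psiO_refl_eq hG hv hu (hsq _), show psiO hG (refl _ _) = psi hG (L ^ f) from
      congrArg (psi hG) hLf.symm, map_pow]
    exact Subgroup.pow_mem _ (Subgroup.mem_zpowers _) _
  have hall : ∀ y, y ∈ Subgroup.zpowers (psi hG L) := by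
    intro y
    obtain ⟨T, rfl⟩ := psi_surjective hG hcl y
    obtain ⟨k, hk⟩ := hgen T.σ
    have hUσ : (T * (L ^ k)⁻¹).σ = 1 := by
      show SemiSim.toσ (T * (L ^ k)⁻¹) = 1
      rw [map_mul, map_inv, map_pow, show SemiSim.toσ L = φ from hLσ, hk]
      exact mul_inv_cancel _
    obtain ⟨g, hg⟩ := psi_mem_psiO hG hUσ (hsq _)
    rw [← inv_mul_cancel_right T (L ^ k), map_mul, map_pow, ← hg]
    exact mul_mem (hN g) (Subgroup.pow_mem _ (Subgroup.mem_zpowers _) k)
  haveI : IsCyclic (Cfsg.Out (POm (hypForm M (binForm a b)))) := ⟨⟨_, hall⟩⟩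
  exact ⟨(outEquiv e).isCyclic.2 inferInstance, (Nat.card_congr (outEquiv e).toEquiv).trans hc⟩

/-- A similarity with a square multiplier gives an isometry class with known determinant. -/
theorem exists_psiO_of_square {W : Type*} [AddCommGroup W] [Module F W] [FiniteDimensional F W]
    {m p : ℕ} {R : QuadraticForm F W} (hG : Good R m p)
    (U : (SemiSim.toσ (Q := hypForm m R)).ker) {d : F} (hd : d ≠ 0) (hs : U.1.s = d * d) :
    ∃ g, psi hG U.1 = psiO hG g ∧
      detSim _ U = d ^ finrank F (Vm F m W) * (detHom (hypForm m R) g : F) := by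
  set S := SemiSim.scal (Q := hypForm m R) (Units.mk0 d hd) with hS
  have hSσ : S.σ = 1 := rfl
  have hUσ : (S⁻¹ * U.1).σ = 1 := by
    show SemiSim.toσ (S⁻¹ * U.1) = 1
    rw [map_mul, map_inv, show SemiSim.toσ U.1 = 1 from U.2, show SemiSim.toσ S = 1 from hSσ,
      inv_one, one_mul]
  have hUs : (S⁻¹ * U.1).s = 1 := by
    show (d * d)⁻¹ * U.1.s = 1
    rw [hs, inv_mul_cancel₀ (mul_ne_zero hd hd)]
  let g : Orth (hypForm m R) :=
    ⟨LinearEquiv.ofBijective ((S⁻¹ * U.1).linPart hUσ) (S⁻¹ * U.1).Φ.bijective,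
      fun x => by
        show hypForm m R ((S⁻¹ * U.1).Φ x) = hypForm m R x
        rw [(S⁻¹ * U.1).quad, hUσ, hUs, one_mul]; rfl⟩
  have hg : SemiSim.ofOrth g = S⁻¹ * U.1 := SemiSim.ext' hUσ.symm hUs.symm fun _ => rfl
  refine ⟨g, ?_, ?_⟩
  · show psi hG U.1 = psi hG (SemiSim.ofOrth g)
    rw [hg, map_mul, map_inv, psi_scal hG, inv_one, one_mul]
  · have hU : U = (⟨S, hSσ⟩ : (SemiSim.toσ (Q := hypForm m R)).ker) * ⟨SemiSim.ofOrth g, rfl⟩ :=
      Subtype.ext (by show U.1 = S * SemiSim.ofOrth g; rw [hg, mul_inv_cancel_left])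
    rw [hU, map_mul]
    congr 1
    · show LinearMap.det (S.linPart hSσ) = _
      rw [show S.linPart hSσ = d • LinearMap.id from LinearMap.ext fun x => rfl, LinearMap.det_smul,
        LinearMap.det_id, mul_one]
    · show LinearMap.det ((SemiSim.ofOrth g).linPart rfl) = _
      exact (congrArg LinearMap.det (LinearMap.ext fun x => rfl)).trans (LinearEquiv.coe_det g.1).symm

/-- Isometries of determinant one give at most two classes. -/
theorem orth_det_one_cases {W : Type*} [AddCommGroup W] [Module F W] [FiniteDimensional F W]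
    {m : ℕ} {R : QuadraticForm F W} (hR : NDPolar R) (hm : 3 ≤ m) (hneg : (-1 : Fˣ) ≠ 1)
    {G : Type*} [Group G] (ψ : Orth (hypForm m R) →* G) {r r' : G} (hrr : r * r = 1)
    (hr'r' : r' * r' = 1) (hcomm : r * r' = r' * r)
    (hrefl : ∀ w, hypForm m R w ≠ 0 → ψ (refl _ w) = r ∨ ψ (refl _ w) = r')
    (hsieg : ∀ g ∈ siegelGroup (hypForm m R), ψ g = 1)
    (g : Orth (hypForm m R)) (hg : detHom (hypForm m R) g = 1) :
    ψ g = 1 ∨ ψ g = r * r' := by
  have key : ∀ g : Orth (hypForm m R), ∃ i k : ℕ,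
      detHom (hypForm m R) g = (-1) ^ i ∧ ψ g = r ^ i * (r * r') ^ k := by
    intro g
    have hg : g ∈ Subgroup.closure
        (Set.range (refl (hypForm m R)) ∪ siegelSet (hypForm m R)) := by
      rw [closure_refl_siegel (ndPolar_hypForm hR m)]; trivial
    have hcz : Commute r (r * r') := (Commute.refl r).mul_right hcomm
    induction hg using Subgroup.closure_induction with
    | mem y hy =>
      rcases hy with ⟨w, rfl⟩ | hy
      · by_cases hw : hypForm m R w = 0
        · refine ⟨0, 0, ?_⟩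
          rw [show refl (hypForm m R) w = 1 from orth_ext fun x => by simp [refl_apply, hw],
            map_one, map_one]
          simp
        · rcases hrefl w hw with h | h
          · exact ⟨1, 0, by rw [detHom_refl hw, pow_one], by rw [h]; simp⟩
          · exact ⟨1, 1, by rw [detHom_refl hw, pow_one], by
              rw [h, pow_one, pow_one, ← mul_assoc, hrr, one_mul]⟩
      · exact ⟨0, 0, by rw [map_eq_one_of_mem (ndPolar_hypForm hR m) (frame R hm) _
          (Subgroup.subset_closure hy), pow_zero],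
          by rw [hsieg _ (Subgroup.subset_closure hy)]; simp⟩
    | one => exact ⟨0, 0, by simp, by simp⟩
    | mul y z _ _ hy hz =>
      obtain ⟨i, k, h1, h2⟩ := hy
      obtain ⟨i', k', h1', h2'⟩ := hz
      refine ⟨i + i', k + k', by rw [map_mul, h1, h1', pow_add], ?_⟩
      rw [map_mul, h2, h2', pow_add, pow_add]
      exact Commute.mul_mul_mul_comm (hcz.symm.pow_pow k i') _ _
    | inv y _ hy =>
      obtain ⟨i, k, h1, h2⟩ := hy
      refine ⟨i, k, by rw [map_inv, h1, ← inv_pow, inv_neg, inv_one], ?_⟩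
      rw [map_inv, h2, mul_inv_rev, ← inv_pow, ← inv_pow, inv_eq_of_mul_eq_one_right hrr,
        mul_inv_rev, inv_eq_of_mul_eq_one_right hrr, inv_eq_of_mul_eq_one_right hr'r',
        ← hcomm]
      exact (hcz.symm.pow_pow k i).eq
  obtain ⟨i, k, h1, h2⟩ := key g
  obtain ⟨i, rfl⟩ : Even i := by
    by_contra h
    rw [hg, (Nat.not_even_iff_odd.1 h).neg_one_pow] at h1
    exact hneg h1.symm
  rw [h2, ← two_mul, pow_mul, pow_two, hrr, one_pow, one_mul]
  rcases Nat.even_or_odd k with ⟨l, rfl⟩ | ⟨l, rfl⟩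
  · left
    rw [← two_mul, pow_mul, pow_two, mul_assoc, ← mul_assoc r', ← hcomm, mul_assoc r, hr'r',
      mul_one, hrr, one_pow]
  · right
    rw [pow_succ, pow_mul, pow_two, mul_assoc r r' (r * r'), ← mul_assoc r' r r', ← hcomm,
      mul_assoc r r' r', hr'r', mul_one, hrr, one_pow, one_mul]

/-- The algebra of the odd minus case, for an abstract quotient of the semisimilarity group. -/
theorem out_minus_core (p f : ℕ) [Fact p.Prime] [CharP F p] (hF : Fintype.card F = p ^ f)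
    (hp : p ≠ 2) (hab : IsAniso a b) (M : ℕ) (hM : 3 ≤ M) {G : Type*} [Group G] [Finite G]
    (ψ : SemiSim (hypForm M (binForm a b)) →* G) (ψ' : Orth (hypForm M (binForm a b)) →* G)
    (σo : G →* (F ≃+* F)) (εo : G →* ℤˣ)
    (hψ' : ∀ g, ψ' g = ψ (SemiSim.ofOrth g))
    (hsurj : Function.Surjective ψ) (hσo : ∀ T, σo (ψ T) = T.σ) (hσO : ∀ g, σo (ψ' g) = 1)
    (hεo : ∀ T, εo (ψ T) = 1 ↔ IsSquare T.s) (hεO : ∀ g, εo (ψ' g) = 1)
    (hconjr : ∀ T v, ψ T * ψ' (refl _ v) * (ψ T)⁻¹ = ψ' (refl _ (T.Φ v)))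
    (hcommO : ∀ g h, ψ' g * ψ' h = ψ' h * ψ' g)
    (hdet0 : ∀ g, ψ' g = 1 → detHom _ g = 1)
    (hsieg : ∀ g ∈ siegelGroup (hypForm M (binForm a b)), ψ' g = 1)
    (hsame : ∀ v w : Vm F M (Fin 2 → F), hypForm M (binForm a b) v ≠ 0 →
      hypForm M (binForm a b) w ≠ 0 →
      IsSquare (hypForm M (binForm a b) v / hypForm M (binForm a b) w) →
      ψ' (refl _ v) = ψ' (refl _ w))
    (hclos : ∀ S : Subgroup G,
      (∀ v, hypForm M (binForm a b) v ≠ 0 → ψ' (refl _ v) ∈ S) → ∀ g, ψ' g ∈ S)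
    (hcommT : ∀ T : SemiSim (hypForm M (binForm a b)),
      (∀ c : F, c ≠ 0 → IsSquare (T.s * T.σ c / c)) → ∀ g, ψ T * ψ' g = ψ' g * ψ T)
    (hmem : ∀ T : SemiSim (hypForm M (binForm a b)), T.σ = 1 → IsSquare T.s → ψ T ∈ ψ'.range)
    (hsqr : ∀ (U : (SemiSim.toσ (Q := hypForm M (binForm a b))).ker) (d : F), d ≠ 0 →
      U.1.s = d * d → ∃ g, ψ U.1 = ψ' g ∧
        detSim _ U = d ^ finrank F (Vm F M (Fin 2 → F)) * (detHom _ g : F))
    (hcard : Nat.card G = 2 * Nat.gcd 4 (Nat.card F ^ (M + 1) + 1) * f) :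
    (Nat.gcd 4 (Nat.card F ^ (M + 1) + 1) = 4 → Odd f →
      Nonempty (G ≃* DihedralGroup 4 × Multiplicative (ZMod f))) ∧
    (Nat.gcd 4 (Nat.card F ^ (M + 1) + 1) = 2 →
      Nonempty (G ≃* Multiplicative (ZMod 2 × ZMod (2 * f)))) := by
  obtain ⟨j, hj⟩ : Odd p := (Fact.out : p.Prime).odd_of_ne_two hp
  have hch : ringChar F ≠ 2 := by rwa [ringChar.eq F p]
  have h2 : (2 : F) ≠ 0 := Ring.two_ne_zero hch
  have hn : finrank F (Vm F M (Fin 2 → F)) = 2 * (M + 1) := by
    simp [Module.finrank_prod]; ring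
  have hneg : (-1 : Fˣ) ≠ 1 := fun h =>
    Ring.neg_one_ne_one_of_char_ne_two hch (congrArg Units.val h)
  obtain ⟨φ, hφ, hgen⟩ := exists_frobenius_gen (F := F) p
  obtain ⟨L, hLσ, hLs, hLf⟩ := exists_minus_frob p f hF hab hφ hgen M
  obtain ⟨c, hc⟩ := FiniteField.exists_nonsquare hch
  have hc0 : c ≠ 0 := fun h => hc (h ▸ IsSquare.zero)
  obtain ⟨v, hv⟩ := exists_binForm_eq hab c
  let B : SemiSim (binForm a b) :=
    { σ := 1, s := c, s_ne := hc0
      Φ := (LinearEquiv.ofInjectiveEndo (binMul a b v)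
        (binMul_injective hab (by rw [hv]; exact hc0))).toAddEquiv
      map_smul := fun d x => (binMul a b v).map_smul d x
      quad := fun x => (binForm_binMul a b v x).trans (by rw [hv]; rfl) }
  set T : SemiSim (hypForm M (binForm a b)) := liftSemi M B with hT
  have hTσ : T.σ = 1 := rfl
  have hTs : T.s = c := rfl
  have hTdet : detSim (hypForm M (binForm a b)) ⟨T, hTσ⟩ = c ^ (M + 1) := by
    refine (detSim_lift M B rfl).trans ?_
    rw [show B.linPart rfl = binMul a b v from LinearMap.ext fun x => rfl, det_binMul, hv, pow_succ]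
  set u : Vm F M (Fin 2 → F) := ww ![a, -2] with hu
  have hu0 : hypForm M (binForm a b) u ≠ 0 := by rw [hu, Q_ww]; exact binForm_frob_ne hab
  set r := ψ' (refl _ u) with hr
  set r' := ψ' (refl _ (T.Φ u)) with hr'
  set t := ψ T with ht
  set x := ψ L with hx
  have hTu : hypForm M (binForm a b) (T.Φ u) = c * hypForm M (binForm a b) u := by rw [T.quad, hTσ, hTs]; rfl
  have hconj : r' = t * r * t⁻¹ := by rw [hr', ht, hr]; exact (hconjr T u).symm
  clear_value T u r r' t x
  have hTu0 : hypForm M (binForm a b) (T.Φ u) ≠ 0 := by rw [hTu]; exact mul_ne_zero hc0 hu0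
  have hrr : r * r = 1 := by rw [hr, ← map_mul, refl_mul_self, map_one]
  have hr'r' : r' * r' = 1 := by rw [hr', ← map_mul, refl_mul_self, map_one]
  have hcomm : r * r' = r' * r := by rw [hr, hr']; exact hcommO _ _
  have hdet1 : ∀ g, ψ' g = 1 → detHom (hypForm M (binForm a b)) g = 1 := fun g =>
    hdet0 g
  have hr1 : r ≠ 1 := fun h => hneg ((detHom_refl hu0).symm.trans (hdet1 _ (hr.symm.trans h)))
  -- the classes of reflections
  have hrefl : ∀ w, hypForm M (binForm a b) w ≠ 0 →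
      ψ' (refl _ w) = r ∨ ψ' (refl _ w) = r' := by
    intro w hw
    by_cases hs : IsSquare (hypForm M (binForm a b) w / hypForm M (binForm a b) u)
    · exact Or.inl (hr ▸ hsame _ _ hw hu0 hs)
    · rw [hr']
      refine Or.inr (hsame _ _ hw hTu0 ?_)
      have : IsSquare (hypForm M (binForm a b) w / hypForm M (binForm a b) u * c⁻¹) :=
        isSquare_mul_of_not hs (by rwa [isSquare_inv])
      rw [hTu, mul_comm c, ← div_div, div_eq_mul_inv _ c]
      exact this
  have hdet : ∀ g, detHom (hypForm M (binForm a b)) g = 1 → ψ' g = 1 ∨ ψ' g = r * r' := by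
    rw [hr, hr'] at hrefl ⊢
    exact orth_det_one_cases (ndPolar_binForm hab) hM hneg (ψ') (hr ▸ hrr) (hr' ▸ hr'r')
      (hcommO _ _) hrefl fun g hg => hsieg g hg
  have hsq : ∀ (U : SemiSim (hypForm M (binForm a b))) (hU : U.σ = 1) (d : F), d ≠ 0 → U.s = d * d →
      detSim _ ⟨U, hU⟩ = d ^ (2 * (M + 1)) → ψ U = 1 ∨ ψ U = r * r' := by
    intro U hU d hd hs hD
    obtain ⟨g, hg, hgd⟩ := hsqr ⟨U, hU⟩ d hd hs
    change ψ U = ψ' g at hg
    rw [hg]
    refine hdet g (Units.ext ?_)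
    rw [hD, hn] at hgd
    exact mul_left_cancel₀ (pow_ne_zero _ hd) (hgd.symm.trans (mul_one _).symm)
  have htt : t * t = 1 ∨ t * t = r * r' := by
    have h : ψ (T * T) = 1 ∨ ψ (T * T) = r * r' := hsq (T * T) (by rw [SemiSim.mul_σ, hTσ, one_mul]) c hc0
      (by show T.s * T.σ T.s = c * c; rw [hTσ, hTs]; rfl)
      (((congrArg (detSim (hypForm M (binForm a b))) (Subtype.ext rfl)).trans
        (map_mul (detSim (hypForm M (binForm a b))) ⟨T, hTσ⟩ ⟨T, hTσ⟩)).trans
        (by rw [hTdet, ← pow_add, two_mul]))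
    have hm2 : ψ (T * T) = t * t := (map_mul (ψ) T T).trans (by rw [ht])
    rwa [hm2] at h
  obtain ⟨w, hw, hxt⟩ : ∃ w, (w = 1 ∨ w = r * r') ∧ x * t = w * t * x := by
    set U := L * T * L⁻¹ * T⁻¹ with hU
    have hUσ : U.σ = 1 := by
      show SemiSim.toσ U = 1
      rw [hU, map_mul, map_mul, map_mul, map_inv, map_inv, show SemiSim.toσ T = 1 from hTσ,
        inv_one, mul_one, mul_one, mul_inv_cancel]
    have hUT : U * T = L * T * L⁻¹ := inv_mul_cancel_right _ _
    have hφc : φ c = c ^ j * c ^ j * c := by rw [hφ, hj, pow_succ, two_mul, pow_add]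
    refine ⟨ψ U, hsq U hUσ (c ^ j) (pow_ne_zero _ hc0) ?_ ?_, ?_⟩
    · refine mul_right_cancel₀ hc0 ?_
      have h := congrArg SemiSim.s hUT
      rw [SemiSim.mul_s, hUσ] at h
      show U.s * c = _
      refine Eq.trans (by rw [hTs]; rfl : U.s * c = U.s * (1 : F ≃+* F) T.s) (h.trans ?_)
      show L.s * L.σ T.s * (L.σ * T.σ) (L.σ.symm L.s)⁻¹ = _
      rw [hLs, hLσ, hTσ, hTs, _root_.map_one, inv_one, _root_.map_one, one_mul, mul_one, hφc]
    · have h := detSim_conj L ⟨T, hTσ⟩ (⟨U, hUσ⟩ * ⟨T, hTσ⟩) hUT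
      rw [map_mul, hTdet, hLσ, map_pow, hφc] at h
      refine mul_right_cancel₀ (pow_ne_zero (M + 1) hc0) (h.trans ?_)
      rw [← pow_mul, ← pow_two (c ^ j), ← pow_mul, mul_pow, ← pow_mul]
      ring
    · rw [hx, ht, ← map_mul, ← map_mul, ← map_mul, hU, inv_mul_cancel_right, inv_mul_cancel_right]
  -- the homomorphisms to the field automorphisms and to the square classes
  have hσx : σo x = φ := by rw [hx, hσo, hLσ]
  have hσt : σo t = 1 := by rw [ht, hσo, hTσ]
  have hεx : εo x = 1 := by rw [hx]; exact (hεo L).2 (by rw [hLs]; exact IsSquare.one)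
  have hεt : εo t ≠ 1 := fun h => hc (hTs ▸ (hεo T).1 (by rwa [ht] at h))
  have hxf : x ^ f = r := by rw [hx, ← map_pow, hLf, hr, hψ']
  have hordσ : orderOf (σo x) = f := by rw [hσx, orderOf_frobenius hF hgen]
  have hf0 : 0 < f := Nat.pos_of_ne_zero fun h0 => hr1 (by rw [← hxf, h0, pow_zero])
  have hxcomm : ∀ g, x * ψ' g = ψ' g * x := hx.symm ▸ hcommT L fun d hd => by
    rw [hLs, one_mul, hLσ, hφ, hj, pow_succ, mul_div_cancel_right₀ _ hd]
    exact ⟨d ^ j, by rw [two_mul, pow_add]⟩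
  -- the order of the image of the isometries
  set N := (ψ').range with hN
  have hcN : Nat.card G = Nat.card N * 2 * f := by
    refine card_of_decomposition N (σo) (εo)
      (by rintro _ ⟨g, rfl⟩; exact hσO g)
      (by rintro _ ⟨g, rfl⟩; exact hεO g) hσt hordσ hεx hεt fun y => ?_
    obtain ⟨S, rfl⟩ := hsurj y
    obtain ⟨k, hk⟩ := hgen S.σ
    have hk' : φ ^ (k % f) = S.σ := by
      rw [← orderOf_frobenius hF hgen, pow_mod_orderOf, hk]
    set U := S * (L ^ (k % f))⁻¹ with hU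
    have hUσ : U.σ = 1 := by
      show SemiSim.toσ U = 1
      rw [hU, map_mul, map_inv, map_pow, show SemiSim.toσ L = φ from hLσ, hk']
      exact mul_inv_cancel _
    have hS : ψ S = ψ U * x ^ (k % f) := by
      rw [hx, ← map_pow, ← map_mul, hU, inv_mul_cancel_right]
    by_cases hs : IsSquare U.s
    · exact ⟨_, hmem _ hUσ hs, 0, ⟨k % f, Nat.mod_lt _ hf0⟩, by simp [hS]⟩
    · have hWσ : (U * T⁻¹).σ = 1 := by
        show SemiSim.toσ (U * T⁻¹) = 1
        rw [map_mul, map_inv, show SemiSim.toσ U = 1 from hUσ, show SemiSim.toσ T = 1 from hTσ,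
          inv_one, one_mul]
      have hWs : IsSquare (U * T⁻¹).s := by
        show IsSquare (U.s * U.σ (T.σ.symm T.s)⁻¹)
        rw [hUσ, hTσ, hTs]
        exact isSquare_mul_of_not hs (show ¬ IsSquare c⁻¹ by rwa [isSquare_inv])
      refine ⟨_, hmem _ hWσ hWs, 1, ⟨k % f, Nat.mod_lt _ hf0⟩, ?_⟩
      show ψ S = ψ (U * T⁻¹) * (t ^ 1 * x ^ (k % f))
      rw [hS, pow_one, ← mul_assoc, ht, ← map_mul, inv_mul_cancel_right]
  rw [hcard] at hcN
  have hNcard : Nat.card N = Nat.gcd 4 (Nat.card F ^ (M + 1) + 1) := by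
    refine Nat.eq_of_mul_eq_mul_right hf0 (Nat.eq_of_mul_eq_mul_left two_pos ?_)
    linarith
  have hrN : r ∈ N := ⟨_, hr.symm⟩
  have hr'N : r' ∈ N := ⟨_, hr'.symm⟩
  have hr'1 : r' ≠ 1 := fun h => hneg ((detHom_refl hTu0).symm.trans (hdet1 _ (hr'.symm.trans h)))
  refine ⟨fun h4 hfodd => ?_, fun h2' => ?_⟩
  · have hne : r' ≠ r := by
      intro h
      have hle : N ≤ Subgroup.zpowers r := by
        rintro _ ⟨g, rfl⟩
        refine hclos _ (fun w hw => ?_) g
        rcases hrefl w hw with h' | h' <;> rw [h'] <;> simp [h]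
      have hcle := Subgroup.card_le_of_le hle
      rw [Nat.card_zpowers, orderOf_eq_prime (by rw [pow_two, hrr]) hr1, hNcard, h4] at hcle
      omega
    obtain ⟨i⟩ := abstract_minus_dihedral (σo) hfodd hordσ hxf (hr ▸ hσO _) hσt
      hrr hcomm hconj hne (by rw [hr]; exact hxcomm _) (by rw [hr']; exact hxcomm _) htt hw hxt
      (by rw [hcard, h4])
    exact ⟨i⟩
  · have heq : r' = r := by
      rw [h2', Nat.card_eq_two_iff' (1 : N)] at hNcard
      exact congrArg Subtype.val (hNcard.unique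
        (y₁ := ⟨r', hr'N⟩) (y₂ := ⟨r, hrN⟩)
        (fun h => hr'1 (congrArg Subtype.val h)) (fun h => hr1 (congrArg Subtype.val h)))
    rw [heq, hrr] at htt hw
    have htt1 : t * t = 1 := htt.elim id id
    have hw1 : w = 1 := hw.elim id id
    rw [hw1, one_mul] at hxt
    obtain ⟨i⟩ := abstract_minus_split (σo) (εo) hordσ hxf hrr hr1 htt1 hεx hεt
      hxt (by rw [hcard, h2'])
    exact ⟨i⟩


/-- `Out(PΩ⁻_{2M+2}(q))`, `q` odd. -/
theorem out_minus_odd (p f : ℕ) [Fact p.Prime] [CharP F p] (hF : Fintype.card F = p ^ f)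
    (hp : p ≠ 2) (hab : IsAniso a b) (M : ℕ) (hM : 3 ≤ M) :
    (Nat.gcd 4 (Nat.card F ^ (M + 1) + 1) = 4 → Odd f →
      Nonempty (Cfsg.Out (Cfsg.POmega F (Cfsg.quadFormMinus M F a b)) ≃*
        DihedralGroup 4 × Multiplicative (ZMod f))) ∧
    (Nat.gcd 4 (Nat.card F ^ (M + 1) + 1) = 2 →
      Nonempty (Cfsg.Out (Cfsg.POmega F (Cfsg.quadFormMinus M F a b)) ≃*
        Multiplicative (ZMod 2 × ZMod (2 * f)))) := by
  have hG := good_minus p hab hM
  let e := pomegaEquiv (minusEquiv M F) (minusEquiv_spec M a b) (ndPolar_hypForm hG.hR M)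
    (frame (binForm a b) hM)
  haveI := finite_out_aux M (binForm a b)
  have hcl := claw_minus (a := a) (b := b) hM
  have hn : Even (finrank F (Vm F M (Fin 2 → F))) :=
    ⟨M + 1, by simp [Module.finrank_prod]; ring⟩
  obtain ⟨h1, h2⟩ := out_minus_core p f hF hp hab M hM (psi hG) (psiO hG) (sigmaOut hG hcl)
    (signOut hG hcl) (fun _ => rfl) (psi_surjective hG hcl) (sigmaOut_psi hG hcl) (sigmaOut_psiO hG hcl)
    (signOut_psi hG hcl) (signOut_psiO hG hcl) (psi_conj_refl hG) (psiO_commute hG)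
    (fun _ h => det_of_psiO_eq_one hG hn h) (fun _ h => psiO_siegel hG h)
    (fun _ _ hv hw h => psiO_refl_eq hG hv hw h) (psiO_mem_of_refl hG) (psi_commute_psiO hG)
    (fun _ hσ hs => psi_mem_psiO hG hσ hs) (fun U _ hd hs => exists_psiO_of_square hG U hd hs)
    (card_out_minus p f hF hab M hM)
  exact ⟨fun h4 hf => (h1 h4 hf).map fun i => (outEquiv e).trans i,
    fun h => (h2 h).map fun i => (outEquiv e).trans i⟩

end CfsgLib.AutPOmega
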