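import Mathlib
import Cfsg.Agent.Lib.AutPOmega.Octonion
import Cfsg.Agent.Lib.AutPOmega.OutCases

/-!
The triality automorphism of the central quotient of the Siegel group of the eight-dimensional
hyperbolic model, by related triples of similitudes of the split octonions.
-/

set_option autoImplicit false
set_option maxHeartbeats 800000

namespace CfsgLib.AutPOmega

open QuadraticMap Module CfsgLib.Classical.Quad

variable {F : Type*} [Field F]

theorem Q8_oone : Q8 F (oone : V8 F) = 1 := by simp [Q8_apply, oone, o8]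

theorem obar_oone : obar (oone : V8 F) = oone := by
  apply v8_ext <;> simp [obar, oone, o8]

theorem obar_add (x y : V8 F) : obar (x + y) = obar x + obar y := by
  apply v8_ext <;> simp [obar, o8] <;> ring

theorem obar_smul (c : F) (x : V8 F) : obar (c • x) = c • obar x := by
  apply v8_ext <;> simp [obar, o8]

/-- The nucleus consists of scalars. -/
theorem eq_smul_oone {d : V8 F} (h : ∀ x y, omul (omul x d) y = omul x (omul d y)) :
    d = d.1.1 0 • oone := by
  have h12 := h (o8 0 1 0 0 0 0 0 0) (o8 0 0 1 0 0 0 0 0)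
  have h23 := h (o8 0 0 1 0 0 0 0 0) (o8 0 0 0 1 0 0 0 0)
  have h31 := h (o8 0 0 0 1 0 0 0 0) (o8 0 1 0 0 0 0 0 0)
  have a1 := congrArg (fun z : V8 F => z.1.1 0) h23
  have a2 := congrArg (fun z : V8 F => z.1.1 0) h31
  have a3 := congrArg (fun z : V8 F => z.1.1 0) h12
  have B1 := congrArg (fun z : V8 F => z.1.1 2) h12
  have B2 := congrArg (fun z : V8 F => z.1.1 1) h12
  have B3 := congrArg (fun z : V8 F => z.1.1 2) h23
  have hb := congrArg (fun z : V8 F => z.1.2 3) h12
  simp [omul, o8] at a1 a2 a3 B1 B2 B3 hb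
  apply v8_ext <;> simp [oone, o8, a1, a2, a3, B1, B2, B3, hb]

/-- Octonion conjugation as an isometry. -/
def kap (F : Type*) [Field F] : Orth (Q8 F) :=
  ⟨{ toFun := obar, invFun := obar, left_inv := obar_obar, right_inv := obar_obar
     map_add' := obar_add, map_smul' := fun c x => obar_smul c x }, Q8_obar⟩

theorem kap_apply (x : V8 F) : (kap F).1 x = obar x := rfl

theorem kap_mul_self : kap F * kap F = 1 := orth_ext fun x => obar_obar x

theorem kap_eq : kap F = negOne _ * refl (Q8 F) oone := by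
  refine orth_ext fun x => ?_
  show obar x = -((refl (Q8 F) oone).1 x)
  rw [refl_apply, Q8_oone, div_one, ← obar_eq, neg_neg]

/-- Conjugation of a semisimilarity by octonion conjugation. -/
def hat : SemiSim (Q8 F) →* SemiSim (Q8 F) :=
  MonoidHom.mk' (fun T => SemiSim.ofOrth (kap F) * T * SemiSim.ofOrth (kap F)) fun T U => by
    have h : SemiSim.ofOrth (kap F) * SemiSim.ofOrth (kap F) = 1 := by
      rw [← map_mul, kap_mul_self, map_one]
    simp only [mul_assoc]
    rw [← mul_assoc (SemiSim.ofOrth (kap F)) (SemiSim.ofOrth (kap F)), h, one_mul]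

theorem hat_Φ (T : SemiSim (Q8 F)) (x : V8 F) : (hat T).Φ x = obar (T.Φ (obar x)) := rfl

theorem hat_σ (T : SemiSim (Q8 F)) : (hat T).σ = T.σ := by
  show (1 : F ≃+* F) * T.σ * 1 = T.σ
  rw [one_mul, mul_one]

theorem hat_s (T : SemiSim (Q8 F)) : (hat T).s = T.s := by
  show 1 * (1 : F ≃+* F) T.s * ((1 : F ≃+* F) * T.σ) 1 = T.s
  rw [map_one, mul_one, one_mul]; rfl

theorem hat_hat (T : SemiSim (Q8 F)) : hat (hat T) = T :=
  SemiSim.ext' (by rw [hat_σ, hat_σ]) (by rw [hat_s, hat_s]) fun x => by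
    rw [hat_Φ, hat_Φ, obar_obar, obar_obar]

theorem hat_scal (c : Fˣ) : hat (SemiSim.scal (Q := Q8 F) c) = SemiSim.scal c :=
  SemiSim.ext' (hat_σ _) (hat_s _) fun x => by
    rw [hat_Φ, SemiSim.scal_Φ, SemiSim.scal_Φ, obar_smul, obar_obar]

theorem hat_ofOrth (g : Orth (Q8 F)) :
    hat (SemiSim.ofOrth g) = SemiSim.ofOrth (kap F * g * kap F) := by
  rw [map_mul, map_mul]; rfl

/-- Left multiplication by a non-singular vector. -/
noncomputable def lmulSemi (u : V8 F) (hu : Q8 F u ≠ 0) : SemiSim (Q8 F) where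
  σ := 1
  s := Q8 F u
  s_ne := hu
  Φ := (LinearEquiv.ofInjectiveEndo
    { toFun := omul u
      map_add' := omul_add_right u
      map_smul' := fun c x => omul_smul_right c u x } fun x y h => by
        refine smul_right_injective _ hu ?_
        show Q8 F u • x = Q8 F u • y
        rw [← obar_omul_omul, ← obar_omul_omul]
        exact congrArg (omul (obar u)) h).toAddEquiv
  map_smul c x := omul_smul_right c u x
  quad x := Q8_omul u x

/-- Right multiplication by a non-singular vector. -/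
noncomputable def rmulSemi (u : V8 F) (hu : Q8 F u ≠ 0) : SemiSim (Q8 F) where
  σ := 1
  s := Q8 F u
  s_ne := hu
  Φ := (LinearEquiv.ofInjectiveEndo
    { toFun := fun x => omul x u
      map_add' := fun x y => omul_add_left x y u
      map_smul' := fun c x => omul_smul_left c x u } fun x y h => by
        refine smul_right_injective _ hu ?_
        show Q8 F u • x = Q8 F u • y
        rw [← omul_omul_obar, ← omul_omul_obar]
        exact congrArg (fun z => omul z (obar u)) h).toAddEquiv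
  map_smul c x := omul_smul_left c x u
  quad x := (Q8_omul x u).trans (mul_comm _ _)

theorem lmulSemi_Φ (u : V8 F) (hu : Q8 F u ≠ 0) (x : V8 F) : (lmulSemi u hu).Φ x = omul u x := rfl

theorem rmulSemi_Φ (u : V8 F) (hu : Q8 F u ≠ 0) (x : V8 F) : (rmulSemi u hu).Φ x = omul x u := rfl

/-- A related triple of similitudes. -/
structure Triple (g h k : SemiSim (Q8 F)) : Prop where
  hg : g.σ = 1
  hh : h.σ = 1
  hk : k.σ = 1
  rel : ∀ x y, g.Φ (omul x y) = omul (h.Φ x) (k.Φ y)

theorem Triple.one : Triple (1 : SemiSim (Q8 F)) 1 1 := ⟨rfl, rfl, rfl, fun _ _ => rfl⟩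

theorem Triple.mul {g h k g' h' k' : SemiSim (Q8 F)} (t : Triple g h k) (t' : Triple g' h' k') :
    Triple (g * g') (h * h') (k * k') :=
  ⟨by rw [SemiSim.mul_σ, t.hg, t'.hg, one_mul], by rw [SemiSim.mul_σ, t.hh, t'.hh, one_mul],
    by rw [SemiSim.mul_σ, t.hk, t'.hk, one_mul],
    fun x y => by rw [SemiSim.mul_Φ, SemiSim.mul_Φ, SemiSim.mul_Φ, t'.rel, t.rel]⟩

theorem Triple.inv {g h k : SemiSim (Q8 F)} (t : Triple g h k) : Triple g⁻¹ h⁻¹ k⁻¹ := by
  have hσ : ∀ T : SemiSim (Q8 F), T.σ = 1 → T⁻¹.σ = 1 := fun T hT => by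
    show SemiSim.toσ T⁻¹ = 1
    rw [map_inv, show SemiSim.toσ T = 1 from hT, inv_one]
  refine ⟨hσ g t.hg, hσ h t.hh, hσ k t.hk, fun x y => g.Φ.injective ?_⟩
  show g.Φ (g.Φ.symm (omul x y)) = g.Φ (omul (h.Φ.symm x) (k.Φ.symm y))
  rw [t.rel, g.Φ.apply_symm_apply, h.Φ.apply_symm_apply, k.Φ.apply_symm_apply]

theorem Triple.scal (c : Fˣ) : Triple (SemiSim.scal (Q := Q8 F) c) (SemiSim.scal c) 1 :=
  ⟨rfl, rfl, rfl, fun x y => by
    rw [SemiSim.scal_Φ, SemiSim.scal_Φ, ← omul_smul_left]; rfl⟩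

theorem Triple.bar {g h k : SemiSim (Q8 F)} (t : Triple g h k) : Triple (hat g) (hat k) (hat h) :=
  ⟨(hat_σ g).trans t.hg, (hat_σ k).trans t.hk, (hat_σ h).trans t.hh, fun x y => by
    rw [hat_Φ, hat_Φ, hat_Φ, obar_omul, t.rel, obar_omul]⟩

/-- A vector set spanning the space and avoiding the singular vectors. -/
theorem eq_zero_of_nonsingular {A : Type*} [AddCommGroup A] [Module F A] (L : V8 F →ₗ[F] A)
    (h : ∀ x, Q8 F x ≠ 0 → L x = 0) (x : V8 F) : L x = 0 := by
  have h1 : ∀ v : V8 F, Q8 F v = 1 → L v = 0 := fun v hv => h v (by rw [hv]; exact one_ne_zero)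
  have k1 := h1 oone Q8_oone
  have m1 := h1 (o8 1 1 0 0 1 0 0 0) (by simp [Q8_apply, o8])
  have m2 := h1 (o8 1 0 1 0 1 0 0 0) (by simp [Q8_apply, o8])
  have m3 := h1 (o8 1 0 0 1 1 0 0 0) (by simp [Q8_apply, o8])
  have n1 := h1 (o8 1 0 0 0 1 1 0 0) (by simp [Q8_apply, o8])
  have n2 := h1 (o8 1 0 0 0 1 0 1 0) (by simp [Q8_apply, o8])
  have n3 := h1 (o8 1 0 0 0 1 0 0 1) (by simp [Q8_apply, o8])
  have e0 := h1 (o8 1 1 0 0 0 1 0 0) (by simp [Q8_apply, o8])
  have hx : x = x.1.1 1 • (o8 1 1 0 0 1 0 0 0 - oone) + x.1.1 2 • (o8 1 0 1 0 1 0 0 0 - oone)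
      + x.1.1 3 • (o8 1 0 0 1 1 0 0 0 - oone) + x.1.2 1 • (o8 1 0 0 0 1 1 0 0 - oone)
      + x.1.2 2 • (o8 1 0 0 0 1 0 1 0 - oone) + x.1.2 3 • (o8 1 0 0 0 1 0 0 1 - oone)
      + x.1.2 0 • oone + (x.1.1 0 - x.1.2 0) • (o8 1 1 0 0 0 1 0 0
        - (o8 1 1 0 0 1 0 0 0 - oone) - (o8 1 0 0 0 1 1 0 0 - oone)) := by
    apply v8_ext <;> simp [o8, oone] <;> ring
  rw [hx]
  simp [k1, m1, m2, m3, n1, n2, n3, e0]

/-- The second symmetry of the triples. -/
theorem Triple.swap {g h k : SemiSim (Q8 F)} (t : Triple g h k) :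
    Triple (SemiSim.scal (Units.mk0 h.s h.s_ne) * k) (hat h) g := by
  refine ⟨by rw [SemiSim.mul_σ, t.hk, mul_one]; rfl, (hat_σ h).trans t.hh, t.hg, fun x z => ?_⟩
  let L : V8 F →ₗ[F] V8 F :=
    { toFun := fun x => omul ((hat h).Φ x) (g.Φ z) - h.s • k.Φ (omul x z)
      map_add' := fun x y => by
        simp only [map_add, omul_add_left, smul_add]; abel
      map_smul' := fun c x => by
        simp only [(hat h).map_smul, omul_smul_left, k.map_smul, hat_σ, t.hh, t.hk, RingHom.id_apply,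
          smul_sub]
        rw [smul_comm h.s]; rfl }
  have hL := eq_zero_of_nonsingular L (fun x hx => by
    show omul ((hat h).Φ x) (g.Φ z) - h.s • k.Φ (omul x z) = 0
    rw [sub_eq_zero, hat_Φ]
    obtain ⟨y, rfl⟩ : ∃ y, z = omul (obar x) y := ⟨(Q8 F x)⁻¹ • omul x z, by
      conv_rhs => rw [omul_smul_right, obar_omul_omul, smul_smul, inv_mul_cancel₀ hx, one_smul]⟩
    rw [t.rel, obar_omul_omul, h.quad, t.hh, Q8_obar]
    rw [show omul x (omul (obar x) y) = Q8 F x • y by
      have := obar_omul_omul (obar x) y; rwa [obar_obar, Q8_obar] at this, k.map_smul, t.hk,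
      smul_smul]) x
  rw [SemiSim.mul_Φ, SemiSim.scal_Φ]
  exact (sub_eq_zero.1 hL).symm

/-- The rule giving the triality. -/
theorem Triple.next {g h k : SemiSim (Q8 F)} (t : Triple g h k) :
    Triple (SemiSim.scal (Units.mk0 k.s k.s_ne) * hat h) k (hat g) := by
  have := t.bar.swap
  rw [hat_hat] at this
  convert this using 3
  exact Units.ext (hat_s k).symm

/-- The middle member of a triple is determined up to scalars. -/
theorem Triple.exists_scal {h k : SemiSim (Q8 F)} (t : Triple 1 h k) :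
    ∃ c : Fˣ, h = SemiSim.scal c := by
  set c := h.Φ oone with hc
  set e := k.Φ oone with he
  have hQc : Q8 F c ≠ 0 := by
    rw [hc, h.quad, Q8_oone, map_one, mul_one]; exact h.s_ne
  have hQe : Q8 F e ≠ 0 := by
    rw [he, k.quad, Q8_oone, map_one, mul_one]; exact k.s_ne
  have hk : ∀ y, y = omul c (k.Φ y) := fun y => by
    have := t.rel oone y
    rwa [oone_omul] at this
  have hh : ∀ x, x = omul (h.Φ x) e := fun x => by
    have := t.rel x oone
    rwa [omul_oone] at this
  have hh' : ∀ x, h.Φ x = omul x c := fun x => by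
    have h1 : ∀ x, Q8 F e • h.Φ x = omul x (obar e) := fun x => by
      conv_rhs => rw [hh x]
      rw [omul_omul_obar]
    have h2 := h1 oone
    rw [oone_omul, ← hc] at h2
    refine smul_right_injective _ hQe ?_
    show Q8 F e • h.Φ x = Q8 F e • omul x c
    rw [h1, ← omul_smul_right, h2]
  have hn : ∀ x y, omul (omul x c) y = omul x (omul c y) := fun x y => by
    obtain ⟨z, hz⟩ := k.Φ.surjective y
    rw [← hz, ← hk z, ← hh' x]
    exact (t.rel x z).symm
  have hd := eq_smul_oone hn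
  have hc0 : c.1.1 0 ≠ 0 := fun h0 => hQc (by rw [hd, h0, zero_smul, QuadraticMap.map_zero])
  refine ⟨Units.mk0 _ hc0, SemiSim.ext' t.hh ?_ fun x => ?_⟩
  · have h1 := h.quad oone
    rw [← hc, Q8_oone, map_one, mul_one, hd, QuadraticMap.map_smul, Q8_oone, smul_eq_mul,
      mul_one] at h1
    exact h1.symm
  · rw [hh', SemiSim.scal_Φ, Units.val_mk0]
    conv_lhs => rw [hd, omul_smul_right, omul_oone]

/-- The similitudes with a related triple. -/
def Tri (F : Type*) [Field F] : Subgroup (SemiSim (Q8 F)) where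
  carrier := {T | ∃ h k, Triple T h k}
  one_mem' := ⟨1, 1, Triple.one⟩
  mul_mem' := fun ⟨h, k, t⟩ ⟨h', k', t'⟩ => ⟨h * h', k * k', t.mul t'⟩
  inv_mem' := fun ⟨h, k, t⟩ => ⟨h⁻¹, k⁻¹, t.inv⟩

/-- The product of two reflections with the identity. -/
theorem triple_refl_one {u : V8 F} (hu : Q8 F u ≠ 0) :
    Triple (SemiSim.ofOrth (refl (Q8 F) u * refl (Q8 F) oone)) (lmulSemi u hu)
      (SemiSim.scal (Units.mk0 (Q8 F u) hu)⁻¹ * rmulSemi u hu) := by
  refine ⟨rfl, rfl, mul_one (1 : F ≃+* F), fun x y => ?_⟩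
  rw [SemiSim.ofOrth_Φ, SemiSim.mul_Φ, SemiSim.scal_Φ, lmulSemi_Φ, rmulSemi_Φ, omul_smul_right,
    ← omul_moufang, sandwich_eq, smul_add, smul_smul, smul_smul, Units.val_inv_eq_inv_val,
    Units.val_mk0, inv_mul_cancel₀ hu, one_smul]
  show (refl (Q8 F) u).1 ((refl (Q8 F) oone).1 (omul x y)) = _
  rw [refl_apply oone (omul x y), Q8_oone, div_one, ← obar_eq, refl_apply, div_eq_mul_inv,
    mul_comm (polar (Q8 F) (-obar (omul x y)) u), mul_neg]

theorem ofOrth_mem_tri {g : Orth (Q8 F)} (hg : g ∈ evenRefl (Q8 F)) :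
    SemiSim.ofOrth g ∈ Tri F := by
  obtain ⟨l, hl, he, rfl⟩ := hg
  suffices H : (Even l.length → SemiSim.ofOrth (l.map (refl (Q8 F))).prod ∈ Tri F) ∧
      (Odd l.length →
        SemiSim.ofOrth (refl (Q8 F) oone * (l.map (refl (Q8 F))).prod) ∈ Tri F) from H.1 he
  clear he
  induction l with
  | nil => exact ⟨fun _ => by simpa using (Tri F).one_mem, fun h => by simp at h⟩
  | cons v l ih =>
    obtain ⟨i1, i2⟩ := ih fun w hw => hl w (List.mem_cons_of_mem _ hw)
    have hv : Q8 F v ≠ 0 := hl v List.mem_cons_self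
    have hA : SemiSim.ofOrth (refl (Q8 F) v * refl (Q8 F) oone) ∈ Tri F :=
      ⟨_, _, triple_refl_one hv⟩
    constructor
    · intro h
      rw [List.length_cons, Nat.even_add_one, Nat.not_even_iff_odd] at h
      have hm := (Tri F).mul_mem hA (i2 h)
      rw [← map_mul, mul_assoc, ← mul_assoc (refl (Q8 F) oone) (refl (Q8 F) oone), refl_mul_self,
        one_mul] at hm
      simpa using hm
    · intro h
      rw [List.length_cons, Nat.odd_add_one, Nat.not_odd_iff_even] at h
      have hm := (Tri F).mul_mem ((Tri F).inv_mem hA) (i1 h)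
      rw [← map_inv, ← map_mul, mul_inv_rev, refl_inv, refl_inv, mul_assoc] at hm
      simpa using hm

variable [Fintype F]

/-- Conjugation on the central quotient. -/
noncomputable def C8 : SemiSim (Q8 F) →* MulAut (POm (Q8 F)) :=
  SemiSim.conjHom (ndPolar_hypForm ndPolar_zeroKernel 4)
    (frame (zeroKernel F) (by norm_num : 3 ≤ 4))

theorem C8_scal (c : Fˣ) : C8 (SemiSim.scal (Q := Q8 F) c) = 1 := SemiSim.conjHom_scal _ _ c

theorem siegel_le_even (g : siegelGroup (Q8 F)) : (g : Orth (Q8 F)) ∈ evenRefl (Q8 F) :=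
  siegelGroup_le_evenRefl (ndPolar_hypForm ndPolar_zeroKernel 4)
    (frame (zeroKernel F) (by norm_num : 3 ≤ 4)) g.2

theorem siegel_mem_tri (g : siegelGroup (Q8 F)) :
    SemiSim.ofOrth (g : Orth (Q8 F)) ∈ Tri F :=
  ofOrth_mem_tri (siegel_le_even g)

omit [Fintype F] in
theorem Triple.middle_eq {g h k h' k' : SemiSim (Q8 F)} (t : Triple g h k) (t' : Triple g h' k') :
    ∃ c : Fˣ, h = h' * SemiSim.scal c := by
  have h1 := t'.inv.mul t
  rw [inv_mul_cancel] at h1
  obtain ⟨c, hc⟩ := h1.exists_scal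
  exact ⟨c, by rw [← hc, mul_inv_cancel_left]⟩

theorem C8_hat_eq {g h k h' k' : SemiSim (Q8 F)} (t : Triple g h k) (t' : Triple g h' k') :
    C8 (hat h) = C8 (hat h') := by
  obtain ⟨c, rfl⟩ := t.middle_eq t'
  rw [map_mul (hat (F := F)), hat_scal, map_mul, C8_scal, mul_one]

/-- The action of a related triple through its middle member. -/
noncomputable def theta : Tri F →* MulAut (POm (Q8 F)) :=
  MonoidHom.mk' (fun T => C8 (hat T.2.choose)) fun T U => by
    rw [← map_mul, ← map_mul]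
    exact C8_hat_eq (T * U).2.choose_spec.choose_spec
      (T.2.choose_spec.choose_spec.mul U.2.choose_spec.choose_spec)

theorem theta_eq {g h k : SemiSim (Q8 F)} (t : Triple g h k) :
    theta ⟨g, h, k, t⟩ = C8 (hat h) :=
  C8_hat_eq (Exists.choose_spec (Exists.choose_spec (show g ∈ Tri F from ⟨h, k, t⟩))) t

theorem theta_eq' {g h k : SemiSim (Q8 F)} (T : Tri F) (hT : T.1 = g) (t : Triple g h k) :
    theta T = C8 (hat h) := by
  obtain ⟨T, hT'⟩ := T
  subst hT
  exact theta_eq t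

variable (p : ℕ) [Fact p.Prime] [CharP F p]
include p

theorem good_plus {m : ℕ} (hm : 3 ≤ m) : Good (zeroKernel F) m p :=
  ⟨ndPolar_zeroKernel, hm, fun _ _ => Subsingleton.elim _ _, Fact.out, inferInstance⟩

omit [Fintype F] p in
theorem hom_eq_one_of_perfect {G A : Type*} [Group G] [CommGroup A] (h : commutator G = ⊤)
    (φ : G →* A) (g : G) : φ g = 1 := by
  have hg : g ∈ commutator G := by rw [h]; exact Subgroup.mem_top g
  exact MonoidHom.mem_ker.1 (Abelianization.commutator_subset_ker φ hg)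

omit [Fintype F] p in
theorem hom_eq_one_of_commute {G A : Type*} [Group G] [Group A] (h : commutator G = ⊤)
    (φ : G →* A) (hc : ∀ a b, φ a * φ b = φ b * φ a) (g : G) : φ g = 1 := by
  have hle : commutator G ≤ φ.ker := by
    rw [commutator_def, Subgroup.commutator_le]
    intro a _ b _
    rw [MonoidHom.mem_ker, map_commutatorElement, commutatorElement_eq_one_iff_mul_comm]
    exact hc a b
  exact MonoidHom.mem_ker.1 (hle (by rw [h]; exact Subgroup.mem_top g))

theorem exists_middle_square (g : siegelGroup (Q8 F)) :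
    ∃ h k, Triple (SemiSim.ofOrth (g : Orth (Q8 F))) h k ∧ IsSquare h.s := by
  have hnd := ndPolar_hypForm (ndPolar_zeroKernel (F := F)) 4
  have hperf := siegelGroup_perfect hnd (frame (zeroKernel F) (by norm_num : 3 ≤ 4))
  let mid : siegelGroup (Q8 F) → SemiSim (Q8 F) := fun g => (siegel_mem_tri g).choose
  have ht : ∀ g : siegelGroup (Q8 F), ∃ k, Triple (SemiSim.ofOrth (g : Orth (Q8 F))) (mid g) k :=
    fun g => (siegel_mem_tri g).choose_spec
  have hmul : ∀ g g', ∃ c : Fˣ, mid (g * g') = mid g * mid g' * SemiSim.scal c := fun g g' => by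
    obtain ⟨k, hk⟩ := ht (g * g')
    obtain ⟨k1, hk1⟩ := ht g
    obtain ⟨k2, hk2⟩ := ht g'
    have h12 := hk1.mul hk2
    rw [← map_mul, ← Subgroup.coe_mul] at h12
    exact hk.middle_eq h12
  -- the multiplier classes
  let S : Subgroup Fˣ := (powMonoidHom 2 : Fˣ →* Fˣ).range
  let sg' : siegelGroup (Q8 F) →* Fˣ ⧸ S :=
    MonoidHom.mk' (fun g => QuotientGroup.mk (Units.mk0 (mid g).s (mid g).s_ne)) fun g g' => by
      obtain ⟨c, hc⟩ := hmul g g'
      obtain ⟨k, hk⟩ := ht g
      obtain ⟨k', hk'⟩ := ht g'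
      rw [← QuotientGroup.mk_mul, QuotientGroup.eq]
      refine ⟨c⁻¹, Units.ext ?_⟩
      simp only [powMonoidHom_apply, Units.val_pow_eq_pow_val, Units.val_mul,
        Units.val_inv_eq_inv_val, Units.val_mk0]
      rw [hc, SemiSim.mul_s, SemiSim.mul_s, SemiSim.mul_σ, hk.hh, hk'.hh]
      show ((c : F)⁻¹) ^ 2 = ((mid g).s * (mid g').s * ((c : F) * c))⁻¹ * ((mid g).s * (mid g').s)
      have := (mid g).s_ne
      have := (mid g').s_ne
      field_simp
  obtain ⟨k₀, hk₀⟩ := ht g
  refine ⟨_, k₀, hk₀, ?_⟩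
  have h1 : sg' g = 1 := hom_eq_one_of_commute hperf sg' (fun a b => mul_comm (sg' a) (sg' b)) g
  obtain ⟨c, hc⟩ := (QuotientGroup.eq_one_iff (N := S) (Units.mk0 (mid g).s (mid g).s_ne)).1 h1
  refine ⟨c, ?_⟩
  have := congrArg Units.val hc
  rw [powMonoidHom_apply, Units.val_pow_eq_pow_val, pow_two] at this
  exact this.symm

theorem theta_siegel (g : siegelGroup (Q8 F)) :
    ∃ z : POm (Q8 F), theta ⟨_, siegel_mem_tri g⟩ = MulAut.conj z := by
  have hnd := ndPolar_hypForm (ndPolar_zeroKernel (F := F)) 4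
  have hG := good_plus (F := F) p (m := 4) (by norm_num)
  have hperf := siegelGroup_perfect hnd (frame (zeroKernel F) (by norm_num : 3 ≤ 4))
  let ev : siegelGroup (Q8 F) →* Cfsg.Out (POm (Q8 F)) :=
    (QuotientGroup.mk' _).comp
      (theta.comp ((SemiSim.ofOrth.comp (siegelGroup (Q8 F)).subtype).codRestrict (Tri F)
        siegel_mem_tri))
  have hev : ∀ g, ev g ∈ (psiO hG).range := fun g => by
    obtain ⟨h, k, t, hs⟩ := exists_middle_square p g
    have h1 : ev g = psi hG (hat h) := congrArg QuotientGroup.mk (theta_eq' _ rfl t)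
    rw [h1]
    exact psi_mem_psiO hG ((hat_σ _).trans t.hh) (by rw [hat_s]; exact hs)
  have h1 : ev g = 1 := hom_eq_one_of_commute hperf ev (fun a b => by
    obtain ⟨a', ha'⟩ := hev a
    obtain ⟨b', hb'⟩ := hev b
    rw [← ha', ← hb']
    exact psiO_commute hG a' b') g
  obtain ⟨z, hz⟩ := (QuotientGroup.eq_one_iff _).1 h1
  exact ⟨z, hz.symm⟩

theorem exists_trial : ∃ E : POm (Q8 F) →* POm (Q8 F), ∀ g : siegelGroup (Q8 F),
    MulAut.conj (E (QuotientGroup.mk g)) = theta ⟨_, siegel_mem_tri g⟩ := by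
  have hnd := ndPolar_hypForm (ndPolar_zeroKernel (F := F)) 4
  have hG := good_plus (F := F) p (m := 4) (by norm_num)
  have hinj := conj_injective hG
  choose z hz using theta_siegel (F := F) p
  let E₀ : siegelGroup (Q8 F) →* POm (Q8 F) := MonoidHom.mk' z fun g g' => hinj (by
    rw [map_mul, ← hz, ← hz, ← hz, ← map_mul]
    exact congrArg theta (Subtype.ext (map_mul SemiSim.ofOrth _ _)))
  have hker : Subgroup.center (siegelGroup (Q8 F)) ≤ E₀.ker := by
    intro g hg
    refine hinj ?_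
    show MulAut.conj (z g) = MulAut.conj 1
    rw [← hz, map_one]
    rcases (mem_center_siegelGroup_iff hnd (frame (zeroKernel F) hG.hm) g).1 hg with h | h
    · have : (g : Orth (Q8 F)) = 1 := orth_ext h
      rw [theta_eq' ⟨_, siegel_mem_tri g⟩ ((congrArg SemiSim.ofOrth this).trans (map_one _)) Triple.one,
        map_one, map_one]
    · have hsc : SemiSim.ofOrth (g : Orth (Q8 F)) = SemiSim.scal (-1) :=
        SemiSim.ext' rfl (by show (1 : F) = ((-1 : Fˣ) : F) * ((-1 : Fˣ) : F); simp) fun x => by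
          rw [SemiSim.ofOrth_Φ, SemiSim.scal_Φ, h]; simp
      rw [theta_eq' ⟨_, siegel_mem_tri g⟩ hsc (Triple.scal (-1)), hat_scal, C8_scal]
  exact ⟨QuotientGroup.lift _ E₀ hker, fun g => (hz g).symm⟩

/-- The triality endomorphism. -/
noncomputable def trial : POm (Q8 F) →* POm (Q8 F) := (exists_trial p).choose

theorem conj_trial (g : siegelGroup (Q8 F)) :
    MulAut.conj (trial p (QuotientGroup.mk g)) = theta ⟨_, siegel_mem_tri g⟩ :=
  (exists_trial p).choose_spec g

omit [Fintype F] p in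
theorem conj_map {G : Type*} [Group G] (U : MulAut G) (z : G) :
    U * MulAut.conj z * U⁻¹ = MulAut.conj (U z) :=
  MulEquiv.ext fun y => by simp [MulAut.conj_apply]

/-- A semisimilarity preserving the triples carries the triality to another one. -/
theorem trial_conj (T : SemiSim (Q8 F)) (U : MulAut (POm (Q8 F)))
    (hT : ∀ g h k, Triple g h k →
      ∃ h' k', Triple (T * g * T⁻¹) h' k' ∧ C8 (hat h') = U * C8 (hat h) * U⁻¹)
    (x : POm (Q8 F)) : trial p (C8 T x) = U (trial p x) := by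
  obtain ⟨g, rfl⟩ := QuotientGroup.mk_surjective x
  have hG := good_plus (F := F) p (m := 4) (by norm_num)
  refine conj_injective hG ?_
  obtain ⟨h, k, t⟩ := siegel_mem_tri g
  obtain ⟨h', k', t', he⟩ := hT _ _ _ t
  set g' := T.conjSiegel (ndPolar_hypForm ndPolar_zeroKernel 4)
    (frame (zeroKernel F) (by norm_num : 3 ≤ 4)) g with hg'
  have h0 : C8 T (QuotientGroup.mk g) = QuotientGroup.mk g' :=
    SemiSim.conjPS_mk T _ _ g
  have hg'' : (g' : Orth (Q8 F)) = T.conjOrth g := rfl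
  have e1 : theta ⟨_, siegel_mem_tri g'⟩ = C8 (hat h') :=
    theta_eq' _ ((congrArg SemiSim.ofOrth hg'').trans
      (SemiSim.conj_ofOrth T (g : Orth (Q8 F))).symm) t'
  have e2 : theta ⟨_, siegel_mem_tri g⟩ = C8 (hat h) := theta_eq' _ rfl t
  clear_value g'
  calc MulAut.conj (trial p (C8 T (QuotientGroup.mk g)))
      = MulAut.conj (trial p (QuotientGroup.mk g')) := congrArg (fun z => MulAut.conj (trial p z)) h0
    _ = C8 (hat h') := (conj_trial p g').trans e1
    _ = U * C8 (hat h) * U⁻¹ := he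
    _ = U * MulAut.conj (trial p (QuotientGroup.mk g)) * U⁻¹ :=
        congrArg (fun z => U * z * U⁻¹) ((conj_trial p g).trans e2).symm
    _ = MulAut.conj (U (trial p (QuotientGroup.mk g))) := conj_map U _

/-- Each step of the triality. -/
theorem trial_step {x : POm (Q8 F)} {T h k : SemiSim (Q8 F)} (hx : MulAut.conj x = C8 T)
    (t : Triple T h k) : MulAut.conj (trial p x) = C8 (hat h) := by
  obtain ⟨g, rfl⟩ := QuotientGroup.mk_surjective x
  have hm : 3 ≤ 4 := by norm_num
  have hk : (SemiSim.ofOrth (g : Orth (Q8 F)))⁻¹ * T ∈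
      (SemiSim.conjHom (ndPolar_hypForm ndPolar_zeroKernel 4) (frame (zeroKernel F) hm)).ker := by
    rw [MonoidHom.mem_ker, map_mul, map_inv, SemiSim.conjHom_ofOrth_siegel, hx, inv_mul_eq_one]
    rfl
  rw [conjHom_ker ndPolar_zeroKernel hm p] at hk
  obtain ⟨c, hc⟩ := hk
  have t' : Triple (SemiSim.ofOrth (g : Orth (Q8 F))) (h * (SemiSim.scal c)⁻¹) (k * 1⁻¹) := by
    have hT : T = SemiSim.ofOrth (g : Orth (Q8 F)) * SemiSim.scal c := by
      rw [hc, mul_inv_cancel_left]
    subst hT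
    have := t.mul (Triple.scal c).inv
    rwa [mul_inv_cancel_right] at this
  rw [conj_trial, theta_eq' _ rfl t', map_mul (hat (F := F)), map_inv (hat (F := F)), hat_scal, map_mul, map_inv,
    C8_scal, inv_one, mul_one]

theorem trial_sq (g : siegelGroup (Q8 F)) {h k : SemiSim (Q8 F)}
    (t : Triple (SemiSim.ofOrth (g : Orth (Q8 F))) h k) :
    MulAut.conj (trial p (trial p (QuotientGroup.mk g))) = C8 (hat k) := by
  refine trial_step p ?_ t.next
  rw [conj_trial, theta_eq' _ rfl t, map_mul, C8_scal, one_mul]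

theorem trial_cube (x : POm (Q8 F)) : trial p (trial p (trial p x)) = x := by
  obtain ⟨g, rfl⟩ := QuotientGroup.mk_surjective x
  have hG := good_plus (F := F) p (m := 4) (by norm_num)
  refine conj_injective hG ?_
  obtain ⟨h, k, t⟩ := siegel_mem_tri g
  have hx : MulAut.conj (trial p (trial p (QuotientGroup.mk g))) =
      C8 (SemiSim.scal (Units.mk0 (hat (SemiSim.ofOrth (g : Orth (Q8 F)))).s
        (hat (SemiSim.ofOrth (g : Orth (Q8 F)))).s_ne) * hat k) := by
    rw [trial_sq p g t, map_mul, C8_scal, one_mul]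
  rw [trial_step p hx t.next.next, hat_hat]
  exact SemiSim.conjHom_ofOrth_siegel _ _ g

/-- The triality automorphism. -/
noncomputable def gam : MulAut (POm (Q8 F)) where
  toFun := trial p
  invFun x := trial p (trial p x)
  left_inv := trial_cube p
  right_inv := trial_cube p
  map_mul' := map_mul (trial p)

theorem gam_apply (x : POm (Q8 F)) : gam p x = trial p x := rfl

theorem gam_cube : gam p * gam p * gam p = (1 : MulAut (POm (Q8 F))) :=
  MulEquiv.ext fun x => trial_cube p x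

/-- The triality conjugates a similitude with a related triple to the middle member. -/
theorem gam_conj {T h k : SemiSim (Q8 F)} (t : Triple T h k) :
    gam p * C8 T * (gam p)⁻¹ = C8 (hat h) := by
  rw [mul_inv_eq_iff_eq_mul]
  refine MulEquiv.ext fun x => ?_
  show trial p (C8 T x) = C8 (hat h) (trial p x)
  refine trial_conj p T (C8 (hat h)) (fun g h' k' t' =>
    ⟨_, _, (t.mul t').mul t.inv, ?_⟩) x
  rw [map_mul (hat (F := F)), map_mul (hat (F := F)), map_inv (hat (F := F)), map_mul (C8 (F := F)), map_mul (C8 (F := F)), map_inv (C8 (F := F))]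

/-- A semisimilarity compatible with the product commutes with the triality. -/
theorem gam_commute (T : SemiSim (Q8 F))
    (hT : ∀ x y, T.Φ (omul x y) = omul (T.Φ x) (T.Φ y))
    (hk : T * SemiSim.ofOrth (kap F) = SemiSim.ofOrth (kap F) * T) :
    gam p * C8 T = C8 T * gam p := by
  refine MulEquiv.ext fun x => ?_
  show trial p (C8 T x) = C8 T (trial p x)
  refine trial_conj p T (C8 T) (fun g h k t => ⟨T * h * T⁻¹, T * k * T⁻¹, ?_, ?_⟩) x
  · have hσ : ∀ S : SemiSim (Q8 F), S.σ = 1 → (T * S * T⁻¹).σ = 1 := fun S hS => by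
      show SemiSim.toσ (T * S * T⁻¹) = 1
      rw [map_mul, map_mul, map_inv, show SemiSim.toσ S = 1 from hS, mul_one, mul_inv_cancel]
    refine ⟨hσ g t.hg, hσ h t.hh, hσ k t.hk, fun x y => ?_⟩
    show T.Φ (g.Φ (T.Φ.symm (omul x y))) = omul (T.Φ (h.Φ (T.Φ.symm x))) (T.Φ (k.Φ (T.Φ.symm y)))
    rw [show T.Φ.symm (omul x y) = omul (T.Φ.symm x) (T.Φ.symm y) from T.Φ.injective (by
      rw [hT, T.Φ.apply_symm_apply, T.Φ.apply_symm_apply, T.Φ.apply_symm_apply]), t.rel, hT]
  · have hat' : hat T = T := by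
      show SemiSim.ofOrth (kap F) * T * SemiSim.ofOrth (kap F) = T
      rw [← hk, mul_assoc, ← map_mul, kap_mul_self, map_one, mul_one]
    simp only [map_mul, map_inv, hat']

/-- Octonion conjugation inverts the triality. -/
theorem kap_gam : C8 (SemiSim.ofOrth (kap F)) * gam p * (C8 (SemiSim.ofOrth (kap F)))⁻¹ =
    (gam p : MulAut (POm (Q8 F)))⁻¹ := by
  have hG := good_plus (F := F) p (m := 4) (by norm_num)
  have hrr : C8 (SemiSim.ofOrth (kap F)) * C8 (SemiSim.ofOrth (kap F)) = 1 := by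
    rw [← map_mul, ← map_mul, kap_mul_self, map_one, map_one]
  obtain ⟨r, hr⟩ : ∃ r, r = C8 (SemiSim.ofOrth (kap F)) := ⟨_, rfl⟩
  rw [← hr] at hrr ⊢
  have hri : r⁻¹ = r := inv_eq_of_mul_eq_one_right hrr
  have hconj : ∀ z, MulAut.conj (r z) = r * MulAut.conj z * r := fun z => by
    conv_rhs => arg 2; rw [← hri]
    exact (conj_map r z).symm
  have hC : ∀ T, C8 (hat T) = r * C8 T * r := fun T => by
    rw [hr, ← map_mul, ← map_mul]; rfl
  rw [hri]
  refine MulEquiv.ext fun x => ?_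
  show r (trial p (r x)) = trial p (trial p x)
  obtain ⟨g, rfl⟩ := QuotientGroup.mk_surjective x
  obtain ⟨h, k, t⟩ := siegel_mem_tri g
  refine conj_injective hG ?_
  have hrg : MulAut.conj (r (QuotientGroup.mk g)) = C8 (hat (SemiSim.ofOrth (g : Orth (Q8 F)))) := by
    have hh : MulAut.conj (QuotientGroup.mk g : POm (Q8 F)) =
        C8 (SemiSim.ofOrth (g : Orth (Q8 F))) := (SemiSim.conjHom_ofOrth_siegel _ _ g).symm
    exact (hconj _).trans ((congrArg (fun z => r * z * r) hh).trans (hC _).symm)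
  calc MulAut.conj (r (trial p (r (QuotientGroup.mk g))))
      = r * MulAut.conj (trial p (r (QuotientGroup.mk g))) * r := hconj _
    _ = r * C8 (hat (hat k)) * r := congrArg (fun z => r * z * r) (trial_step p hrg t.bar)
    _ = C8 (hat (hat (hat k))) := (hC _).symm
    _ = C8 (hat k) := congrArg C8 (hat_hat _)
    _ = MulAut.conj (trial p (trial p (QuotientGroup.mk g))) := (trial_sq p g t).symm

end CfsgLib.AutPOmega
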