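import Mathlib
import Cfsg.Agent.Lib.AutPOmega.OutMinus
import Cfsg.Agent.Lib.AutPOmega.Triality

/-!
The image of the semisimilarity group in the outer automorphism group of the plus type orthogonal
groups.
-/

set_option autoImplicit false
set_option maxHeartbeats 800000

namespace CfsgLib.AutPOmega

open QuadraticMap Module CfsgLib.Classical.Quad

section Abstract

variable {G H : Type*} [Group G] [Finite G] [Group H]

omit [Finite G] in
/-- A lift of the field generator commuting with the dihedral part. -/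
theorem exists_commuting_lift (σ : G →* H) {r r' t x w : G} {f : ℕ} (hrr : r * r = 1)
    (hr'r' : r' * r' = 1) (hcomm : r * r' = r' * r) (hconj : r' = t * r * t⁻¹) (hne : r' ≠ r)
    (hσr : σ r = 1) (hxf : x ^ f = 1) (hxr : Commute x r) (hxr' : Commute x r')
    (hw : w = 1 ∨ w = r * r') (hxt : x * t = w * t * x) :
    ∃ y, y ^ f = 1 ∧ σ y = σ x ∧ Commute y r ∧ Commute y t := by
  have hzz : r * r' * (r * r') = 1 := by
    rw [mul_assoc, ← mul_assoc r', ← hcomm, mul_assoc r, hr'r', mul_one, hrr]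
  rcases hw with rfl | rfl
  · exact ⟨x, hxf, rfl, hxr, by rw [one_mul] at hxt; exact hxt⟩
  · have hxz : Commute x (r * r') := hxr.mul_right hxr'
    have hiter : ∀ k : ℕ, x ^ k * t = (r * r') ^ k * t * x ^ k := by
      intro k
      induction k with
      | zero => simp
      | succ k ih =>
        calc x ^ (k + 1) * t = x ^ k * ((r * r') * t * x) := by rw [pow_succ, mul_assoc, hxt]
          _ = (r * r') * (x ^ k * t) * x := by
              rw [← mul_assoc, ← mul_assoc, (hxz.pow_left k).eq, mul_assoc (r * r') (x ^ k)]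
          _ = _ := by
              rw [ih, pow_succ' (r * r'), pow_succ x]; simp only [mul_assoc]
    have hfe : Even f := by
      by_contra hfo
      obtain ⟨l, hl⟩ := Nat.not_even_iff_odd.1 hfo
      have h1 := hiter f
      rw [hxf, one_mul, mul_one, hl, pow_succ, pow_mul, pow_two, hzz, one_pow, one_mul,
        eq_comm, mul_eq_right] at h1
      exact hne (by
        rw [eq_inv_of_mul_eq_one_right h1]; exact inv_eq_of_mul_eq_one_right hrr)
    refine ⟨x * r, ?_, by rw [map_mul, hσr, mul_one], hxr.mul_left (Commute.refl r), ?_⟩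
    · obtain ⟨l, hl⟩ := hfe
      rw [hxr.mul_pow, hxf, one_mul, hl, ← two_mul, pow_mul, pow_two, hrr, one_pow]
    · have hrt : r * t = r * r' * t * r := by
        rw [hconj]
        calc r * t = r * (t * (r * r)) := by rw [hrr, mul_one]
          _ = _ := by group
      show x * r * t = t * (x * r)
      calc x * r * t = x * (r * r' * t * r) := by rw [mul_assoc, hrt]
        _ = r * r' * (x * t) * r := by
            rw [← mul_assoc, ← mul_assoc, hxz.eq, mul_assoc (r * r') x t]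
        _ = r * r' * (r * r') * t * x * r := by rw [hxt]; simp only [mul_assoc]
        _ = t * (x * r) := by rw [hzz, one_mul, mul_assoc]

/-- A dihedral group of order eight with a centralising cyclic complement. -/
theorem abstract_dihedral_times (σ : G →* H) {r r' t y : G} {f : ℕ} (hσ : orderOf (σ y) = f)
    (hyf : y ^ f = 1) (hσr : σ r = 1) (hσt : σ t = 1) (hrr : r * r = 1) (hrr' : r * r' = r' * r)
    (hr' : r' = t * r * t⁻¹) (hne : r' ≠ r) (htt : t * t = 1 ∨ t * t = r * r')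
    (hyr : Commute y r) (hyt : Commute y t) (hcard : Nat.card G ≤ 8 * f) :
    Nonempty (G ≃* DihedralGroup 4 × Multiplicative (ZMod f)) := by
  have hr'r' : r' * r' = 1 := by
    rw [hr']
    calc _ = t * (r * r) * t⁻¹ := by group
      _ = 1 := by rw [hrr, mul_one, mul_inv_cancel]
  have hzz : r * r' * (r * r') = 1 := by
    rw [mul_assoc, ← mul_assoc r', ← hrr', mul_assoc r, hr'r', mul_one, hrr]
  have hz1 : r * r' ≠ 1 := fun h => hne (by
    rw [eq_inv_of_mul_eq_one_right h]; exact inv_eq_of_mul_eq_one_right hrr)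
  obtain ⟨a, haa, hra, hσa, hay⟩ : ∃ a, a * a = r * r' ∧ r * a * r * a = 1 ∧ σ a = 1 ∧
      (a = t ∨ a = t * r) := by
    rcases htt with htt | htt
    · refine ⟨t * r, ?_, ?_, by rw [map_mul, hσt, hσr, one_mul], Or.inr rfl⟩
      · rw [hrr', hr', inv_eq_of_mul_eq_one_right htt]; simp only [mul_assoc]
      · calc r * (t * r) * r * (t * r) = r * t * (r * r) * t * r := by simp only [mul_assoc]
          _ = r * (t * t) * r := by rw [hrr, mul_one, mul_assoc r t t]
          _ = 1 := by rw [htt, mul_one, hrr]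
    · refine ⟨t, htt, ?_, hσt, Or.inl rfl⟩
      calc r * t * r * t = r * (t * r * t⁻¹) * (t * t) := by group
        _ = 1 := by rw [← hr', htt, hzz]
  have haord : orderOf a = 4 := by
    refine orderOf_eq_prime_pow (p := 2) (n := 1) ?_ ?_
    · show ¬ a ^ 2 ^ 1 = 1
      rwa [pow_one, pow_two, haa]
    · show a ^ 2 ^ 2 = 1
      rw [show 2 ^ 2 = 2 + 2 from rfl, pow_add, pow_two, haa, hzz]
  have hba : r * a * r⁻¹ = a⁻¹ := by
    rw [inv_eq_of_mul_eq_one_right hrr]
    exact eq_inv_of_mul_eq_one_left hra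
  have hnot : r ∉ Subgroup.zpowers a := by
    rintro ⟨i, hi⟩
    have hcom : r * a * r⁻¹ = a := by
      rw [show r = a ^ i from hi.symm, (Commute.zpow_self a i).eq, mul_inv_cancel_right]
    rw [hba, inv_eq_iff_mul_eq_one, haa] at hcom
    exact hz1 hcom
  have hb : r * r ∈ Subgroup.zpowers a := hrr ▸ one_mem _
  set D := CfsgLib.TwoFusion.cyclicByInverter a r hba hb
  obtain ⟨eD⟩ := CfsgLib.TwoFusion.exists_dihedral_mulEquiv (by norm_num) haord hrr hba hnot D
    fun g => CfsgLib.TwoFusion.mem_cyclicByInverter hba hb g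
  have hy : orderOf y = f :=
    Nat.dvd_antisymm (orderOf_dvd_of_pow_eq_one hyf) (hσ ▸ orderOf_map_dvd σ y)
  have hya : Commute y a := by
    rcases hay with rfl | rfl
    · exact hyt
    · exact hyt.mul_right hyr
  have hB : Nat.card (Subgroup.zpowers y) = f := by rw [Nat.card_zpowers, hy]
  have hD : Nat.card D = 8 := by rw [Nat.card_congr eD.toEquiv, DihedralGroup.nat_card]
  have hc : ∀ g ∈ D, ∀ h ∈ Subgroup.zpowers y, g * h = h * g := by
    rintro g ⟨i, rfl | rfl⟩ _ ⟨j, rfl⟩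
    · exact (hya.zpow_zpow j i).symm.eq
    · exact (((hyr.zpow_left j).mul_right (hya.zpow_zpow j i))).symm.eq
  have hd : ∀ g ∈ D, g ∈ Subgroup.zpowers y → g = 1 := by
    rintro g hg ⟨j, rfl⟩
    have hσg : σ (y ^ j) = 1 := by
      obtain ⟨i, h | h⟩ := hg
      · simp only [h, map_zpow, hσa, one_zpow]
      · simp only [h, map_mul, map_zpow, hσr, hσa, one_zpow, one_mul]
    show y ^ j = 1
    rw [← orderOf_dvd_iff_zpow_eq_one, hy]
    rwa [map_zpow, ← orderOf_dvd_iff_zpow_eq_one, hσ] at hσg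
  have eB : Subgroup.zpowers y ≃* Multiplicative (ZMod f) :=
    mulEquivOfCyclicCardEq (hB.trans (by rw [Nat.card_congr Multiplicative.toAdd, Nat.card_zmod]))
  exact ⟨(internalProd D (Subgroup.zpowers y) hc hd (by rw [hD, hB]; exact hcard)).symm.trans
    (eD.prodCongr eB)⟩

/-- The elementary abelian case. -/
theorem abstract_klein_times (σ : G →* H) (ε : G →* ℤˣ) {r t x : G} {f : ℕ}
    (hσ : orderOf (σ x) = f) (hxf : x ^ f = 1) (hσr : σ r = 1) (hεr : ε r = 1) (hεx : ε x = 1)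
    (hεt : ε t ≠ 1) (hr : r ≠ 1) (hrr : r * r = 1) (htt : t * t = 1) (htr : Commute t r)
    (htx : Commute t x) (hrx : Commute r x)
    (hall : ∀ g, ∃ i j k : ℤ, g = t ^ i * (r ^ j * x ^ k)) (hcard : Nat.card G ≤ 4 * f) :
    Nonempty (G ≃* Multiplicative (ZMod 2 × ZMod 2 × ZMod f)) := by
  have ht : orderOf t = 2 :=
    orderOf_eq_prime (by rw [pow_two, htt]) fun h => hεt (by rw [h, map_one])
  have hx : orderOf x = f :=
    Nat.dvd_antisymm (orderOf_dvd_of_pow_eq_one hxf) (hσ ▸ orderOf_map_dvd σ x)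
  have hεt' : ε t = -1 := (Int.units_eq_one_or _).resolve_left hεt
  set K := ε.ker with hK
  have hrK : r ∈ K := hεr
  have hxK : x ∈ K := hεx
  have hK2 : Nat.card K * 2 ≤ 4 * f := by
    refine le_trans (le_of_eq ?_) hcard
    have hrange : ε.range = ⊤ := eq_top_iff.2 fun u _ => by
      rcases Int.units_eq_one_or u with rfl | rfl
      · exact one_mem _
      · exact ⟨t, hεt'⟩
    rw [Subgroup.card_eq_card_quotient_mul_card_subgroup K, mul_comm, hK,
      Nat.card_congr (QuotientGroup.quotientKerEquivRange ε).toEquiv, hrange, Subgroup.card_top,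
      Nat.card_eq_fintype_card (α := ℤˣ), Fintype.card_units_int]
  have hr2 : orderOf (⟨r, hrK⟩ : K) = 2 := by
    rw [← Subgroup.orderOf_coe]; exact orderOf_eq_prime (by rw [pow_two, hrr]) hr
  have hxo : orderOf (⟨x, hxK⟩ : K) = f := by rw [← Subgroup.orderOf_coe]; exact hx
  obtain ⟨eK⟩ := prod_cyclic (G := K) (Subgroup.zpowers ⟨r, hrK⟩) (Subgroup.zpowers ⟨x, hxK⟩)
    (by rw [Nat.card_zpowers, hr2]) (by rw [Nat.card_zpowers, hxo])
    (by
      rintro _ ⟨i, rfl⟩ _ ⟨j, rfl⟩
      exact Subtype.ext (by simpa using (hrx.zpow_zpow i j).eq))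
    (by
      rintro g ⟨i, hi⟩ ⟨j, hj⟩
      have hσg : σ (x ^ j) = 1 := by
        have : x ^ j = r ^ i := by simpa using congrArg Subtype.val (hj.trans hi.symm)
        rw [this, map_zpow, hσr, one_zpow]
      rw [map_zpow, ← orderOf_dvd_iff_zpow_eq_one, hσ, ← hxo, orderOf_dvd_iff_zpow_eq_one] at hσg
      exact hj.symm.trans hσg)
    (by omega)
  have ht2 : Nat.card (Subgroup.zpowers t) = 2 := by rw [Nat.card_zpowers, ht]
  have hd : ∀ g ∈ Subgroup.zpowers t, g ∈ K → g = 1 := by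
    rintro _ ⟨i, rfl⟩ hg
    show t ^ i = 1
    rw [hK, MonoidHom.mem_ker, map_zpow, hεt'] at hg
    rw [← orderOf_dvd_iff_zpow_eq_one, ht]
    have h2 : orderOf (-1 : ℤˣ) = 2 := orderOf_eq_prime (by decide) (by decide)
    rw [← orderOf_dvd_iff_zpow_eq_one, h2] at hg
    exact hg
  have hc : ∀ a ∈ Subgroup.zpowers t, ∀ b ∈ K, a * b = b * a := by
    rintro _ ⟨i, rfl⟩ b -
    obtain ⟨i', j, k, rfl⟩ := hall b
    exact ((Commute.refl t).zpow_zpow i i').mul_right
      ((htr.zpow_zpow i j).mul_right (htx.zpow_zpow i k))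
  have hKc : 2 * f ≤ Nat.card K := by
    rw [Nat.card_congr eK.toEquiv, Nat.card_congr Multiplicative.toAdd, Nat.card_prod,
      Nat.card_zmod, Nat.card_zmod]
  have et : Subgroup.zpowers t ≃* Multiplicative (ZMod 2) :=
    mulEquivOfCyclicCardEq (ht2.trans (by rw [Nat.card_congr Multiplicative.toAdd, Nat.card_zmod]))
  exact ⟨(internalProd (Subgroup.zpowers t) K hc hd (by rw [ht2]; omega)).symm.trans
    ((et.prodCongr eK).trans (MulEquiv.prodMultiplicative (ZMod 2) (ZMod 2 × ZMod f)).symm)⟩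

omit [Finite G] in
theorem decomp_zero {a b c g s : G} (h : a = b * c) (hg : g = b) :
    a = g * (s ^ ((0 : Fin 2) : ℕ) * c) := by simp [h, hg]

omit [Finite G] in
theorem decomp_one {a b c g s si : G} (h : a = b * c) (hg : g = b * si) (hsi : si = s⁻¹) :
    a = g * (s ^ ((1 : Fin 2) : ℕ) * c) := by simp [h, hg, hsi, mul_assoc]

end Abstract

variable {F : Type*} [Field F]

/-- Semisimilarities of the zero space. -/
def zeroSemi (σ : F ≃+* F) (c : F) (hc : c ≠ 0) : SemiSim (zeroKernel F) where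
  σ := σ
  s := c
  s_ne := hc
  Φ := AddEquiv.refl _
  map_smul _ _ := Subsingleton.elim _ _
  quad x := by simp [Subsingleton.elim x 0]

/-- The coordinatewise semisimilarities. -/
def fieldHom (m : ℕ) : (F ≃+* F) →* SemiSim (hypForm m (zeroKernel F)) where
  toFun σ := liftSemi m (zeroSemi σ 1 one_ne_zero)
  map_one' := SemiSim.ext' rfl rfl fun x => by
    show ((fun i => x.1.1 i, fun i => (1 : F) * x.1.2 i), x.2) = x
    simp
  map_mul' σ τ := SemiSim.ext' rfl (show (1 : F) = 1 * σ 1 by simp) fun x => by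
    rw [SemiSim.mul_Φ, liftSemi_Φ, liftSemi_Φ, liftSemi_Φ]
    refine Prod.ext (Prod.ext rfl (funext fun i => ?_)) (Subsingleton.elim _ _)
    show (1 : F) * σ (τ (x.1.2 i)) = 1 * σ (1 * τ (x.1.2 i))
    rw [one_mul (τ _)]

theorem fieldHom_σ (m : ℕ) (σ : F ≃+* F) : (fieldHom m σ).σ = σ := rfl

theorem fieldHom_s (m : ℕ) (σ : F ≃+* F) : (fieldHom m σ).s = 1 := rfl

/-- The diagonal similarities. -/
def simSemi (m : ℕ) (c : F) (hc : c ≠ 0) : SemiSim (hypForm m (zeroKernel F)) :=
  liftSemi m (zeroSemi 1 c hc)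

/-- The standard vector of value `c`. -/
def uvec (m : ℕ) (hm : 0 < m) (c : F) : Vm F m (Fin 0 → F) := ee ⟨0, hm⟩ + c • ff ⟨0, hm⟩

theorem Q_uvec (m : ℕ) (hm : 0 < m) (c : F) : hypForm m (zeroKernel F) (uvec m hm c) = c := by
  simp [uvec, QuadraticMap.map_add (hypForm m (zeroKernel F)), QuadraticMap.map_smul, Q_ee, Q_ff,
    polar_ff_right]

variable [Fintype F]

/-- The order of the image of the semisimilarities. -/
theorem card_range_conjHom {W : Type*} [AddCommGroup W] [Module F W] [FiniteDimensional F W]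
    {m p : ℕ} {R : QuadraticForm F W} (hG : Good R m p) :
    Nat.card (SemiSim.conjHom (ndPolar_hypForm hG.hR m) (frame R hG.hm)).range *
      (Nat.card F - 1) = Nat.card (SemiSim (hypForm m R)) := by
  classical
  haveI : Fact p.Prime := ⟨hG.hp⟩
  haveI := hG.hchar
  set C := SemiSim.conjHom (ndPolar_hypForm hG.hR m) (frame R hG.hm)
  have hinj : Function.Injective (SemiSim.scal (Q := hypForm m R)) := fun c d h => by
    have h1 := congrArg (fun T : SemiSim (hypForm m R) =>
      (T.Φ (ee ⟨0, lt_of_lt_of_le (by norm_num) hG.hm⟩)).1.1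
        ⟨0, lt_of_lt_of_le (by norm_num) hG.hm⟩) h
    refine Units.ext ?_
    simpa [SemiSim.scal_Φ] using h1
  rw [Subgroup.card_eq_card_quotient_mul_card_subgroup C.ker,
    Nat.card_congr (QuotientGroup.quotientKerEquivRange C).toEquiv,
    conjHom_ker hG.hR hG.hm p, ← Nat.card_congr (MonoidHom.ofInjective hinj).toEquiv,
    Nat.card_units]

/-- The image in the outer automorphism group. -/
theorem card_psi_range_mul {W : Type*} [AddCommGroup W] [Module F W] [FiniteDimensional F W]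
    {m p : ℕ} {R : QuadraticForm F W} (hG : Good R m p) :
    Nat.card (psi hG).range * Nat.card (POm (hypForm m R)) =
      Nat.card (SemiSim.conjHom (ndPolar_hypForm hG.hR m) (frame R hG.hm)).range := by
  set C := SemiSim.conjHom (ndPolar_hypForm hG.hR m) (frame R hG.hm)
  let q : C.range →* Cfsg.Out (POm (hypForm m R)) :=
    (QuotientGroup.mk' (Cfsg.Inn (POm (hypForm m R)))).comp C.range.subtype
  have hq : q.range = (psi hG).range := by
    ext y
    constructor
    · rintro ⟨⟨_, T, rfl⟩, rfl⟩; exact ⟨T, rfl⟩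
    · rintro ⟨T, rfl⟩; exact ⟨⟨C T, T, rfl⟩, rfl⟩
  have hle : Cfsg.Inn (POm (hypForm m R)) ≤ C.range := by
    rintro _ ⟨z, rfl⟩
    obtain ⟨g, rfl⟩ := QuotientGroup.mk_surjective z
    exact ⟨SemiSim.ofOrth (g : Orth (hypForm m R)), SemiSim.conjHom_ofOrth_siegel _ _ g⟩
  have hk : q.ker = (Cfsg.Inn (POm (hypForm m R))).subgroupOf C.range := by
    ext y
    exact QuotientGroup.eq_one_iff _
  rw [Subgroup.card_eq_card_quotient_mul_card_subgroup q.ker,
    Nat.card_congr (QuotientGroup.quotientKerEquivRange q).toEquiv, hq, hk,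
    Nat.card_congr (Subgroup.subgroupOfEquivOfLe hle).toEquiv,
    ← Nat.card_congr (MonoidHom.ofInjective (conj_injective hG)).toEquiv]

variable (p f : ℕ) [Fact p.Prime] [CharP F p] {m : ℕ}

theorem card_psi_range_plus (hF : Fintype.card F = p ^ f) (hm : 3 ≤ m) :
    Nat.card (psi (good_plus (F := F) p hm)).range = 2 * Nat.gcd 4 (Nat.card F ^ m - 1) * f := by
  have hG := good_plus (F := F) p hm
  have hσ : Function.Surjective (SemiSim.toσ (Q := hypForm m (zeroKernel F))) :=
    fun σ => ⟨fieldHom m σ, rfl⟩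
  have hs : Function.Surjective (SemiSim.toS (Q := hypForm m (zeroKernel F))) :=
    fun c => ⟨⟨simSemi m c c.ne_zero, rfl⟩, Units.ext rfl⟩
  have h1 := card_range_conjHom hG
  rw [SemiSim.card_eq, MonoidHom.range_eq_top.2 hσ, MonoidHom.range_eq_top.2 hs, Subgroup.card_top,
    Subgroup.card_top, CfsgLib.AutPSL.card_ringAut hF, Nat.card_units,
    ← card_psi_range_mul hG] at h1
  obtain ⟨k, rfl⟩ : ∃ k, m = k + 1 := ⟨m - 1, by omega⟩
  have h3 := card_pomega_plus (F := F) hm
  have e := pomegaEquiv (plusEquiv (k + 1) F) (plusEquiv_spec (k + 1))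
    (ndPolar_hypForm hG.hR (k + 1)) (frame (zeroKernel F) hG.hm)
  rw [Nat.card_congr e.toEquiv] at h3
  rw [card_orth_plus] at h1
  have hq : 1 < Nat.card F := Finite.one_lt_card
  simp only [Nat.add_sub_cancel] at h3
  refine Nat.eq_of_mul_eq_mul_right (Nat.mul_pos (Nat.card_pos (α := POm (hypForm (k + 1)
    (zeroKernel F)))) (show 0 < Nat.card F - 1 by omega)) ?_
  rw [← mul_assoc, h1, mul_assoc 2 (Nat.card F ^ ((k + 1) * k)),
    mul_assoc 2 (Nat.card F ^ ((k + 1) * k) * (Nat.card F ^ (k + 1) - 1)), ← h3]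
  ring

variable {φ : F ≃+* F}

attribute [local irreducible] psi

/-- Every class in the image is an isometry class times standard ones. -/
theorem psi_decomp (hm : 3 ≤ m) (hgen : ∀ σ : F ≃+* F, ∃ k : ℕ, φ ^ k = σ) {c : F} (hc : c ≠ 0)
    (hcl : ∀ d : F, d ≠ 0 → IsSquare d ∨ IsSquare (d * c⁻¹))
    (T : SemiSim (hypForm m (zeroKernel F))) :
    ∃ (g : Orth (hypForm m (zeroKernel F))) (i : Fin 2) (k : ℕ), k < orderOf φ ∧
      psi (good_plus (F := F) p hm) T = psiO (good_plus (F := F) p hm) g *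
        ((psi (good_plus (F := F) p hm) (simSemi m c hc)) ^ (i : ℕ) *
          (psi (good_plus (F := F) p hm) (fieldHom m φ)) ^ k) := by
  have hG := good_plus (F := F) p hm
  haveI : Finite (F ≃+* F) := Finite.of_injective _ DFunLike.coe_injective
  have hex := hgen T.σ
  obtain ⟨k, hk⟩ := hex
  have hk' : φ ^ (k % orderOf φ) = T.σ := (pow_mod_orderOf φ k).trans hk
  obtain ⟨L, hL⟩ : ∃ L, L = fieldHom m φ ^ (k % orderOf φ) := ⟨_, rfl⟩
  have hLσ : L.σ = T.σ := by
    rw [hL]
    exact ((map_pow (SemiSim.toσ (Q := hypForm m (zeroKernel F))) _ _).trans hk')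
  obtain ⟨U, hU⟩ : ∃ U, U = T * L⁻¹ := ⟨_, rfl⟩
  have hUσ : U.σ = 1 := by
    rw [hU]
    show T.σ * L.σ.symm = 1
    rw [hLσ]
    exact mul_inv_cancel T.σ
  have hT : psi hG T = psi hG U * psi hG (fieldHom m φ) ^ (k % orderOf φ) :=
    ((congrArg (psi hG) (show T = U * L by rw [hU, inv_mul_cancel_right])).trans
      (map_mul (psi hG) U L)).trans
      (congrArg (psi hG U * ·) ((congrArg (psi hG) hL).trans (map_pow (psi hG) _ _)))
  have hlt : k % orderOf φ < orderOf φ := Nat.mod_lt _ (orderOf_pos φ)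
  have hcases := hcl U.s U.s_ne
  rcases hcases with hs | hs
  · have he := psi_mem_psiO hG hUσ hs
    obtain ⟨g, hg⟩ := he
    exact ⟨g, 0, _, hlt, decomp_zero hT hg⟩
  · have hWσ : (U * (simSemi m c hc)⁻¹).σ = 1 := by
      show U.σ * (1 : F ≃+* F).symm = 1
      rw [hUσ]; rfl
    have he := psi_mem_psiO hG hWσ (by
      show IsSquare (U.s * U.σ ((1 : F ≃+* F).symm c)⁻¹)
      rw [hUσ]; exact hs)
    obtain ⟨g, hg⟩ := he
    exact ⟨g, 1, _, hlt, decomp_one hT (hg.trans (map_mul (psi hG) U _)) (map_inv (psi hG) _)⟩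

/-- The image of the isometries lies in the group generated by two reflection classes. -/
theorem psiO_refl_cases (hm : 3 ≤ m) {c : F} (hc : c ≠ 0)
    (hcl : ∀ d : F, d ≠ 0 → IsSquare d ∨ IsSquare (d * c⁻¹))
    {w : Vm F m (Fin 0 → F)} (hw : hypForm m (zeroKernel F) w ≠ 0) :
    psiO (good_plus (F := F) p hm) (refl _ w) =
        psiO (good_plus (F := F) p hm) (refl _ (uvec m (by omega) 1)) ∨
      psiO (good_plus (F := F) p hm) (refl _ w) =
        psiO (good_plus (F := F) p hm) (refl _ (uvec m (by omega) c)) := by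
  rcases hcl _ hw with h | h
  · exact Or.inl (psiO_refl_eq _ hw (by rw [Q_uvec]; exact one_ne_zero)
      (by rw [Q_uvec, div_one]; exact h))
  · exact Or.inr (psiO_refl_eq _ hw (by rw [Q_uvec]; exact hc)
      (by rw [Q_uvec, div_eq_mul_inv]; exact h))

theorem psi_field_commute (hm : 3 ≤ m) (hφ : ∀ x, φ x = x ^ p) (g : Orth (hypForm m (zeroKernel F))) :
    psi (good_plus (F := F) p hm) (fieldHom m φ) * psiO (good_plus (F := F) p hm) g =
      psiO (good_plus (F := F) p hm) g * psi (good_plus (F := F) p hm) (fieldHom m φ) := by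
  refine psi_commute_psiO _ _ (fun d hd => ?_) g
  rw [fieldHom_s, one_mul, fieldHom_σ, hφ]
  rcases (Fact.out : p.Prime).eq_two_or_odd' with h | ⟨j, hj⟩
  · exact FiniteField.isSquare_of_char_two (by rw [ringChar.eq F p, h]) _
  · rw [hj, pow_succ, mul_div_cancel_right₀ _ hd]
    exact ⟨d ^ j, by rw [two_mul, pow_add]⟩

theorem orderOf_psi_field (hm : 3 ≤ m) (hF : Fintype.card F = p ^ f)
    (hgen : ∀ σ : F ≃+* F, ∃ k : ℕ, φ ^ k = σ) :
    orderOf (psi (good_plus (F := F) p hm) (fieldHom m φ)) = f := by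
  have hG := good_plus (F := F) p hm
  rw [← orderOf_frobenius hF hgen]
  refine Nat.dvd_antisymm (orderOf_dvd_of_pow_eq_one ?_) (orderOf_dvd_of_pow_eq_one ?_)
  · rw [← map_pow, ← map_pow, pow_orderOf_eq_one, map_one, map_one]
  · have h1 : psi hG (fieldHom m (φ ^ orderOf (psi hG (fieldHom m φ)))) = 1 := by
      rw [map_pow, map_pow, pow_orderOf_eq_one]
    exact sigma_of_psi_eq_one hG h1

set_option maxHeartbeats 4000000 in
/-- `Out(PΩ⁺_{2m}(q))`, `q` even, `m ≥ 5`. -/
theorem out_plus_even [CharP F 2] (hF : Fintype.card F = 2 ^ f) (hm : 5 ≤ m) :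
    Nonempty (Cfsg.Out (Cfsg.POmega F (Cfsg.quadFormPlus m F)) ≃*
      Multiplicative (ZMod 2 × ZMod f)) := by
  haveI : Fact (Nat.Prime 2) := ⟨Nat.prime_two⟩
  have hm3 : 3 ≤ m := by omega
  have hG := good_plus (F := F) 2 hm3
  have hcl : ClawHyp (zeroKernel F) m := clawHyp_of_five_le _ hm
  let e := pomegaEquiv (plusEquiv m F) (plusEquiv_spec m) (ndPolar_hypForm hG.hR m)
    (frame (zeroKernel F) hm3)
  suffices Nonempty (Cfsg.Out (POm (hypForm m (zeroKernel F))) ≃*
      Multiplicative (ZMod 2 × ZMod f)) by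
    obtain ⟨i⟩ := this
    exact ⟨(outEquiv e).trans i⟩
  haveI := finite_out_aux m (zeroKernel F)
  obtain ⟨φ, hφ, hgen⟩ := exists_frobenius_gen (F := F) 2
  have hsq : ∀ c : F, IsSquare c := fun c => FiniteField.isSquare_of_char_two (ringChar.eq F 2) c
  obtain ⟨r, hr⟩ : ∃ r, r = psiO hG (refl _ (uvec m (by omega : 0 < m) 1)) := ⟨_, rfl⟩
  obtain ⟨x, hx⟩ : ∃ x, x = psi hG (fieldHom m φ) := ⟨_, rfl⟩
  have hcard : Nat.card (Cfsg.Out (POm (hypForm m (zeroKernel F)))) = 2 * f := by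
    have h1 := card_psi_range_plus 2 f hF hm3 (F := F)
    rw [MonoidHom.range_eq_top.2 (psi_surjective _ hcl), Subgroup.card_top] at h1
    rw [h1, show Nat.gcd 4 (Nat.card F ^ m - 1) = 1 from
      Nat.Coprime.pow_left 2 (Nat.coprime_two_left.2 ?_), mul_one]
    rw [Nat.card_eq_fintype_card, hF, ← pow_mul]
    exact Nat.Even.sub_odd (Nat.one_le_two_pow) ((Nat.even_pow).2 ⟨even_two, by
      refine Nat.mul_ne_zero (fun h0 => ?_) (by omega)
      have h2 := Finite.one_lt_card (α := F)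
      rw [Nat.card_eq_fintype_card, hF, h0] at h2
      omega⟩) odd_one
  have hσx : sigmaOut hG hcl x = φ := hx ▸ sigmaOut_psi hG hcl _
  have hxo : orderOf x = f := hx ▸ orderOf_psi_field 2 f hm3 hF hgen
  have hrr : r * r = 1 := by rw [hr, ← map_mul, refl_mul_self, map_one]
  have hcomm : ∀ g, x * psiO hG g = psiO hG g * x := by rw [hx]; exact psi_field_commute 2 hm3 hφ
  have hrx : Commute r x := by rw [hr]; exact (hcomm _).symm
  have hd : ∀ g ∈ Subgroup.zpowers r, g ∈ Subgroup.zpowers x → g = 1 := by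
    rintro _ ⟨i, rfl⟩ ⟨j, hj⟩
    have hj' : x ^ j = r ^ i := hj
    have h1 := congrArg (sigmaOut hG hcl) hj'
    rw [map_zpow, map_zpow, hσx, hr, sigmaOut_psiO, one_zpow, ← orderOf_dvd_iff_zpow_eq_one,
      orderOf_frobenius hF hgen, ← hxo, orderOf_dvd_iff_zpow_eq_one] at h1
    show r ^ i = 1
    rw [← hj', h1]
  have hgenall : ∀ y, ∃ a ∈ Subgroup.zpowers r, ∃ b ∈ Subgroup.zpowers x, y = a * b := by
    intro y
    have hy := psi_surjective hG hcl y
    obtain ⟨T, rfl⟩ := hy
    have hex := psi_decomp 2 hm3 hgen one_ne_zero (fun d _ => Or.inl (hsq d)) T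
    obtain ⟨g, i, k, -, hT⟩ := hex
    refine ⟨psiO hG g, ?_, x ^ k, Subgroup.pow_mem _ (Subgroup.mem_zpowers x) k, hT.trans ?_⟩
    · exact psiO_mem_of_refl hG _ (fun w hw => by
        rw [psiO_refl_eq hG hw (w := uvec m (by omega : 0 < m) 1)
          (by rw [Q_uvec]; exact one_ne_zero) (hsq _), ← hr]
        exact Subgroup.mem_zpowers r) g
    · have hS : psi hG (simSemi m (1 : F) one_ne_zero) = 1 := by
        rw [show simSemi m (1 : F) one_ne_zero = fieldHom m 1 from rfl, map_one, map_one]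
      rw [hS, one_pow, one_mul, hx]
  have h2 := card_eq_mul_of_complement _ _ hd hgenall
  rw [Nat.card_zpowers x, hxo, hcard] at h2
  have hf0 : 0 < f := hxo ▸ orderOf_pos x
  have hr2 : Nat.card (Subgroup.zpowers r) = 2 := (Nat.eq_of_mul_eq_mul_right hf0 h2).symm
  exact prod_cyclic (Subgroup.zpowers r) (Subgroup.zpowers x) hr2 (by rw [Nat.card_zpowers, hxo])
    (by rintro _ ⟨i, rfl⟩ _ ⟨j, rfl⟩; exact (hrx.zpow_zpow i j).eq) hd hcard.le

set_option maxHeartbeats 4000000 in
/-- `Out(PΩ⁺_{2m}(q))`, `q` odd, `m ≥ 5`. -/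
theorem out_plus_odd (hF : Fintype.card F = p ^ f) (hp : p ≠ 2) (hm : 5 ≤ m) :
    (Nat.gcd 4 (Nat.card F ^ m - 1) = 2 →
      Nonempty (Cfsg.Out (Cfsg.POmega F (Cfsg.quadFormPlus m F)) ≃*
        Multiplicative (ZMod 2 × ZMod 2 × ZMod f))) ∧
    (Nat.gcd 4 (Nat.card F ^ m - 1) = 4 →
      Nonempty (Cfsg.Out (Cfsg.POmega F (Cfsg.quadFormPlus m F)) ≃*
        DihedralGroup 4 × Multiplicative (ZMod f))) := by
  have hm3 : 3 ≤ m := by omega
  have hG := good_plus (F := F) p hm3
  have hcl : ClawHyp (zeroKernel F) m := clawHyp_of_five_le _ hm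
  let e := pomegaEquiv (plusEquiv m F) (plusEquiv_spec m) (ndPolar_hypForm hG.hR m)
    (frame (zeroKernel F) hm3)
  haveI := finite_out_aux m (zeroKernel F)
  have hch : ringChar F ≠ 2 := by rwa [ringChar.eq F p]
  have hneg : (-1 : Fˣ) ≠ 1 := fun h =>
    Ring.neg_one_ne_one_of_char_ne_two hch (congrArg Units.val h)
  obtain ⟨φ, hφ, hgen⟩ := exists_frobenius_gen (F := F) p
  obtain ⟨c, hc⟩ := FiniteField.exists_nonsquare hch
  have hc0 : c ≠ 0 := fun h => hc (h ▸ IsSquare.zero)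
  have hclass : ∀ d : F, d ≠ 0 → IsSquare d ∨ IsSquare (d * c⁻¹) := fun d _ =>
    (em (IsSquare d)).imp id fun h => isSquare_mul_of_not h (by rwa [isSquare_inv])
  obtain ⟨u, hu, hu'⟩ : ∃ u : Vm F m (Fin 0 → F),
      u = uvec m (by omega) 1 ∧ hypForm m (zeroKernel F) u = 1 := ⟨_, rfl, Q_uvec _ _ _⟩
  obtain ⟨r, hr⟩ : ∃ r, r = psiO hG (refl _ u) := ⟨_, rfl⟩
  obtain ⟨r', hr'⟩ : ∃ r', r' = psiO hG (refl _ (uvec m (by omega : 0 < m) c)) := ⟨_, rfl⟩
  obtain ⟨x, hx⟩ : ∃ x, x = psi hG (fieldHom m φ) := ⟨_, rfl⟩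
  obtain ⟨t, ht⟩ : ∃ t, t = psi hG (simSemi m c hc0) := ⟨_, rfl⟩
  have hu0 : hypForm m (zeroKernel F) u ≠ 0 := by rw [hu']; exact one_ne_zero
  have huc : hypForm m (zeroKernel F) (uvec m (by omega) c) ≠ 0 := by rw [Q_uvec]; exact hc0
  have hrr : r * r = 1 := by rw [hr, ← map_mul, refl_mul_self, map_one]
  have hcomm : r * r' = r' * r := by rw [hr, hr']; exact psiO_commute hG _ _
  have hconj : r' = t * r * t⁻¹ := by
    rw [hr', ht, hr, psi_conj_refl]
    refine psiO_refl_eq hG huc ?_ ?_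
    · rw [(simSemi m c hc0).quad, hu']
      simpa [simSemi, liftSemi, zeroSemi] using hc0
    · rw [(simSemi m c hc0).quad, hu', Q_uvec]
      exact ⟨1, by simp [simSemi, liftSemi, zeroSemi, hc0]⟩
  have hrefl : ∀ w, hypForm m (zeroKernel F) w ≠ 0 →
      psiO hG (refl _ w) = r ∨ psiO hG (refl _ w) = r' := fun w hw => by
    rw [hr, hr', hu]; exact psiO_refl_cases p hm3 hc0 hclass hw
  have hn : Even (finrank F (Vm F m (Fin 0 → F))) := by simp [Module.finrank_prod]
  have hdet1 : ∀ g, psiO hG g = 1 → detHom _ g = 1 := fun g => det_of_psiO_eq_one hG hn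
  have hr1 : r ≠ 1 := fun h => hneg ((detHom_refl hu0).symm.trans (hdet1 _ (hr.symm.trans h)))
  have hr'1 : r' ≠ 1 := fun h => hneg ((detHom_refl huc).symm.trans (hdet1 _ (hr'.symm.trans h)))
  have hr'r' : r' * r' = 1 := by rw [hr', ← map_mul, refl_mul_self, map_one]
  have hdet : ∀ g, detHom _ g = 1 → psiO hG g = 1 ∨ psiO hG g = r * r' :=
    fun g => orth_det_one_cases hG.hR hm3 hneg (psiO hG) hrr hr'r' hcomm hrefl
      (fun g hg => psiO_siegel hG hg) g
  obtain ⟨j, hj⟩ : Odd p := (Fact.out : p.Prime).odd_of_ne_two hp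
  have hsq : ∀ (U : SemiSim (hypForm m (zeroKernel F))) (hU : U.σ = 1) (d : F), d ≠ 0 →
      U.s = d * d → detSim _ ⟨U, hU⟩ = d ^ (2 * m) → psi hG U = 1 ∨ psi hG U = r * r' := by
    intro U hU d hd hs hD
    have hex := exists_psiO_of_square hG ⟨U, hU⟩ hd hs
    obtain ⟨g, hg, hgd⟩ := hex
    change psi hG U = psiO hG g at hg
    rw [hg]
    refine hdet g (Units.ext ?_)
    have hfr : finrank F (Vm F m (Fin 0 → F)) = 2 * m := by simp [Module.finrank_prod, two_mul]
    rw [hD, hfr] at hgd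
    exact mul_left_cancel₀ (pow_ne_zero _ hd) (hgd.symm.trans (mul_one _).symm)
  have hSdet : ∀ (d : F) (hd : d ≠ 0) (h1 : (simSemi m d hd).σ = 1),
      detSim _ ⟨simSemi m d hd, h1⟩ = d ^ m := fun d hd h1 => by
    refine (detSim_lift m (zeroSemi 1 d hd) rfl).trans ?_
    rw [LinearMap.det_eq_one_of_subsingleton, mul_one]
    rfl
  have htt : t * t = 1 ∨ t * t = r * r' := by
    have h := hsq (simSemi m c hc0 * simSemi m c hc0) (mul_one (1 : F ≃+* F)) c hc0 rfl
      (((congrArg (detSim (hypForm m (zeroKernel F))) (Subtype.ext rfl)).trans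
        (map_mul (detSim (hypForm m (zeroKernel F))) ⟨simSemi m c hc0, rfl⟩
          ⟨simSemi m c hc0, rfl⟩)).trans
        (by rw [hSdet c hc0 rfl, ← pow_add, two_mul]))
    rw [ht]
    rwa [map_mul] at h
  obtain ⟨w, hw, hxt⟩ : ∃ w, (w = 1 ∨ w = r * r') ∧ x * t = w * t * x := by
    have hd : c ^ j ≠ 0 := pow_ne_zero _ hc0
    have hφc : φ c = c ^ j * c ^ j * c := by rw [hφ, hj, pow_succ, two_mul, pow_add]
    refine ⟨psi hG (simSemi m (c ^ j * c ^ j) (mul_ne_zero hd hd)),
      hsq _ rfl (c ^ j) hd rfl ?_, ?_⟩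
    · exact (hSdet _ _ _).trans (by rw [pow_mul, pow_two])
    · rw [hx, ht, ← map_mul, ← map_mul, ← map_mul]
      refine congrArg (psi hG) (SemiSim.ext' ?_ ?_ fun z => ?_)
      · show φ * (1 : F ≃+* F) = 1 * 1 * φ
        rw [mul_one, one_mul, one_mul]
      · show (1 : F) * φ c = c ^ j * c ^ j * (1 : F ≃+* F) c * (1 * 1 : F ≃+* F) 1
        rw [hφc, one_mul, map_one, mul_one]; rfl
      · refine Prod.ext (Prod.ext rfl (funext fun i => ?_)) (Subsingleton.elim _ _)
        show (1 : F) * φ (c * z.1.2 i) = c ^ j * c ^ j * (c * (1 * φ (z.1.2 i)))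
        rw [_root_.map_mul, hφc]; ring
  have hσx : sigmaOut hG hcl x = φ := by rw [hx, sigmaOut_psi]; rfl
  have hσt : sigmaOut hG hcl t = 1 := by rw [ht, sigmaOut_psi]; rfl
  have hσr : sigmaOut hG hcl r = 1 := by rw [hr, sigmaOut_psiO]
  have hεx : signOut hG hcl x = 1 := by rw [hx]; exact (signOut_psi hG hcl _).2 IsSquare.one
  have hεt : signOut hG hcl t ≠ 1 := fun h => hc ((signOut_psi hG hcl _).1 (by rwa [ht] at h))
  have hεr : signOut hG hcl r = 1 := by rw [hr, signOut_psiO]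
  have hxo : orderOf x = f := by rw [hx]; exact orderOf_psi_field p f hm3 hF hgen
  have hf0 : 0 < f := hxo ▸ orderOf_pos x
  have hxf : x ^ f = 1 := hxo ▸ pow_orderOf_eq_one x
  have hordσ : orderOf (sigmaOut hG hcl x) = f := by rw [hσx, orderOf_frobenius hF hgen]
  have hxcomm : ∀ g, x * psiO hG g = psiO hG g * x := by
    rw [hx]; exact psi_field_commute p hm3 hφ
  have hxr : Commute x r := by rw [hr]; exact hxcomm _
  have hxr' : Commute x r' := by rw [hr']; exact hxcomm _
  have hall : ∀ y, ∃ n ∈ (psiO hG).range, ∃ (i : Fin 2) (k : Fin f),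
      y = n * (t ^ (i : ℕ) * x ^ (k : ℕ)) := fun y => by
    have hy := psi_surjective hG hcl y
    obtain ⟨S, rfl⟩ := hy
    have hex := psi_decomp p hm3 hgen hc0 hclass S
    obtain ⟨g, i, k, hk, hS⟩ := hex
    rw [orderOf_frobenius hF hgen] at hk
    exact ⟨_, ⟨g, rfl⟩, i, ⟨k, hk⟩, by rw [ht, hx]; exact hS⟩
  have hcN := card_of_decomposition (psiO hG).range (sigmaOut hG hcl) (signOut hG hcl)
    (by rintro _ ⟨g, rfl⟩; exact sigmaOut_psiO hG hcl g)
    (by rintro _ ⟨g, rfl⟩; exact signOut_psiO hG hcl g) hσt hordσ hεx hεt hall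
  have hcard : Nat.card (Cfsg.Out (POm (hypForm m (zeroKernel F)))) =
      2 * Nat.gcd 4 (Nat.card F ^ m - 1) * f := by
    have h1 := card_psi_range_plus p f hF hm3 (F := F)
    rwa [MonoidHom.range_eq_top.2 (psi_surjective _ hcl), Subgroup.card_top] at h1
  have hN : Nat.card (psiO hG).range = Nat.gcd 4 (Nat.card F ^ m - 1) := by
    rw [hcard] at hcN
    refine Nat.eq_of_mul_eq_mul_right hf0 (Nat.eq_of_mul_eq_mul_left two_pos ?_)
    linarith
  refine ⟨fun h2 => ?_, fun h4 => ?_⟩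
  · rw [h2] at hN hcard
    have heq : r' = r := by
      rw [Nat.card_eq_two_iff' (1 : (psiO hG).range)] at hN
      exact congrArg Subtype.val (hN.unique (y₁ := ⟨r', _, hr'.symm⟩) (y₂ := ⟨r, _, hr.symm⟩)
        (fun h => hr'1 (congrArg Subtype.val h)) (fun h => hr1 (congrArg Subtype.val h)))
    rw [heq, hrr] at htt hw
    rw [hw.elim id id, one_mul] at hxt
    have hN' : ∀ g, ∃ j : ℤ, psiO hG g = r ^ j := fun g => by
      have := psiO_mem_of_refl hG (Subgroup.zpowers r) (fun w hw' => by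
        rcases hrefl w hw' with h' | h' <;> rw [h'] <;> simp [heq]) g
      obtain ⟨j, hj⟩ := this
      exact ⟨j, hj.symm⟩
    have htr : Commute t r := by
      show t * r = r * t
      have h' := hconj
      rw [heq, eq_mul_inv_iff_mul_eq] at h'
      exact h'.symm
    obtain ⟨i⟩ := abstract_klein_times (sigmaOut hG hcl) (signOut hG hcl) hordσ hxf hσr hεr hεx hεt
      hr1 hrr (htt.elim id id) htr hxt.symm hxr.symm (fun y => by
        obtain ⟨_, ⟨g, rfl⟩, i, k, rfl⟩ := hall y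
        obtain ⟨j, hj⟩ := hN' g
        exact ⟨(i : ℕ), j, (k : ℕ), by
          rw [hj, zpow_natCast, zpow_natCast, ← mul_assoc,
            (htr.pow_left (i : ℕ)).symm.zpow_left j |>.eq, mul_assoc]⟩)
      (by omega)
    exact ⟨(outEquiv e).trans i⟩
  · rw [h4] at hN hcard
    have hne : r' ≠ r := by
      intro h
      have hle : (psiO hG).range ≤ Subgroup.zpowers r := by
        rintro _ ⟨g, rfl⟩
        refine psiO_mem_of_refl hG _ (fun w hw' => ?_) g
        rcases hrefl w hw' with h' | h' <;> rw [h'] <;> simp [h]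
      have hcle := Subgroup.card_le_of_le hle
      rw [Nat.card_zpowers, orderOf_eq_prime (by rw [pow_two, hrr]) hr1, hN] at hcle
      omega
    have hy := exists_commuting_lift (sigmaOut hG hcl) hrr hr'r' hcomm hconj hne hσr hxf hxr hxr'
      hw hxt
    obtain ⟨y, hyf, hσy', hyr, hyt⟩ := hy
    have hσy : sigmaOut hG hcl y = φ := hσy'.trans hσx
    obtain ⟨i⟩ := abstract_dihedral_times (sigmaOut hG hcl)
      (show orderOf (sigmaOut hG hcl y) = f by rw [hσy, orderOf_frobenius hF hgen]) hyf hσr hσt hrr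
      hcomm hconj hne htt hyr hyt (by omega)
    exact ⟨(outEquiv e).trans i⟩

end CfsgLib.AutPOmega
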