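import Mathlib
import Cfsg.Agent.Lib.AutPOmega.OutPlus

/-!
An automorphism of the eight-dimensional plus type group either preserves the singular points or maps
all stars of points to stars of solids, and the semisimilarities have index at most three.
-/

set_option autoImplicit false
set_option maxHeartbeats 800000

namespace CfsgLib.AutPOmega

open QuadraticMap Module CfsgLib.Classical.Quad
open scoped commutatorElement

variable {F : Type*} [Field F]

/-- Two lines meeting in a point and not orthogonal. -/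
def Bent (L M : Ln (Q8 F)) : Prop := Meet L.1 M.1 ∧ ¬ Perp (Q8 F) L.1 M.1

/-- Two skew orthogonal lines. -/
def Disj (L M : Ln (Q8 F)) : Prop := Perp (Q8 F) L.1 M.1 ∧ ¬ Meet L.1 M.1

/-- The set of lines attached to a pair in terms of the two incidences. -/
def SS (L M : Ln (Q8 F)) : Set (Ln (Q8 F)) :=
  {K | CC K L ∧ CC K M ∧ ∀ N, AA N L → AA N M → CC K N}

theorem meet_self (L : Ln (Q8 F)) : Meet L.1 L.1 := by
  obtain ⟨u, w, hind, -, -, -, hs⟩ := id L.2
  exact ⟨u, hind.ne_zero 0, hs ▸ Submodule.subset_span (Set.mem_insert _ _),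
    hs ▸ Submodule.subset_span (Set.mem_insert _ _)⟩

theorem perp_line (L : Ln (Q8 F)) : Perp (Q8 F) L.1 L.1 := fun _ hx _ hy => L.2.perp hx hy

theorem cc_pair_iff (L M : Ln (Q8 F)) :
    (CC L M ∧ L ≠ M ∧ ¬ AA L M) ↔ Bent L M ∨ Disj L M := by
  constructor
  · rintro ⟨h | h, hne, hA⟩
    · exact Or.inl ⟨h, fun hp => hA ⟨hne, h, hp⟩⟩
    · exact Or.inr ⟨h, fun hm => hA ⟨hne, hm, h⟩⟩
  · rintro (⟨h, hp⟩ | ⟨h, hm⟩)
    · exact ⟨Or.inl h, fun he => hp (he ▸ perp_line L), fun hA => hp hA.2.2⟩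
    · exact ⟨Or.inr h, fun he => hm (he ▸ meet_self L), fun hA => hm hA.2.1⟩

variable {τ : LinePerm (Q8 F)}

theorem bent_or_disj_map {L M : Ln (Q8 F)} (h : Bent L M ∨ Disj L M) :
    Bent (τ.π L) (τ.π M) ∨ Disj (τ.π L) (τ.π M) := by
  rw [← cc_pair_iff] at h ⊢
  rw [τ.cc, τ.aa, τ.π.injective.ne_iff]
  exact h

theorem SS_map (τ : LinePerm (Q8 F)) (L M K : Ln (Q8 F)) :
    τ.π K ∈ SS (τ.π L) (τ.π M) ↔ K ∈ SS L M := by
  simp only [SS, Set.mem_setOf_eq, τ.cc]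
  refine and_congr_right fun _ => and_congr_right fun _ => ⟨fun h N h1 h2 => ?_, fun h N h1 h2 => ?_⟩
  · exact (τ.cc K N).1 (h (τ.π N) ((τ.aa N L).2 h1) ((τ.aa N M).2 h2))
  · obtain ⟨N, rfl⟩ := τ.π.surjective N
    exact (τ.cc K N).2 (h N ((τ.aa N L).1 h1) ((τ.aa N M).1 h2))

/-- The set of a bent pair is the star of its point. -/
theorem SS_bent {L M : Ln (Q8 F)} {x a b : V8 F} (hx0 : x ≠ 0) (hxL : x ∈ L.1) (hxM : x ∈ M.1)
    (hLs : L.1 = Submodule.span F {x, a}) (hMs : M.1 = Submodule.span F {x, b})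
    (hab : polar (Q8 F) a b = 1) (K : Ln (Q8 F)) : K ∈ SS L M ↔ x ∈ K.1 := by
  constructor
  swap
  · intro h
    refine ⟨Or.inl ⟨x, hx0, h, hxL⟩, Or.inl ⟨x, hx0, h, hxM⟩, fun N hL hM => Or.inl ⟨x, hx0, h, ?_⟩⟩
    exact (mem_iff_meet_bent hx0 hxL hxM hLs hMs hab N).2 ⟨hL.2.1, hM.2.1⟩
  rintro ⟨h1, h2, h3⟩
  by_contra hxK
  have hkey := mem_iff_meet_bent hx0 hxL hxM hLs hMs hab K
  have haL : a ∈ L.1 := hLs ▸ Submodule.subset_span (Set.mem_insert_of_mem _ rfl)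
  have hbM : b ∈ M.1 := hMs ▸ Submodule.subset_span (Set.mem_insert_of_mem _ rfl)
  have hba : polar (Q8 F) b a = 1 := by rw [polar_comm]; exact hab
  have hax : polar (Q8 F) a x = 0 := L.2.perp haL hxL
  have hbx : polar (Q8 F) b x = 0 := M.2.perp hbM hxM
  have hperpL : Perp (Q8 F) K.1 L.1 := by
    rcases h1 with hm | hp
    swap; · exact hp
    rcases h2 with hm' | hp'
    · exact absurd (hkey.2 ⟨hm, hm'⟩) hxK
    obtain ⟨z, hz0, hzK, hzL⟩ := hm
    rw [hLs] at hzL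
    obtain ⟨s, t, hz⟩ := Submodule.mem_span_pair.1 hzL
    have h0 := hp' z hzK b hbM
    rw [← hz] at h0
    have ht : t = 0 := by simpa [M.2.perp hxM hbM, hab] using h0
    have hs : s ≠ 0 := fun hs => hz0 (by rw [← hz, hs, ht]; simp)
    refine absurd ?_ hxK
    rw [show x = s⁻¹ • z by rw [← hz, ht, zero_smul, add_zero, smul_smul, inv_mul_cancel₀ hs,
      one_smul]]
    exact K.1.smul_mem _ hzK
  have hperpM : Perp (Q8 F) K.1 M.1 := by
    rcases h2 with hm | hp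
    swap; · exact hp
    obtain ⟨z, hz0, hzK, hzM⟩ := hm
    rw [hMs] at hzM
    obtain ⟨s, t, hz⟩ := Submodule.mem_span_pair.1 hzM
    have h0 := hperpL z hzK a haL
    rw [← hz] at h0
    have ht : t = 0 := by simpa [L.2.perp hxL haL, hba] using h0
    have hs : s ≠ 0 := fun hs => hz0 (by rw [← hz, hs, ht]; simp)
    refine absurd ?_ hxK
    rw [show x = s⁻¹ • z by rw [← hz, ht, zero_smul, add_zero, smul_smul, inv_mul_cancel₀ hs,
      one_smul]]
    exact K.1.smul_mem _ hzK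
  obtain ⟨g, hgi, hgj, hgf⟩ := exists_orth_bent (F := F) (R := zeroKernel F) ndPolar_zeroKernel
    (i := (0 : Fin 4)) (j := 1) (by decide) hx0 (L.2.sing hxL) (L.2.sing haL) (M.2.sing hbM)
    (L.2.perp hxL haL) (M.2.perp hxM hbM) hab
  -- the four common neighbours
  have hN : ∀ w : V8 F, Q8 F w = 0 → w.1.1 0 = 0 → w.1.2 0 = 0 → w.1.1 1 = 0 → w.1.2 1 = 0 →
      w ≠ 0 → (∀ y ∈ K.1, polar (Q8 F) y (g.1 w) = 0) ∨
        ∃ α β : F, β ≠ 0 ∧ α • x + β • g.1 w ∈ K.1 := by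
    intro w hw hw1 hw2 hw3 hw4 hw0
    have hwi : polar (Q8 F) (ee (0 : Fin 4)) w = 0 := by rw [polar_ee_left, hw2]
    have hind : LinearIndependent F ![x, g.1 w] := by
      rw [← hgi, LinearIndependent.pair_iff]
      intro r s h
      have h' : r • ee (0 : Fin 4) + s • w = 0 := g.1.injective (by simpa using h)
      have hr : r = 0 := by simpa [hw1] using congrArg (fun z : V8 F => z.1.1 0) h'
      rw [hr, zero_smul, zero_add, smul_eq_zero] at h'
      exact ⟨hr, h'.resolve_right hw0⟩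
    let N : Ln (Q8 F) := ⟨_, isLine_span hind (L.2.sing hxL) (by rw [orth_Q, hw])
      (by rw [← hgi, orth_polar]; exact hwi)⟩
    have hxN : x ∈ N.1 := Submodule.subset_span (Set.mem_insert _ _)
    have hwN : g.1 w ∈ N.1 := Submodule.subset_span (Set.mem_insert_of_mem _ rfl)
    have hwa : polar (Q8 F) (g.1 w) a = 0 := by
      rw [← hgj, orth_polar, polar_ee_right, hw4]
    have hwb : polar (Q8 F) (g.1 w) b = 0 := by
      rw [← hgf, orth_polar, polar_ff_right, hw3]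
    have hwx : polar (Q8 F) (g.1 w) x = 0 := N.2.perp hwN hxN
    have hNL : AA N L := by
      refine ⟨fun he => ?_, ⟨x, hx0, hxN, hxL⟩, ?_⟩
      · have hm : g.1 w ∈ L.1 := he ▸ hwN
        rw [hLs, ← hgi, ← hgj] at hm
        obtain ⟨r, s, hrs⟩ := Submodule.mem_span_pair.1 hm
        have h' : r • ee (0 : Fin 4) + s • ee 1 = w := g.1.injective (by simpa using hrs)
        have hr : r = 0 := by simpa [hw1] using congrArg (fun z : V8 F => z.1.1 0) h'
        have hs : s = 0 := by simpa [hw3] using congrArg (fun z : V8 F => z.1.1 1) h'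
        exact hw0 (by rw [← h', hr, hs]; simp)
      · show Perp (Q8 F) (Submodule.span F {x, g.1 w}) L.1
        rw [hLs]
        refine perp_span ?_
        rintro y (rfl | rfl) z (rfl | rfl)
        · exact polar_singular_self (L.2.sing hxL)
        · exact L.2.perp hxL haL
        · exact hwx
        · exact hwa
    have hNM : AA N M := by
      refine ⟨fun he => ?_, ⟨x, hx0, hxN, hxM⟩, ?_⟩
      · have hm : g.1 w ∈ M.1 := he ▸ hwN
        rw [hMs, ← hgi, ← hgf] at hm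
        obtain ⟨r, s, hrs⟩ := Submodule.mem_span_pair.1 hm
        have h' : r • ee (0 : Fin 4) + s • ff 1 = w := g.1.injective (by simpa using hrs)
        have hr : r = 0 := by simpa [hw1] using congrArg (fun z : V8 F => z.1.1 0) h'
        have hs : s = 0 := by simpa [hw4] using congrArg (fun z : V8 F => z.1.2 1) h'
        exact hw0 (by rw [← h', hr, hs]; simp)
      · show Perp (Q8 F) (Submodule.span F {x, g.1 w}) M.1
        rw [hMs]
        refine perp_span ?_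
        rintro y (rfl | rfl) z (rfl | rfl)
        · exact polar_singular_self (L.2.sing hxL)
        · exact M.2.perp hxM hbM
        · exact hwx
        · exact hwb
    rcases h3 N hNL hNM with hm | hp
    · obtain ⟨z, hz0, hzK, hzN⟩ := hm
      obtain ⟨α, β, hz⟩ := Submodule.mem_span_pair.1 hzN
      refine Or.inr ⟨α, β, fun hβ => ?_, hz ▸ hzK⟩
      have hα : α ≠ 0 := fun hα => hz0 (by rw [← hz, hα, hβ]; simp)
      refine hxK ?_
      rw [show x = α⁻¹ • z by rw [← hz, hβ, zero_smul, add_zero, smul_smul, inv_mul_cancel₀ hα,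
        one_smul]]
      exact K.1.smul_mem _ hzK
    · exact Or.inl fun y hy => hp y hy _ hwN
  have hxy : ∀ w : V8 F, w.1.1 0 = 0 → w.1.2 0 = 0 → polar (Q8 F) x (g.1 w) = 0 := fun w h1 h2 => by
    rw [← hgi, orth_polar, polar_ee_left, h2]
  -- each hyperbolic pair of neighbours is orthogonal to `K`
  have hpair : ∀ l : Fin 4, l ≠ 0 → l ≠ 1 →
      (∀ y ∈ K.1, polar (Q8 F) y (g.1 (ee l)) = 0) ∧ ∀ y ∈ K.1, polar (Q8 F) y (g.1 (ff l)) = 0 := by
    intro l hl0 hl1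
    have he := hN (ee l) (Q_ee l) (by simp [Ne.symm hl0]) (by simp) (by simp [Ne.symm hl1]) (by simp)
      (ee_ne_zero l)
    have hf := hN (ff l) (Q_ff l) (by simp) (by simp [Ne.symm hl0]) (by simp) (by simp [Ne.symm hl1])
      (ff_ne_zero l)
    have hxe := hxy (ee l) (by simp [Ne.symm hl0]) (by simp)
    have hxf := hxy (ff l) (by simp) (by simp [Ne.symm hl0])
    have hex : polar (Q8 F) (g.1 (ee l)) x = 0 := by rw [polar_comm]; exact hxe
    have hfx : polar (Q8 F) (g.1 (ff l)) x = 0 := by rw [polar_comm]; exact hxf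
    have hef : polar (Q8 F) (g.1 (ee l)) (g.1 (ff l)) = 1 := by
      rw [orth_polar, polar_ff_right]; simp
    have hfe : polar (Q8 F) (g.1 (ff l)) (g.1 (ee l)) = 1 := by rw [polar_comm]; exact hef
    rcases he with he | ⟨α, β, hβ, hp⟩ <;> rcases hf with hf | ⟨α', β', hβ', hp'⟩
    · exact ⟨he, hf⟩
    · exact absurd (by simpa [hxe, hfe] using he _ hp') hβ'
    · exact absurd (by simpa [hxf, hef] using hf _ hp) hβ
    · have h0 := K.2.perp hp hp'
      simp [polar_singular_self (L.2.sing hxL), hxf, hex, hef] at h0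
      exact (h0.elim (absurd · hβ') (absurd · hβ))
  obtain ⟨u, w, hind, hu, hw, huw, hKs⟩ := id K.2
  have hmemK : ∀ y ∈ K.1, ∃ c : F, y = c • x := by
    intro y hy
    obtain ⟨z, rfl⟩ := g.1.surjective y
    have e0 := hperpL _ hy _ hxL
    have e1 := hperpL _ hy _ haL
    have f1 := hperpM _ hy _ hbM
    rw [← hgi, orth_polar, polar_ee_right] at e0
    rw [← hgj, orth_polar, polar_ee_right] at e1
    rw [← hgf, orth_polar, polar_ff_right] at f1
    obtain ⟨e2, f2⟩ := hpair 2 (by decide) (by decide)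
    obtain ⟨e3, f3⟩ := hpair 3 (by decide) (by decide)
    have e2' := e2 _ hy
    have f2' := f2 _ hy
    have e3' := e3 _ hy
    have f3' := f3 _ hy
    rw [orth_polar, polar_ee_right] at e2' e3'
    rw [orth_polar, polar_ff_right] at f2' f3'
    refine ⟨z.1.1 0, ?_⟩
    rw [← hgi, ← map_smul]
    congr 1
    apply v8_ext <;> simp [e0, e1, f1, e2', f2', e3', f3']
  obtain ⟨c, hc⟩ := hmemK u (hKs ▸ Submodule.subset_span (Set.mem_insert _ _))
  refine hxK ?_
  have hc0 : c ≠ 0 := fun h => hind.ne_zero 0 (by simp [hc, h])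
  rw [show x = c⁻¹ • u by rw [hc, smul_smul, inv_mul_cancel₀ hc0, one_smul], hKs]
  exact Submodule.smul_mem _ _ (Submodule.subset_span (Set.mem_insert _ _))

/-- A solid spanned by skew orthogonal lines. -/
theorem finrank_sup_disj {L M : Ln (Q8 F)} (h : Disj L M) :
    finrank F ↥(L.1 ⊔ M.1) = 4 ∧ ∀ y ∈ L.1 ⊔ M.1, Q8 F y = 0 := by
  constructor
  · have hinf : L.1 ⊓ M.1 = ⊥ := by
      rw [Submodule.eq_bot_iff]
      intro y hy
      by_contra hy0
      exact h.2 ⟨y, hy0, hy.1, hy.2⟩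
    have h1 := Submodule.finrank_sup_add_finrank_inf_eq L.1 M.1
    rw [hinf, finrank_bot, L.2.finrank_eq, M.2.finrank_eq] at h1
    omega
  · intro y hy
    obtain ⟨l, hl, m, hm, rfl⟩ := Submodule.mem_sup.1 hy
    rw [QuadraticMap.map_add (Q8 F), L.2.sing hl, M.2.sing hm, h.1 l hl m hm, add_zero, add_zero]

theorem le_of_perp_solid {U : Submodule F (V8 F)} (hU : finrank F U = 4)
    (hUs : ∀ y ∈ U, Q8 F y = 0) (K : Ln (Q8 F)) (hp : ∀ k ∈ K.1, ∀ y ∈ U, polar (Q8 F) k y = 0) :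
    K.1 ≤ U := by
  have hs : ∀ y ∈ K.1 ⊔ U, Q8 F y = 0 := fun y hy => by
    obtain ⟨k, hk, u, hu, rfl⟩ := Submodule.mem_sup.1 hy
    rw [QuadraticMap.map_add (Q8 F), K.2.sing hk, hUs u hu, hp k hk u hu, add_zero, add_zero]
  have h1 := finrank_le_of_totally_singular (R := zeroKernel F) (fun _ _ => Subsingleton.elim _ _)
    (K.1 ⊔ U) hs
  have h2 : U = K.1 ⊔ U := Submodule.eq_of_le_of_finrank_le le_sup_right (le_of_le_of_eq h1 hU.symm)
  rw [h2]
  exact le_sup_left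

/-- The set of a skew orthogonal pair is the star of its solid. -/
theorem SS_disj {L M : Ln (Q8 F)} (h : Disj L M) (K : Ln (Q8 F)) :
    K ∈ SS L M ↔ K.1 ≤ L.1 ⊔ M.1 := by
  obtain ⟨hfr, hs⟩ := finrank_sup_disj h
  have hperpU : ∀ y ∈ L.1 ⊔ M.1, ∀ z ∈ L.1 ⊔ M.1, polar (Q8 F) y z = 0 := fun y hy z hz => by
    simp [QuadraticMap.polar, hs _ hy, hs _ hz, hs _ (Submodule.add_mem _ hy hz)]
  constructor
  swap
  · intro hK
    refine ⟨Or.inr fun y hy z hz => hperpU y (hK hy) z (Submodule.mem_sup_left hz),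
      Or.inr fun y hy z hz => hperpU y (hK hy) z (Submodule.mem_sup_right hz),
      fun N hL hM => Or.inr fun y hy z hz => ?_⟩
    obtain ⟨l, hl0, hlN, hlL⟩ := hL.2.1
    obtain ⟨m, hm0, hmN, hmM⟩ := hM.2.1
    have hind : LinearIndependent F ![l, m] := by
      rw [LinearIndependent.pair_iff' hl0]
      intro r hr
      exact h.2 ⟨m, hm0, hr ▸ L.1.smul_mem r hlL, hmM⟩
    rw [N.2.eq_span hlN hmN hind] at hz
    obtain ⟨s, t, rfl⟩ := Submodule.mem_span_pair.1 hz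
    exact hperpU y (hK hy) _ (Submodule.add_mem _ (Submodule.smul_mem _ _ (Submodule.mem_sup_left hlL))
      (Submodule.smul_mem _ _ (Submodule.mem_sup_right hmM)))
  rintro ⟨h1, h2, h3⟩
  -- a transversal
  have htrans : ∀ l ∈ L.1, ∀ m ∈ M.1, l ≠ 0 → m ≠ 0 →
      Perp (Q8 F) K.1 (Submodule.span F {l, m}) ∨
        Meet K.1 (Submodule.span F {l, m}) := by
    intro l hl m hm hl0 hm0
    have hind : LinearIndependent F ![l, m] := by
      rw [LinearIndependent.pair_iff' hl0]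
      intro r hr
      exact h.2 ⟨m, hm0, hr ▸ L.1.smul_mem r hl, hm⟩
    let N : Ln (Q8 F) := ⟨_, isLine_span hind (L.2.sing hl) (M.2.sing hm) (h.1 l hl m hm)⟩
    have hlN : l ∈ N.1 := Submodule.subset_span (Set.mem_insert _ _)
    have hmN : m ∈ N.1 := Submodule.subset_span (Set.mem_insert_of_mem _ rfl)
    have hle : N.1 ≤ L.1 ⊔ M.1 := by
      show Submodule.span F {l, m} ≤ _
      rw [Submodule.span_le]
      rintro z (rfl | rfl)
      · exact Submodule.mem_sup_left hl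
      · exact Submodule.mem_sup_right hm
    have hNL : AA N L := ⟨fun he => h.2 ⟨m, hm0, he ▸ hmN, hm⟩, ⟨l, hl0, hlN, hl⟩,
      fun y hy z hz => hperpU y (hle hy) z (Submodule.mem_sup_left hz)⟩
    have hNM : AA N M := ⟨fun he => h.2 ⟨l, hl0, hl, he ▸ hlN⟩, ⟨m, hm0, hmN, hm⟩,
      fun y hy z hz => hperpU y (hle hy) z (Submodule.mem_sup_right hz)⟩
    exact (h3 N hNL hNM).symm
  -- `K` meets one line and is orthogonal to the other
  have hone : ∀ L' M' : Ln (Q8 F), L'.1 ≤ L.1 ⊔ M.1 → M'.1 ≤ L.1 ⊔ M.1 → ¬ Meet L'.1 M'.1 →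
      L'.1 ⊔ M'.1 = L.1 ⊔ M.1 →
      (∀ l ∈ L'.1, ∀ m ∈ M'.1, l ≠ 0 → m ≠ 0 → Perp (Q8 F) K.1 (Submodule.span F {l, m}) ∨
        Meet K.1 (Submodule.span F {l, m})) →
      Meet K.1 L'.1 → Perp (Q8 F) K.1 M'.1 → K.1 ≤ L.1 ⊔ M.1 := by
    intro L' M' hL' hM' hskew hsup htr ⟨z, hz0, hzK, hzL⟩ hpM
    obtain ⟨l, hlL, hindl, hLs⟩ := L'.2.exists_partner hzL hz0
    obtain ⟨k, hkK, hindk, hKs⟩ := K.2.exists_partner hzK hz0
    obtain ⟨m, hmind, hm0⟩ : ∃ m, m ∈ M'.1 ∧ m ≠ 0 := by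
      obtain ⟨u, w, hind, -, -, -, hs⟩ := id M'.2
      exact ⟨u, hs ▸ Submodule.subset_span (Set.mem_insert _ _), hind.ne_zero 0⟩
    rcases htr l hlL m hmind (hindl.ne_zero 1) hm0 with hp | ⟨y, hy0, hyK, hyN⟩
    · refine le_of_perp_solid hfr hs K fun k' hk' y hy => ?_
      rw [← hsup] at hy
      obtain ⟨a, ha, b, hb, rfl⟩ := Submodule.mem_sup.1 hy
      rw [polar_add_right, hpM k' hk' b hb, add_zero]
      rw [hLs] at ha
      obtain ⟨s, t, rfl⟩ := Submodule.mem_span_pair.1 ha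
      rw [polar_add_right, polar_smul_right, polar_smul_right, K.2.perp hk' hzK,
        hp k' hk' l (Submodule.subset_span (Set.mem_insert _ _)), smul_zero, smul_zero, add_zero]
    · obtain ⟨α, β, hy⟩ := Submodule.mem_span_pair.1 hyN
      rw [hKs] at hyK
      obtain ⟨γ, δ, hy'⟩ := Submodule.mem_span_pair.1 hyK
      have hyU : y ∈ L.1 ⊔ M.1 :=
        hy ▸ Submodule.add_mem _ (Submodule.smul_mem _ _ (hL' hlL)) (Submodule.smul_mem _ _ (hM' hmind))
      have hδ : δ ≠ 0 := fun hδ => by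
        rw [hδ, zero_smul, add_zero] at hy'
        have hβ : β • m = 0 := by
          by_contra hne
          refine hskew ⟨β • m, hne, ?_, M'.1.smul_mem _ hmind⟩
          rw [show β • m = γ • z - α • l by rw [hy', ← hy]; abel]
          exact L'.1.sub_mem (L'.1.smul_mem _ hzL) (L'.1.smul_mem _ hlL)
        rw [hβ, add_zero] at hy
        obtain ⟨hγ, -⟩ := LinearIndependent.pair_iff.1 hindl γ (-α) (by
          rw [neg_smul, hy', hy, add_neg_cancel])
        exact hy0 (by rw [← hy', hγ, zero_smul])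
      rw [hKs, Submodule.span_le]
      rintro v (rfl | rfl)
      · exact hL' hzL
      · rw [SetLike.mem_coe, ← Submodule.smul_mem_iff _ hδ,
          show δ • v = y - γ • z by rw [← hy']; abel]
        exact Submodule.sub_mem _ hyU (Submodule.smul_mem _ _ (hL' hzL))
  rcases h1 with hm1 | hp1 <;> rcases h2 with hm2 | hp2
  · obtain ⟨z, hz0, hzK, hzL⟩ := hm1
    obtain ⟨z', hz'0, hz'K, hz'M⟩ := hm2
    have hind : LinearIndependent F ![z, z'] := by
      rw [LinearIndependent.pair_iff' hz0]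
      intro r hr
      exact h.2 ⟨z', hz'0, hr ▸ L.1.smul_mem r hzL, hz'M⟩
    rw [K.2.eq_span hzK hz'K hind, Submodule.span_le]
    rintro v (rfl | rfl)
    · exact Submodule.mem_sup_left hzL
    · exact Submodule.mem_sup_right hz'M
  · exact hone L M le_sup_left le_sup_right h.2 rfl htrans hm1 hp2
  · refine hone M L le_sup_right le_sup_left (fun ⟨z, a, b, c⟩ => h.2 ⟨z, a, c, b⟩) (sup_comm _ _)
      (fun m hm l hl h1 h2 => ?_) hm2 hp1
    rw [Set.pair_comm]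
    exact htrans l hl m hm h2 h1
  · refine le_of_perp_solid hfr hs K fun k hk y hy => ?_
    obtain ⟨a, ha, b, hb, rfl⟩ := Submodule.mem_sup.1 hy
    rw [polar_add_right, hp1 k hk a ha, hp2 k hk b hb, add_zero]

/-- A point and a solid have none or several common lines. -/
theorem two_lines {L M : Ln (Q8 F)} (h : Disj L M) {x : V8 F} (hx0 : x ≠ 0)
    (hx : x ∈ L.1 ⊔ M.1) :
    ∃ K K' : Ln (Q8 F), K ≠ K' ∧ x ∈ K.1 ∧ x ∈ K'.1 ∧ K.1 ≤ L.1 ⊔ M.1 ∧ K'.1 ≤ L.1 ⊔ M.1 := by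
  obtain ⟨-, hs⟩ := finrank_sup_disj h
  have mk : ∀ e ∈ L.1 ⊔ M.1, LinearIndependent F ![x, e] →
      ∃ K : Ln (Q8 F), x ∈ K.1 ∧ e ∈ K.1 ∧ K.1 = Submodule.span F {x, e} ∧ K.1 ≤ L.1 ⊔ M.1 := by
    intro e he hind
    refine ⟨⟨_, isLine_span hind (hs x hx) (hs e he) ?_⟩, Submodule.subset_span (Set.mem_insert _ _),
      Submodule.subset_span (Set.mem_insert_of_mem _ rfl), rfl, ?_⟩
    · simp [QuadraticMap.polar, hs _ he, hs _ hx, hs _ (Submodule.add_mem _ hx he)]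
    · show Submodule.span F {x, e} ≤ _
      rw [Submodule.span_le]
      rintro z (rfl | rfl)
      · exact hx
      · exact he
  obtain ⟨l, hl, m, hm, rfl⟩ := Submodule.mem_sup.1 hx
  have hsplit : ∀ a ∈ L.1, ∀ b ∈ M.1, a + b = 0 → a = 0 ∧ b = 0 := fun a ha b hb hab => by
    have hb' : b ∈ L.1 := by
      rw [eq_neg_of_add_eq_zero_right hab]; exact L.1.neg_mem ha
    have hb0 : b = 0 := by
      by_contra hb0
      exact h.2 ⟨b, hb0, hb', hb⟩
    exact ⟨by rwa [hb0, add_zero] at hab, hb0⟩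
  have hind1 : ∀ e ∈ L.1, e ≠ 0 → m ≠ 0 → LinearIndependent F ![l + m, e] := by
    intro e he he0 hm0
    rw [LinearIndependent.pair_iff]
    intro s t hst
    obtain ⟨h1, h2⟩ := hsplit (s • l + t • e) (L.1.add_mem (L.1.smul_mem _ hl) (L.1.smul_mem _ he))
      (s • m) (M.1.smul_mem _ hm) (by rw [← hst]; module)
    have hs0 := (smul_eq_zero.1 h2).resolve_right hm0
    rw [hs0, zero_smul, zero_add] at h1
    exact ⟨hs0, (smul_eq_zero.1 h1).resolve_right he0⟩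
  by_cases hl0 : l = 0
  · subst hl0
    rw [zero_add] at hx0 hind1 mk ⊢
    obtain ⟨u, w, hind, -, -, -, hLs⟩ := id L.2
    have huL : u ∈ L.1 := hLs ▸ Submodule.subset_span (Set.mem_insert _ _)
    have hi : LinearIndependent F ![m, u] := hind1 u huL (hind.ne_zero 0) hx0
    obtain ⟨K, hxK, huK, -, hK⟩ := mk u (Submodule.mem_sup_left huL) hi
    exact ⟨M, K, fun he => h.2 ⟨u, hind.ne_zero 0, huL, he ▸ huK⟩, hm, hxK, le_sup_right, hK⟩
  by_cases hm0 : m = 0
  · subst hm0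
    rw [add_zero] at hx0 mk ⊢
    obtain ⟨u, w, hind, -, -, -, hMs⟩ := id M.2
    have huM : u ∈ M.1 := hMs ▸ Submodule.subset_span (Set.mem_insert _ _)
    have hi : LinearIndependent F ![l, u] := by
      rw [LinearIndependent.pair_iff' hx0]
      intro r hr
      exact h.2 ⟨u, hind.ne_zero 0, hr ▸ L.1.smul_mem r hl, huM⟩
    obtain ⟨K, hxK, huK, -, hK⟩ := mk u (Submodule.mem_sup_right huM) hi
    exact ⟨L, K, fun he => h.2 ⟨u, hind.ne_zero 0, he ▸ huK, huM⟩, hl, hxK, le_sup_left, hK⟩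
  obtain ⟨e, heL, hinde, -⟩ := L.2.exists_partner hl hl0
  obtain ⟨K, hxK, hlK, hKs, hK⟩ := mk l (Submodule.mem_sup_left hl) (hind1 l hl hl0 hm0)
  obtain ⟨K', hxK', heK', -, hK'⟩ := mk e (Submodule.mem_sup_left heL)
    (hind1 e heL (hinde.ne_zero 1) hm0)
  refine ⟨K, K', fun he => ?_, hxK, hxK', hK, hK'⟩
  have he' : e ∈ K.1 := he ▸ heK'
  rw [hKs] at he'
  obtain ⟨s, t, hst⟩ := Submodule.mem_span_pair.1 he'
  obtain ⟨h1, h2⟩ := hsplit (e - (s + t) • l) (L.1.sub_mem heL (L.1.smul_mem _ hl))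
    (-(s • m)) (M.1.neg_mem (M.1.smul_mem _ hm)) (by rw [← hst]; module)
  exact (LinearIndependent.pair_iff' hl0).1 hinde (s + t) (sub_eq_zero.1 h1).symm

/-- Two bent pairs at collinear points have images of the same type. -/
theorem bent_map_of_bent (τ : LinePerm (Q8 F)) {L M L' M' : Ln (Q8 F)} {x y : V8 F}
    (hS : ∀ K, K ∈ SS L M ↔ x ∈ K.1) (hS' : ∀ K, K ∈ SS L' M' ↔ y ∈ K.1)
    (hxy : LinearIndependent F ![x, y] → polar (Q8 F) x y = 0) (hx : Q8 F x = 0) (hy : Q8 F y = 0)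
    (hy0 : y ≠ 0) (hb : Bent (τ.π L) (τ.π M)) (h' : Bent L' M') : Bent (τ.π L') (τ.π M') := by
  rcases bent_or_disj_map (τ := τ) (Or.inl h') with hB | hD
  · exact hB
  exfalso
  obtain ⟨z, a, b, hz0, hzL, hzM, hLs, hMs, hab⟩ := bent_data hb.1 hb.2
  have e1 : ∀ K, x ∈ K.1 ↔ z ∈ (τ.π K).1 := fun K => by
    rw [← hS, ← SS_map τ, SS_bent hz0 hzL hzM hLs hMs hab]
  have e2 : ∀ K, y ∈ K.1 ↔ (τ.π K).1 ≤ (τ.π L').1 ⊔ (τ.π M').1 := fun K => by
    rw [← hS', ← SS_map τ, SS_disj hD]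
  by_cases hzU : z ∈ (τ.π L').1 ⊔ (τ.π M').1
  · obtain ⟨K, K', hne, h1, h2, h3, h4⟩ := two_lines hD hz0 hzU
    obtain ⟨K, rfl⟩ := τ.π.surjective K
    obtain ⟨K', rfl⟩ := τ.π.surjective K'
    rw [← e1] at h1 h2
    rw [← e2] at h3 h4
    by_cases hind : LinearIndependent F ![x, y]
    · exact hne (congrArg τ.π (Subtype.ext
        ((K.2.eq_span h1 h3 hind).trans (K'.2.eq_span h2 h4 hind).symm)))
    · -- proportional points have the same star
      rw [LinearIndependent.pair_iff' (fun h0 => hz0 ?_)] at hind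
      swap
      · subst h0
        have : ∀ K : Ln (Q8 F), z ∈ (τ.π K).1 := fun K => (e1 K).1 K.1.zero_mem
        exfalso
        exact hD.2 ⟨z, hz0, this L', this M'⟩
      simp only [not_forall, not_not] at hind
      obtain ⟨r, hr⟩ := hind
      have hsame : ∀ K : Ln (Q8 F), z ∈ (τ.π K).1 →
          (τ.π K).1 ≤ (τ.π L').1 ⊔ (τ.π M').1 := fun K hK => by
        rw [← e2]
        exact hr ▸ K.1.smul_mem r ((e1 K).2 hK)
      have hr0 : r ≠ 0 := fun h0 => hy0 (by rw [← hr, h0, zero_smul])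
      have hconv : ∀ K : Ln (Q8 F), (τ.π K).1 ≤ (τ.π L').1 ⊔ (τ.π M').1 → z ∈ (τ.π K).1 := fun K hK => by
        rw [← e2, ← hr] at hK
        exact (e1 K).1 ((K.1.smul_mem_iff hr0).1 hK)
      exact hD.2 ⟨z, hz0, hconv L' le_sup_left, hconv M' le_sup_right⟩
  · by_cases hind : LinearIndependent F ![x, y]
    · let K : Ln (Q8 F) := ⟨_, isLine_span hind hx hy (hxy hind)⟩
      have h1 := (e1 K).1 (Submodule.subset_span (Set.mem_insert _ _))
      exact hzU ((e2 K).1 (Submodule.subset_span (Set.mem_insert_of_mem _ rfl)) h1)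
    · by_cases hx0 : x = 0
      · subst hx0
        exact hzU (le_sup_left (a := (τ.π L').1) ((e1 L').1 L'.1.zero_mem))
      rw [LinearIndependent.pair_iff' hx0] at hind
      simp only [not_forall, not_not] at hind
      obtain ⟨r, hr⟩ := hind
      obtain ⟨w, hwK, -⟩ : ∃ K : Ln (Q8 F), y ∈ K.1 ∧ True := by
        obtain ⟨N, -, h1, -, -, -⟩ := exists_bent (R := zeroKernel F) ndPolar_zeroKernel
          (by norm_num : 3 ≤ 4) y hy0 hy
        exact ⟨N, h1, trivial⟩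
      have hr0 : r ≠ 0 := fun h0 => hy0 (by rw [← hr, h0, zero_smul])
      exact hzU ((e2 w).1 hwK ((e1 w).1 ((w.1.smul_mem_iff hr0).1 (hr ▸ hwK))))

/-- Dichotomy: preserved, or all bent pairs become skew. -/
theorem bent_map (τ : LinePerm (Q8 F)) {L M L' M' : Ln (Q8 F)} (h : Bent L M) (h' : Bent L' M')
    (hb : Bent (τ.π L) (τ.π M)) : Bent (τ.π L') (τ.π M') := by
  obtain ⟨x, a, b, hx0, hxL, hxM, hLs, hMs, hab⟩ := bent_data h.1 h.2
  obtain ⟨y, c, d, hy0, hyL, hyM, hLs', hMs', hcd⟩ := bent_data h'.1 h'.2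
  have hx : Q8 F x = 0 := L.2.sing hxL
  have hy : Q8 F y = 0 := L'.2.sing hyL
  -- a common neighbour
  obtain ⟨z, hz0, hz, hxz, hzy⟩ : ∃ z, z ≠ 0 ∧ Q8 F z = 0 ∧ polar (Q8 F) x z = 0 ∧
      polar (Q8 F) z y = 0 := by
    have hei : (ee (0 : Fin 4) : V8 F) ≠ 0 := ee_ne_zero _
    obtain ⟨g, hg⟩ := exists_refl_singular (ndPolar_hypForm (ndPolar_zeroKernel (F := F)) 4) hei hx0
      (Q_ee 0) hx
    obtain ⟨w, rfl⟩ := g.1.surjective y
    obtain ⟨s, t, hne, hst⟩ : ∃ s t : F, ¬ (s = 0 ∧ t = 0) ∧ s * w.1.2 1 + t * w.1.2 2 = 0 := by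
      by_cases h1 : w.1.2 1 = 0
      · exact ⟨1, 0, fun h => one_ne_zero h.1, by simp [h1]⟩
      · exact ⟨w.1.2 2, -w.1.2 1, fun h => h1 (neg_eq_zero.1 h.2), by ring⟩
    refine ⟨g.1 (s • ee 1 + t • ee 2), orth_ne_zero g fun h0 => hne ?_, ?_, ?_, ?_⟩
    · exact ⟨by simpa using congrArg (fun v : V8 F => v.1.1 1) h0,
        by simpa using congrArg (fun v : V8 F => v.1.1 2) h0⟩
    · rw [orth_Q]
      simp [QuadraticMap.map_add (Q8 F), QuadraticMap.map_smul, Q_ee, polar_ee_right]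
    · rw [← hg, orth_polar]
      simp [polar_ee_left]
    · rw [orth_polar]
      simp [polar_ee_left, hst]
  obtain ⟨L₂, M₂, hzL, hzM, hnp, -⟩ := exists_bent (R := zeroKernel F) ndPolar_zeroKernel
    (by norm_num : 3 ≤ 4) z hz0 hz
  have hB₂ : Bent L₂ M₂ := ⟨⟨z, hz0, hzL, hzM⟩, hnp⟩
  obtain ⟨z', a', b', hz'0, hz'L, hz'M, hLs₂, hMs₂, hab'⟩ := bent_data hB₂.1 hB₂.2
  have hzK : ∀ K : Ln (Q8 F), z ∈ K.1 ↔ z' ∈ K.1 := fun K => by
    rw [mem_iff_meet_bent hz'0 hz'L hz'M hLs₂ hMs₂ hab']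
    refine ⟨fun hK => ⟨⟨z, hz0, hK, hzL⟩, ⟨z, hz0, hK, hzM⟩⟩, fun hK => ?_⟩
    have h1 := (mem_iff_meet_bent hz'0 hz'L hz'M hLs₂ hMs₂ hab' K).2 hK
    obtain ⟨p, hpL, -, hL₂⟩ := L₂.2.exists_partner hz'L hz'0
    rw [hLs₂] at hzL
    rw [hMs₂] at hzM
    obtain ⟨α, β, e1⟩ := Submodule.mem_span_pair.1 hzL
    obtain ⟨γ, δ, e2⟩ := Submodule.mem_span_pair.1 hzM
    have haL : a' ∈ L₂.1 := hLs₂ ▸ Submodule.subset_span (Set.mem_insert_of_mem _ rfl)
    have hbM : b' ∈ M₂.1 := hMs₂ ▸ Submodule.subset_span (Set.mem_insert_of_mem _ rfl)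
    have hβ : β = 0 := by
      have h2 := congrArg (fun v => polar (Q8 F) v b') e1
      have h3 := congrArg (fun v => polar (Q8 F) v b') e2
      simp [M₂.2.perp hz'M hbM, hab', M₂.2.perp hbM hbM] at h2 h3
      rw [h2, ← h3]
    rw [← e1, hβ, zero_smul, add_zero]
    exact K.1.smul_mem _ h1
  have hS₂ : ∀ K, K ∈ SS L₂ M₂ ↔ z ∈ K.1 := fun K => by
    rw [hzK, SS_bent hz'0 hz'L hz'M hLs₂ hMs₂ hab']
  have step := bent_map_of_bent τ (fun K => SS_bent hx0 hxL hxM hLs hMs hab K) hS₂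
    (fun _ => hxz) hx hz hz0 hb hB₂
  exact bent_map_of_bent τ hS₂ (fun K => SS_bent hy0 hyL hyM hLs' hMs' hcd K)
    (fun _ => hzy) hz hy hy0 step h'

/-- The inverse permutation. -/
def LinePerm.symm' (τ : LinePerm (Q8 F)) : LinePerm (Q8 F) where
  π := τ.π.symm
  cc L M := by
    conv_rhs => rw [← τ.π.apply_symm_apply L, ← τ.π.apply_symm_apply M, τ.cc]
  aa L M := by
    conv_rhs => rw [← τ.π.apply_symm_apply L, ← τ.π.apply_symm_apply M, τ.aa]

/-- One preserved bent pair gives all incidences. -/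
theorem preserve_of_bent (τ : LinePerm (Q8 F)) {L₀ M₀ : Ln (Q8 F)} (h₀ : Bent L₀ M₀)
    (hb : Bent (τ.π L₀) (τ.π M₀)) :
    (∀ L M, Meet (τ.π L).1 (τ.π M).1 ↔ Meet L.1 M.1) ∧
      ∀ L M, Perp (Q8 F) (τ.π L).1 (τ.π M).1 ↔ Perp (Q8 F) L.1 M.1 := by
  have hBent : ∀ L M, Bent (τ.π L) (τ.π M) ↔ Bent L M := fun L M => by
    refine ⟨fun h => ?_, fun h => bent_map τ h₀ h hb⟩
    have h' := bent_map τ.symm' hb h (by
      show Bent (τ.π.symm _) (τ.π.symm _)
      rwa [τ.π.symm_apply_apply, τ.π.symm_apply_apply])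
    show Bent L M
    have e1 : τ.symm'.π (τ.π L) = L := τ.π.symm_apply_apply L
    have e2 : τ.symm'.π (τ.π M) = M := τ.π.symm_apply_apply M
    rwa [e1, e2] at h'
  have hmeet : ∀ L M : Ln (Q8 F), Meet L.1 M.1 ↔ L = M ∨ AA L M ∨ Bent L M := fun L M => by
    constructor
    · intro h
      by_cases he : L = M
      · exact Or.inl he
      by_cases hp : Perp (Q8 F) L.1 M.1
      · exact Or.inr (Or.inl ⟨he, h, hp⟩)
      · exact Or.inr (Or.inr ⟨h, hp⟩)
    · rintro (rfl | h | h)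
      · exact meet_self L
      · exact h.2.1
      · exact h.1
  have hperp : ∀ L M : Ln (Q8 F), Perp (Q8 F) L.1 M.1 ↔
      L = M ∨ AA L M ∨ (CC L M ∧ L ≠ M ∧ ¬ AA L M ∧ ¬ Bent L M) := fun L M => by
    constructor
    · intro h
      by_cases he : L = M
      · exact Or.inl he
      by_cases hA : AA L M
      · exact Or.inr (Or.inl hA)
      · exact Or.inr (Or.inr ⟨Or.inr h, he, hA, fun hB => hB.2 h⟩)
    · rintro (rfl | h | ⟨hC, hne, hA, hB⟩)
      · exact perp_line L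
      · exact h.2.2
      · exact (((cc_pair_iff L M).1 ⟨hC, hne, hA⟩).resolve_left hB).1
  refine ⟨fun L M => ?_, fun L M => ?_⟩
  · rw [hmeet, hmeet L M, τ.π.injective.eq_iff, τ.aa, hBent]
  · rw [hperp, hperp L M, τ.π.injective.eq_iff, τ.π.injective.ne_iff, τ.aa, τ.cc, hBent]

/-- The standard solid. -/
def E8 (F : Type*) [Field F] : Submodule F (V8 F) :=
  LinearMap.ker ((LinearMap.snd F (Fin 4 → F) (Fin 4 → F)).comp (LinearMap.fst F _ (Fin 0 → F)))

theorem mem_E8 (x : V8 F) : x ∈ E8 F ↔ x.1.2 = 0 := Iff.rfl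

theorem finrank_E8 : finrank F (E8 F) = 4 := by
  have h := LinearMap.finrank_range_add_finrank_ker
    ((LinearMap.snd F (Fin 4 → F) (Fin 4 → F)).comp (LinearMap.fst F _ (Fin 0 → F)))
  have hr : LinearMap.range
      ((LinearMap.snd F (Fin 4 → F) (Fin 4 → F)).comp (LinearMap.fst F _ (Fin 0 → F))) = ⊤ := by
    rw [LinearMap.range_eq_top]
    exact fun b => ⟨((0, b), 0), rfl⟩
  rw [hr, finrank_top, Module.finrank_fin_fun] at h
  simp [Module.finrank_prod] at h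
  exact Nat.add_left_cancel (h.trans (by norm_num : (8 : ℕ) = 4 + 4))

theorem sing_E8 {x : V8 F} (hx : x ∈ E8 F) : Q8 F x = 0 := by
  rw [mem_E8] at hx
  simp [Q8_apply, hx]

theorem refl_pair_E8 {c : F} (hc : c ≠ 0) {x : V8 F} (hx : x ∈ E8 F) :
    (refl (Q8 F) (uvec 4 (by norm_num) c) * refl (Q8 F) (uvec 4 (by norm_num) (1 : F))).1 x ∈
      E8 F := by
  rw [mem_E8] at hx ⊢
  show ((refl (Q8 F) (uvec 4 (by norm_num) c)).1
    ((refl (Q8 F) (uvec 4 (by norm_num) (1 : F))).1 x)).1.2 = 0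
  rw [refl_apply, refl_apply, Q_uvec, Q_uvec]
  funext i
  fin_cases i <;> simp [uvec, polar_Q8, hx, ee, ff] <;> field_simp <;> ring

variable [Fintype F]

/-- The totally singular solids form two orbits. -/
theorem solid_orbit {U : Submodule F (V8 F)} (hU : finrank F U = 4) (hUs : ∀ y ∈ U, Q8 F y = 0) :
    ∃ (h : siegelGroup (Q8 F)) (i : Fin 2),
      U = (E8 F).map (((h : Orth (Q8 F)) * refl (Q8 F) (uvec 4 (by norm_num) (1 : F)) ^ (i : ℕ)).1 :
        V8 F →ₗ[F] V8 F) := by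
  have hnd := ndPolar_hypForm (ndPolar_zeroKernel (F := F)) 4
  set R₁ : Orth (Q8 F) := refl (Q8 F) (uvec 4 (by norm_num) (1 : F))
  -- Witt
  obtain ⟨C, hC⟩ : ∃ C : Submodule F (V8 F), IsCompl (E8 F) C := Submodule.exists_isCompl _
  have e : E8 F ≃ₗ[F] U := LinearEquiv.ofFinrankEq _ _ (by rw [hU, finrank_E8])
  let f : V8 F →ₗ[F] V8 F :=
    (U.subtype.comp e.toLinearMap).comp (Submodule.linearProjOfIsCompl (E8 F) C hC)
  have hf : ∀ x (hx : x ∈ E8 F), f x = (e ⟨x, hx⟩ : V8 F) := fun x hx => by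
    show ((e (Submodule.linearProjOfIsCompl (E8 F) C hC x) : U) : V8 F) = _
    rw [show Submodule.linearProjOfIsCompl (E8 F) C hC x = ⟨x, hx⟩ from
      Submodule.linearProjOfIsCompl_apply_left hC ⟨x, hx⟩]
  obtain ⟨g, hg⟩ := exists_orth_extend hnd (E8 F) f
    (fun x hx => by rw [hf x hx, hUs _ (e ⟨x, hx⟩).2, sing_E8 hx])
    (fun x hx h0 => by
      rw [hf x hx, Submodule.coe_eq_zero, LinearEquiv.map_eq_zero_iff] at h0
      exact congrArg Subtype.val h0)
  have hgE : (E8 F).map (g.1 : V8 F →ₗ[F] V8 F) = U := by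
    refine le_antisymm ?_ fun y hy => ?_
    · rintro _ ⟨x, hx, rfl⟩
      show g.1 x ∈ U
      rw [hg x hx, hf x hx]
      exact (e ⟨x, hx⟩).2
    · refine ⟨(e.symm ⟨y, hy⟩ : V8 F), (e.symm ⟨y, hy⟩).2, ?_⟩
      show g.1 _ = y
      rw [hg _ (e.symm ⟨y, hy⟩).2, hf _ (e.symm ⟨y, hy⟩).2]
      simp
  -- decomposition of the isometry
  let T : Subgroup (Orth (Q8 F)) :=
    { carrier := {s | (E8 F).map (s.1 : V8 F →ₗ[F] V8 F) = E8 F}
      one_mem' := Submodule.map_id _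
      mul_mem' := fun {a b} ha hb => by
        show (E8 F).map ((a.1 : V8 F →ₗ[F] V8 F).comp (b.1 : V8 F →ₗ[F] V8 F)) = E8 F
        rw [Submodule.map_comp, hb, ha]
      inv_mem' := fun {a} ha => by
        show (E8 F).map (a.1.symm : V8 F →ₗ[F] V8 F) = E8 F
        conv_lhs => rw [← ha]
        rw [← Submodule.map_comp]
        convert Submodule.map_id _
        exact LinearMap.ext fun x => a.1.symm_apply_apply x }
  let q : Orth (Q8 F) →* Orth (Q8 F) ⧸ siegelGroup (Q8 F) := QuotientGroup.mk' _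
  have hcomm : ∀ a b, q a * q b = q b * q a := fun a b => by
    refine QuotientGroup.eq.2 ?_
    show (a * b)⁻¹ * (b * a) ∈ siegelGroup (Q8 F)
    refine commutator_orth_le hnd (frame (zeroKernel F) (by norm_num : 3 ≤ 4)) ?_
    rw [show (a * b)⁻¹ * (b * a) = ⁅b⁻¹, a⁻¹⁆ by rw [commutatorElement_def]; group]
    exact Subgroup.commutator_mem_commutator (Subgroup.mem_top _) (Subgroup.mem_top _)
  have hall : ∀ a, ∃ i : ℕ, ∃ s ∈ T, q a = q (R₁ ^ i * s) := by
    intro a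
    have ha : a ∈ Subgroup.closure (Set.range (refl (Q8 F)) ∪ siegelSet (Q8 F)) := by
      rw [closure_refl_siegel hnd]; trivial
    induction ha using Subgroup.closure_induction with
    | mem v hv =>
      rcases hv with ⟨w, rfl⟩ | hv
      · by_cases hw : Q8 F w = 0
        · exact ⟨0, 1, T.one_mem, by
            rw [show refl (Q8 F) w = 1 from orth_ext fun x => by simp [refl_apply, hw], pow_zero,
              mul_one]⟩
        · refine ⟨1, refl (Q8 F) (uvec 4 (by norm_num) (Q8 F w)) * R₁, ?_, ?_⟩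
          · refine Submodule.eq_of_le_of_finrank_eq ?_ ?_
            · rintro _ ⟨x, hx, rfl⟩
              exact refl_pair_E8 hw hx
            · exact LinearEquiv.finrank_map_eq _ _
          · have he := reflClass_eq hnd (frame (zeroKernel F) (by norm_num : 3 ≤ 4)) w
            have he' := reflClass_eq hnd (frame (zeroKernel F) (by norm_num : 3 ≤ 4))
              (uvec 4 (by norm_num) (Q8 F w))
            rw [Q_uvec, ← he] at he'
            have hq : q (refl (Q8 F) (uvec 4 (by norm_num) (Q8 F w))) = q (refl (Q8 F) w) := he'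
            rw [map_mul, map_mul, pow_one, hcomm (refl (Q8 F) _) R₁, ← mul_assoc, ← map_mul,
              refl_mul_self, map_one, one_mul, hq]
      · exact ⟨0, 1, T.one_mem, by
          rw [pow_zero, mul_one, map_one]
          exact (QuotientGroup.eq_one_iff v).2 (Subgroup.subset_closure hv)⟩
    | one => exact ⟨0, 1, T.one_mem, by rw [pow_zero, mul_one]⟩
    | mul a b _ _ ha hb =>
      obtain ⟨i, s, hs, h1⟩ := ha
      obtain ⟨j, s', hs', h2⟩ := hb
      refine ⟨i + j, s * s', T.mul_mem hs hs', ?_⟩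
      rw [map_mul, h1, h2, pow_add, map_mul, map_mul, map_mul, map_mul, map_mul]
      exact Commute.mul_mul_mul_comm (hcomm s (R₁ ^ j)) _ _
    | inv a _ ha =>
      obtain ⟨i, s, hs, h1⟩ := ha
      refine ⟨i, s⁻¹, T.inv_mem hs, ?_⟩
      rw [map_inv, h1, map_mul, map_mul, mul_inv_rev, ← map_inv, ← map_inv, ← inv_pow,
        show R₁⁻¹ = R₁ from refl_inv _, hcomm]
  obtain ⟨i, s, hs, h1⟩ := hall g
  have hi : R₁ ^ i = R₁ ^ (i % 2) := by
    conv_lhs => rw [← Nat.div_add_mod i 2, pow_add, pow_mul, pow_two, refl_mul_self, one_pow,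
      one_mul]
  have hmem : g * (R₁ ^ i * s)⁻¹ ∈ siegelGroup (Q8 F) := by
    have h2 : q (g * (R₁ ^ i * s)⁻¹) = 1 := by rw [map_mul, map_inv, h1, mul_inv_cancel]
    exact (QuotientGroup.eq_one_iff _).1 h2
  refine ⟨⟨_, hmem⟩, ⟨i % 2, Nat.mod_lt _ two_pos⟩, ?_⟩
  show U = (E8 F).map ((g * (R₁ ^ i * s)⁻¹ * R₁ ^ (i % 2)).1 : V8 F →ₗ[F] V8 F)
  rw [← hi, mul_inv_rev, ← mul_assoc, inv_mul_cancel_right]
  show U = (E8 F).map ((g.1 : V8 F →ₗ[F] V8 F).comp ((s⁻¹).1 : V8 F →ₗ[F] V8 F))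
  rw [Submodule.map_comp, show (E8 F).map ((s⁻¹).1 : V8 F →ₗ[F] V8 F) = E8 F from T.inv_mem hs,
    hgE]

variable (p : ℕ) [Fact p.Prime] [CharP F p]

set_option maxHeartbeats 3200000 in
/-- The semisimilarities have at most three cosets. -/
theorem index_psi_range_le : (psi (good_plus (F := F) p (m := 4) (by norm_num))).range.index ≤ 3 := by
  have hG := good_plus (F := F) p (m := 4) (by norm_num)
  have hnd := ndPolar_hypForm (ndPolar_zeroKernel (F := F)) 4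
  haveI := finite_out_aux 4 (zeroKernel F)
  have hm : 3 ≤ 4 := by norm_num
  obtain ⟨L₀, M₀, hL₀, hM₀, hnp₀, -⟩ := exists_bent (R := zeroKernel F) ndPolar_zeroKernel hm
    (ee (0 : Fin 4)) (ee_ne_zero _) (Q_ee 0)
  have hB₀ : Bent L₀ M₀ := ⟨⟨_, ee_ne_zero _, hL₀, hM₀⟩, hnp₀⟩
  set Γ := (psi (good_plus (F := F) p (m := 4) (by norm_num))).range
  have hin : ∀ z : POm (Q8 F), (QuotientGroup.mk (MulAut.conj z) : Cfsg.Out (POm (Q8 F))) = 1 :=
    fun z => (QuotientGroup.eq_one_iff _).2 ⟨z, rfl⟩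
  -- the class of an automorphism
  have hcls : ∀ (β : MulAut (POm (Q8 F))),
      QuotientGroup.mk β ∈ Γ ∨ ∃ (i : Fin 2) (β' : MulAut (POm (Q8 F))) (τ : LinePerm (Q8 F)),
        (QuotientGroup.mk β' : Cfsg.Out (POm (Q8 F))) = QuotientGroup.mk β ∧
        (∀ L, (rbar (Q8 F) L.1).map β'.toMonoidHom = rbar (Q8 F) (τ.π L).1) ∧
        Disj (τ.π L₀) (τ.π M₀) ∧ (τ.π L₀).1 ⊔ (τ.π M₀).1 =
          (E8 F).map ((refl (Q8 F) (uvec 4 (by norm_num) (1 : F)) ^ (i : ℕ)).1 :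
            V8 F →ₗ[F] V8 F) := by
    intro β
    obtain ⟨τ, hτ⟩ := exists_linePerm ndPolar_zeroKernel hm p β
    rcases bent_or_disj_map (τ := τ) (Or.inl hB₀) with hb | hd
    · left
      obtain ⟨h1, h2⟩ := preserve_of_bent τ hB₀ hb
      obtain ⟨T, hT⟩ := exists_semiSim_of_preserve ndPolar_zeroKernel hm
        (fun _ _ => Subsingleton.elim _ _) p β τ hτ h1 h2
      exact ⟨T, congrArg QuotientGroup.mk hT.symm⟩
    right
    obtain ⟨h4, hs⟩ := finrank_sup_disj hd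
    obtain ⟨h, i, hU⟩ := solid_orbit h4 hs
    let T : SemiSim (Q8 F) := SemiSim.ofOrth (h : Orth (Q8 F))⁻¹
    let β' := C8 T * β
    obtain ⟨τ', hτ'⟩ := exists_linePerm ndPolar_zeroKernel hm p β'
    have hπ : ∀ L, (τ'.π L).1 = T.mapSub (τ.π L).1 := fun L => by
      refine rbar_injective hnd (frame (zeroKernel F) hm) p (τ'.π L).2 (T.isLine_mapSub (τ.π L).2) ?_
      rw [← hτ' L, ← T.map_rbar hnd (frame (zeroKernel F) hm) (τ.π L).2, ← hτ L, Subgroup.map_map]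
      rfl
    have hmap : ∀ L, (τ'.π L).1 = (τ.π L).1.map (((h : Orth (Q8 F))⁻¹).1 : V8 F →ₗ[F] V8 F) :=
      fun L => by
        rw [hπ]
        ext y
        rw [Submodule.mem_map]
        rfl
    refine ⟨i, β', τ', ?_, hτ', ⟨?_, ?_⟩, ?_⟩
    · show QuotientGroup.mk (C8 T * β) = _
      rw [QuotientGroup.mk_mul, show C8 T = MulAut.conj (QuotientGroup.mk h⁻¹) from
        SemiSim.conjHom_ofOrth_siegel _ _ h⁻¹, hin, one_mul]
    · rw [hmap, hmap]
      rintro _ ⟨x, hx, rfl⟩ _ ⟨y, hy, rfl⟩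
      exact (orth_polar _ x y).trans (hd.1 x hx y hy)
    · rw [hmap, hmap]
      rintro ⟨z, hz0, ⟨x, hx, rfl⟩, y, hy, hyx⟩
      refine hd.2 ⟨x, fun h0 => hz0 (by rw [h0, map_zero]), hx, ?_⟩
      rwa [← ((h : Orth (Q8 F))⁻¹).1.injective hyx]
    · rw [hmap, hmap, ← Submodule.map_sup, hU, ← Submodule.map_comp]
      congr 1
      exact LinearMap.ext fun x => inv_apply_self (h : Orth (Q8 F)) _
  -- equal classes give equal cosets
  have hkey : ∀ β₁ β₂ τ₁ τ₂, (∀ L, (rbar (Q8 F) L.1).map (β₁ : MulAut (POm (Q8 F))).toMonoidHom =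
      rbar (Q8 F) ((τ₁ : LinePerm (Q8 F)).π L).1) →
      (∀ L, (rbar (Q8 F) L.1).map (β₂ : MulAut (POm (Q8 F))).toMonoidHom =
      rbar (Q8 F) ((τ₂ : LinePerm (Q8 F)).π L).1) → Disj (τ₁.π L₀) (τ₁.π M₀) →
      (τ₁.π L₀).1 ⊔ (τ₁.π M₀).1 = (τ₂.π L₀).1 ⊔ (τ₂.π M₀).1 →
      (QuotientGroup.mk (β₁⁻¹ * β₂) : Cfsg.Out (POm (Q8 F))) ∈ Γ := by
    intro β₁ β₂ τ₁ τ₂ h₁ h₂ hd₁ hU
    obtain ⟨τ, hτ⟩ := exists_linePerm ndPolar_zeroKernel hm p (β₁⁻¹ * β₂)
    have hπ : ∀ L, τ₁.π (τ.π L) = τ₂.π L := fun L => by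
      refine Subtype.ext (rbar_injective hnd (frame (zeroKernel F) hm) p (τ₁.π _).2 (τ₂.π L).2 ?_)
      refine (h₁ (τ.π L)).symm.trans ((congrArg (fun H => Subgroup.map β₁.toMonoidHom H) (hτ L).symm).trans ?_)
      refine (Subgroup.map_map _ _ _).trans (Eq.trans ?_ (h₂ L))
      exact congrArg (fun φ => Subgroup.map φ (rbar (Q8 F) L.1))
        (MonoidHom.ext fun x => β₁.apply_symm_apply _)
    obtain ⟨x, a, b, hx0, hxL, hxM, hLs, hMs, hab⟩ := bent_data hB₀.1 hB₀.2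
    have hx' : ∀ L, (τ₂.π L).1 ≤ (τ₂.π L₀).1 ⊔ (τ₂.π M₀).1 → x ∈ (τ.π L).1 := fun L hL => by
      rw [← SS_bent hx0 hxL hxM hLs hMs hab, ← SS_map τ₁, hπ, SS_disj hd₁, hU]
      exact hL
    have hb : Bent (τ.π L₀) (τ.π M₀) := by
      rcases bent_or_disj_map (τ := τ) (Or.inl hB₀) with hb | hd
      · exact hb
      · exact absurd ⟨x, hx0, hx' L₀ le_sup_left, hx' M₀ le_sup_right⟩ hd.2
    obtain ⟨k1, k2⟩ := preserve_of_bent τ hB₀ hb
    obtain ⟨T, hT⟩ := exists_semiSim_of_preserve ndPolar_zeroKernel hm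
      (fun _ _ => Subsingleton.elim _ _) p _ τ hτ k1 k2
    exact ⟨T, congrArg QuotientGroup.mk hT.symm⟩
  -- the coset map
  have hex : ∀ c : Cfsg.Out (POm (Q8 F)) ⧸ Γ, ∃ o : Option (Fin 2),
      (o = none → c = QuotientGroup.mk 1) ∧ ∀ i, o = some i →
        ∃ (β : MulAut (POm (Q8 F))) (τ : LinePerm (Q8 F)),
          c = QuotientGroup.mk (QuotientGroup.mk β) ∧
          (∀ L, (rbar (Q8 F) L.1).map β.toMonoidHom = rbar (Q8 F) (τ.π L).1) ∧
          Disj (τ.π L₀) (τ.π M₀) ∧ (τ.π L₀).1 ⊔ (τ.π M₀).1 =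
            (E8 F).map ((refl (Q8 F) (uvec 4 (by norm_num) (1 : F)) ^ (i : ℕ)).1 :
              V8 F →ₗ[F] V8 F) := by
    intro c
    obtain ⟨y, rfl⟩ := QuotientGroup.mk_surjective c
    obtain ⟨β, rfl⟩ := QuotientGroup.mk_surjective y
    rcases hcls β with h | ⟨i, β', τ', he, h1, h2, h3⟩
    · refine ⟨none, fun _ => ?_, fun i hi => by simp at hi⟩
      rw [QuotientGroup.eq, mul_one]
      exact Γ.inv_mem h
    · refine ⟨some i, fun h => by simp at h, fun i' hi => ⟨β', τ', by rw [he], h1, h2, ?_⟩⟩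
      cases hi
      exact h3
  choose o ho1 ho2 using hex
  have hinj : Function.Injective o := by
    intro c c' h
    rcases hoc : o c with _ | i
    · rw [ho1 c hoc, ho1 c' (h ▸ hoc)]
    · obtain ⟨β₁, τ₁, rfl, a1, b1, c1⟩ := ho2 c i hoc
      obtain ⟨β₂, τ₂, rfl, a2, b2, c2⟩ := ho2 c' i (h ▸ hoc)
      rw [QuotientGroup.eq]
      exact hkey β₁ β₂ τ₁ τ₂ a1 a2 b1 (c1.trans c2.symm)
  calc Γ.index = Nat.card (Cfsg.Out (POm (Q8 F)) ⧸ Γ) := rfl
    _ ≤ Nat.card (Option (Fin 2)) := Nat.card_le_card_of_injective o hinj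
    _ = 3 := by simp

end CfsgLib.AutPOmega
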