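import Mathlib
import Cfsg.Agent.Lib.AutPOmega.Stars

/-!
The outer automorphism group of the eight-dimensional plus type orthogonal group.
-/

set_option autoImplicit false
set_option maxHeartbeats 800000
set_option synthInstance.maxHeartbeats 400000

namespace CfsgLib.AutPOmega

open QuadraticMap Module CfsgLib.Classical.Quad

section Abstract

variable {G : Type*} [Group G] [Finite G]

/-- A symmetric group with a centralising cyclic complement. -/
theorem prod_perm {n : ℕ} (H : Subgroup G) (e : H ≃* Equiv.Perm (Fin n))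
    (hcentre : ∀ π : Equiv.Perm (Fin n), (∀ π' : Equiv.Perm (Fin n), π * π' = π' * π) → π = 1)
    {x : G} {f : ℕ} (hx : orderOf x = f) (hc : ∀ h ∈ H, Commute x h)
    (hcard : Nat.card G ≤ Nat.factorial n * f) :
    Nonempty (G ≃* Equiv.Perm (Fin n) × Multiplicative (ZMod f)) := by
  have hB : Nat.card (Subgroup.zpowers x) = f := by rw [Nat.card_zpowers, hx]
  have hH : Nat.card H = Nat.factorial n := by
    rw [Nat.card_congr e.toEquiv, Nat.card_perm, Nat.card_fin]
  have hcomm : ∀ g ∈ H, ∀ b ∈ Subgroup.zpowers x, g * b = b * g := by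
    rintro g hg _ ⟨j, rfl⟩
    exact ((hc g hg).zpow_left j).symm.eq
  have hd : ∀ g ∈ H, g ∈ Subgroup.zpowers x → g = 1 := by
    intro g hg hgx
    have h1 : e ⟨g, hg⟩ = 1 := hcentre _ fun π' => by
      rw [← e.apply_symm_apply π', ← map_mul, ← map_mul]
      exact congrArg e (Subtype.ext (hcomm _ (e.symm π').2 g hgx).symm)
    exact congrArg Subtype.val (e.map_eq_one_iff.1 h1)
  have eB : Subgroup.zpowers x ≃* Multiplicative (ZMod f) :=
    mulEquivOfCyclicCardEq (hB.trans (by rw [Nat.card_congr Multiplicative.toAdd, Nat.card_zmod]))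
  exact ⟨(internalProd H (Subgroup.zpowers x) hcomm hd (by rw [hH, hB]; exact hcard)).symm.trans
    (e.prodCongr eB)⟩

/-- The symmetric group of degree three. -/
theorem exists_perm_three {a b : G} (ha : a * a * a = 1) (ha1 : a ≠ 1) (hb : b * b = 1)
    (hb1 : b ≠ 1) (hba : b * a * b⁻¹ = a⁻¹) :
    ∃ H : Subgroup G, a ∈ H ∧ b ∈ H ∧ (∀ g ∈ H, ∀ x : G, Commute x a → Commute x b → Commute x g) ∧
      Nonempty (H ≃* Equiv.Perm (Fin 3)) := by
  haveI : Fact (Nat.Prime 3) := ⟨Nat.prime_three⟩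
  have hord : orderOf a = 3 := orderOf_eq_prime (by rw [pow_succ, pow_two, ha]) ha1
  have hnot : b ∉ Subgroup.zpowers a := by
    intro h
    have h2 := Subgroup.orderOf_dvd_natCard _ h
    rw [Nat.card_zpowers, hord] at h2
    rw [orderOf_eq_prime (by rw [pow_two, hb]) hb1] at h2
    norm_num at h2
  have hb' : b * b ∈ Subgroup.zpowers a := hb ▸ one_mem _
  set D := CfsgLib.TwoFusion.cyclicByInverter a b hba hb'
  obtain ⟨eD⟩ := CfsgLib.TwoFusion.exists_dihedral_mulEquiv (by norm_num) hord hb hba hnot D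
    fun g => CfsgLib.TwoFusion.mem_cyclicByInverter hba hb' g
  let c : Equiv.Perm (Fin 3) := finRotate 3
  let d : Equiv.Perm (Fin 3) := Equiv.swap 0 1
  have hc : orderOf c = 3 := orderOf_eq_prime (by decide) (by decide)
  have hdc : d * c * d⁻¹ = c⁻¹ := by decide
  have hd2 : d * d = 1 := by decide
  have hnot' : d ∉ Subgroup.zpowers c := by
    intro h
    have h2 := Subgroup.orderOf_dvd_natCard _ h
    rw [Nat.card_zpowers, hc] at h2
    rw [orderOf_eq_prime (p := 2) (by decide) (by decide)] at h2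
    norm_num at h2
  have hd' : d * d ∈ Subgroup.zpowers c := hd2 ▸ one_mem _
  obtain ⟨eP⟩ := CfsgLib.TwoFusion.exists_dihedral_mulEquiv (by norm_num) hc hd2 hdc hnot'
    (CfsgLib.TwoFusion.cyclicByInverter c d hdc hd')
    fun g => CfsgLib.TwoFusion.mem_cyclicByInverter hdc hd' g
  have htop : CfsgLib.TwoFusion.cyclicByInverter c d hdc hd' = ⊤ := by
    refine Subgroup.eq_top_of_card_eq _ ?_
    rw [Nat.card_congr eP.toEquiv, DihedralGroup.nat_card, Nat.card_perm, Nat.card_fin]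
    rfl
  exact ⟨D, ⟨1, Or.inl (zpow_one a).symm⟩, ⟨0, Or.inr (by rw [zpow_zero, mul_one])⟩,
    fun g ⟨i, hg⟩ x h1 h2 => by
      rcases hg with rfl | rfl
      · exact h1.zpow_right i
      · exact h2.mul_right (h1.zpow_right i),
    ⟨eD.trans (eP.symm.trans ((MulEquiv.subgroupCongr htop).trans Subgroup.topEquiv))⟩⟩

/-- The symmetric group of degree four. -/
theorem exists_perm_four {g r : G} (v : Fin 4 → G) (hg : g * g * g = 1) (hg1 : g ≠ 1)
    (hr : r * r = 1) (hrg : r * g * r⁻¹ = g⁻¹) (hv0 : v 0 = 1) (hvinj : Function.Injective v)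
    (hvv : ∀ i, v i * v i = 1)
    (h01 : ∀ i, v 1 * v i = v (Equiv.swap (0 : Fin 4) 1 (Equiv.swap (2 : Fin 4) 3 i)))
    (hcom : ∀ i, v i * v 1 = v 1 * v i) (hcom' : ∀ i j, v i * v j = v j * v i)
    (hmul : ∀ i j, ∃ k, v i * v j = v k)
    (hgv : ∀ i, g * v i * g⁻¹ = v ((Equiv.swap (1 : Fin 4) 3 * Equiv.swap (1 : Fin 4) 2) i))
    (hrv : ∀ i, r * v i * r⁻¹ = v (Equiv.swap (2 : Fin 4) 3 i)) :
    ∃ H : Subgroup G, g ∈ H ∧ r ∈ H ∧
      (∀ h ∈ H, ∀ x : G, Commute x g → Commute x r → Commute x (v 1) → Commute x h) ∧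
      Nonempty (H ≃* Equiv.Perm (Fin 4)) := by
  set H := Subgroup.closure ({g, r, v 1} : Set G) with hH
  have hgH : g ∈ H := Subgroup.subset_closure (by simp)
  have hrH : r ∈ H := Subgroup.subset_closure (by simp)
  have hzH : v 1 ∈ H := Subgroup.subset_closure (by simp)
  refine ⟨H, hgH, hrH, fun h hh x h1 h2 h3 => ?_, ?_⟩
  · have hle : H ≤ Subgroup.centralizer {x} := by
      rw [hH, Subgroup.closure_le]
      intro y hy
      rw [SetLike.mem_coe, Subgroup.mem_centralizer_iff]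
      rintro _ rfl
      rcases hy with rfl | rfl | rfl
      exacts [h1.eq, h2.eq, h3.eq]
    exact Subgroup.mem_centralizer_iff.1 (hle hh) x rfl
  set γ : Equiv.Perm (Fin 4) := Equiv.swap (1 : Fin 4) 3 * Equiv.swap (1 : Fin 4) 2 with hγ
  have hginv : g⁻¹ = g * g := inv_eq_of_mul_eq_one_right (by rw [← mul_assoc, hg])
  have hrinv : r⁻¹ = r := inv_eq_of_mul_eq_one_right hr
  have hvinv : ∀ i, (v i)⁻¹ = v i := fun i => inv_eq_of_mul_eq_one_right (hvv i)
  -- the four cyclic subgroups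
  let K : Fin 4 → Subgroup G := fun i => Subgroup.zpowers (v i * g * v i)
  have hK3 : ∀ i, (v i * g * v i) * (v i * g * v i) * (v i * g * v i) = 1 := fun i => by
    calc _ = v i * (g * (v i * v i) * g * (v i * v i) * g) * v i := by simp only [mul_assoc]
      _ = 1 := by rw [hvv, mul_one, mul_one, hg, mul_one, hvv]
  have hne1 : ∀ i, v i * g * v i ≠ 1 := fun i h => hg1 (by
    have : g = v i * (v i * g * v i) * v i := by
      simp only [← mul_assoc, hvv, one_mul]
      rw [mul_assoc, hvv, mul_one]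
    rw [this, h, mul_one, hvv])
  haveI : Fact (Nat.Prime 3) := ⟨Nat.prime_three⟩
  have hKinj : Function.Injective K := by
    intro i j hij
    have hmem : v j * g * v j ∈ Subgroup.zpowers (v i * g * v i) := by
      have h : v j * g * v j ∈ K j := Subgroup.mem_zpowers _
      rw [← hij] at h
      exact h
    have hord : orderOf (v i * g * v i) = 3 :=
      orderOf_eq_prime (by rw [pow_succ, pow_two, hK3]) (hne1 i)
    obtain ⟨k, hk, hkj⟩ : ∃ k < 3, (v i * g * v i) ^ k = v j * g * v j := by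
      obtain ⟨n, hn⟩ := (isOfFinOrder_of_finite _).mem_powers_iff_mem_zpowers.2 hmem
      exact ⟨n % 3, Nat.mod_lt _ (by norm_num),
        (by rw [← hord]; exact (pow_mod_orderOf _ n).trans hn)⟩
    obtain ⟨k', hk'⟩ := hmul i j
    interval_cases k
    · exact absurd (hkj.symm.trans (pow_zero _)) (hne1 j)
    · rw [pow_one] at hkj
      have h1 : g * v k' * g⁻¹ = v k' := by
        rw [← hk', mul_inv_eq_iff_eq_mul]
        calc g * (v i * v j) = v i * (v i * g * v i) * v j := by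
              simp only [← mul_assoc, hvv, one_mul]
          _ = v i * v j * g := by
              rw [hkj]; simp only [mul_assoc]; rw [hvv, mul_one]
      rw [hgv] at h1
      have hfix : ∀ t : Fin 4, γ t = t → t = 0 := by rw [hγ]; decide
      have hk0 : k' = 0 := hfix _ (hvinj h1)
      rw [hk0, hv0] at hk'
      exact hvinj (by rw [eq_inv_of_mul_eq_one_left hk', hvinv])
    · exfalso
      rw [pow_two] at hkj
      have h2 : g * g * v k' = v k' * g := by
        rw [← hk']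
        calc g * g * (v i * v j) = v i * ((v i * g * v i) * (v i * g * v i)) * v j := by
              simp only [← mul_assoc, hvv, one_mul]
              rw [mul_assoc g (v i) (v i), hvv, mul_one]
          _ = v i * v j * g := by
              rw [hkj]; simp only [mul_assoc]; rw [hvv, mul_one]
      have h3 : g * v k' * g⁻¹ = g⁻¹ * v k' := by
        rw [mul_inv_eq_iff_eq_mul, mul_assoc, ← h2, hginv]
        simp only [← mul_assoc]
        rw [hg, one_mul]
      rw [hgv] at h3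
      obtain ⟨k'', hk''⟩ := hmul (γ k') k'
      have hgk : g⁻¹ = v k'' := by
        rw [← hk'', h3, mul_assoc, hvv, mul_one]
      have hsq : g * g = 1 := by
        have := hvv k''
        rwa [← hgk, ← mul_inv_rev, inv_eq_one] at this
      exact hg1 (by rwa [hsq, one_mul] at hg)
  -- conjugation
  have hconjK : ∀ (h : G) (π : Equiv.Perm (Fin 4)),
      (∀ i, h * (v i * g * v i) * h⁻¹ ∈ K (π i)) → ∀ i, (K i).map (MulAut.conj h).toMonoidHom = K (π i) := by
    intro h π hh i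
    rw [MonoidHom.map_zpowers]
    refine Subgroup.eq_of_le_of_card_ge (Subgroup.zpowers_le.2 ?_) (le_of_eq ?_)
    · exact hh i
    · have hord : ∀ j, orderOf (v j * g * v j) = 3 := fun j =>
        orderOf_eq_prime (by rw [pow_succ, pow_two, hK3]) (hne1 j)
      rw [Nat.card_zpowers, Nat.card_zpowers, hord,
        orderOf_injective _ (MulAut.conj h).injective, hord]
  let S : Subgroup G :=
    { carrier := {h | ∃ π : Equiv.Perm (Fin 4), ∀ i, (K i).map (MulAut.conj h).toMonoidHom = K (π i)}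
      one_mem' := ⟨1, fun i => by
        rw [map_one]; exact Subgroup.map_id _⟩
      mul_mem' := fun {a b} ⟨π, ha⟩ ⟨π', hb⟩ => ⟨π * π', fun i => by
        rw [map_mul, show (MulAut.conj a * MulAut.conj b).toMonoidHom =
          (MulAut.conj a).toMonoidHom.comp (MulAut.conj b).toMonoidHom from rfl, ← Subgroup.map_map,
          hb, ha]
        rfl⟩
      inv_mem' := fun {a} ⟨π, ha⟩ => ⟨π⁻¹, fun i => by
        have h1 := congrArg (Subgroup.map (MulAut.conj a⁻¹).toMonoidHom) (ha (π⁻¹ i))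
        rw [show π (π⁻¹ i) = i from π.apply_symm_apply i, Subgroup.map_map] at h1
        rw [← h1, show (MulAut.conj a⁻¹).toMonoidHom.comp (MulAut.conj a).toMonoidHom =
          MonoidHom.id G from MonoidHom.ext fun y => by simp [MulAut.conj_apply, mul_assoc]]
        exact Subgroup.map_id _⟩ }
  have hπg : ∀ i, (K i).map (MulAut.conj g).toMonoidHom = K (γ i) := hconjK g γ fun i => by
    rw [show g * (v i * g * v i) * g⁻¹ = (g * v i * g⁻¹) * g * (g * v i * g⁻¹) by group, hgv]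
    exact Subgroup.mem_zpowers _
  have hπr : ∀ i, (K i).map (MulAut.conj r).toMonoidHom = K (Equiv.swap (2 : Fin 4) 3 i) :=
    hconjK r _ fun i => by
      rw [show r * (v i * g * v i) * r⁻¹ = (r * v i * r⁻¹) * (r * g * r⁻¹) * (r * v i * r⁻¹) by
        group, hrg, hrv]
      refine (Subgroup.inv_mem_iff _).1 ?_
      rw [mul_inv_rev, mul_inv_rev, inv_inv, hvinv, ← mul_assoc]
      exact Subgroup.mem_zpowers _
  have hπz : ∀ i, (K i).map (MulAut.conj (v 1)).toMonoidHom =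
      K (Equiv.swap (0 : Fin 4) 1 (Equiv.swap (2 : Fin 4) 3 i)) :=
    hconjK (v 1) (Equiv.swap (0 : Fin 4) 1 * Equiv.swap (2 : Fin 4) 3) fun i => by
      rw [show v 1 * (v i * g * v i) * (v 1)⁻¹ = (v 1 * v i) * g * (v i * (v 1)⁻¹) by
        simp only [mul_assoc], hvinv, hcom, h01]
      exact Subgroup.mem_zpowers _
  have hHS : H ≤ S := by
    rw [hH, Subgroup.closure_le]
    rintro y (rfl | rfl | rfl)
    exacts [⟨_, hπg⟩, ⟨_, hπr⟩, ⟨Equiv.swap (0 : Fin 4) 1 * Equiv.swap (2 : Fin 4) 3, hπz⟩]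
  choose ρ hρ using fun h : H => hHS h.2
  have huniq : ∀ (h : H) (π : Equiv.Perm (Fin 4)),
      (∀ i, (K i).map (MulAut.conj (h : G)).toMonoidHom = K (π i)) → ρ h = π := fun h π hh =>
    Equiv.ext fun i => hKinj ((hρ h i).symm.trans (hh i))
  let φ : H →* Equiv.Perm (Fin 4) := MonoidHom.mk' ρ fun a b => huniq _ _ fun i => by
    rw [Subgroup.coe_mul, map_mul, show (MulAut.conj (a : G) * MulAut.conj (b : G)).toMonoidHom =
      (MulAut.conj (a : G)).toMonoidHom.comp (MulAut.conj (b : G)).toMonoidHom from rfl,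
      ← Subgroup.map_map, hρ, hρ]
    rfl
  have hsurj : Function.Surjective φ := by
    rw [← MonoidHom.range_eq_top, eq_top_iff,
      ← Equiv.Perm.closure_cycle_adjacent_swap (isCycle_finRotate (n := 2)) (by decide)
        (0 : Fin 4), Subgroup.closure_le]
    have e1 : φ ⟨g, hgH⟩ = γ := huniq _ _ hπg
    have e2 : φ ⟨r, hrH⟩ = Equiv.swap (2 : Fin 4) 3 := huniq _ _ hπr
    have e3 : φ ⟨v 1, hzH⟩ = Equiv.swap (0 : Fin 4) 1 * Equiv.swap (2 : Fin 4) 3 := huniq _ _ hπz
    rintro π (rfl | rfl)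
    · exact ⟨⟨v 1, hzH⟩ * ⟨r, hrH⟩ * ⟨g, hgH⟩, by rw [map_mul, map_mul, e1, e2, e3, hγ]; decide⟩
    · exact ⟨⟨v 1, hzH⟩ * ⟨r, hrH⟩, by rw [map_mul, e2, e3]; decide⟩
  -- at most 24 elements
  let T : Set G := Set.range fun z : Fin 4 × Fin 3 × Fin 2 => v z.1 * g ^ (z.2.1 : ℕ) * r ^ (z.2.2 : ℕ)
  have hgT : ∀ y ∈ T, g * y ∈ T := by
    rintro _ ⟨⟨i, a, b⟩, rfl⟩
    refine ⟨⟨γ i, a + 1, b⟩, ?_⟩
    show v (γ i) * g ^ ((a + 1 : Fin 3) : ℕ) * r ^ (b : ℕ) = g * (v i * g ^ (a : ℕ) * r ^ (b : ℕ))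
    rw [← hgv, show g ^ ((a + 1 : Fin 3) : ℕ) = g * g ^ (a : ℕ) by
      fin_cases a <;> simp [pow_succ, ← mul_assoc, hg]]
    simp only [mul_assoc, inv_mul_cancel_left]
  have hrT : ∀ y ∈ T, r * y ∈ T := by
    rintro _ ⟨⟨i, a, b⟩, rfl⟩
    refine ⟨⟨Equiv.swap (2 : Fin 4) 3 i, -a, b + 1⟩, ?_⟩
    show v (Equiv.swap (2 : Fin 4) 3 i) * g ^ ((-a : Fin 3) : ℕ) * r ^ ((b + 1 : Fin 2) : ℕ) =
      r * (v i * g ^ (a : ℕ) * r ^ (b : ℕ))
    have hneg : ∀ t : Fin 3, g ^ ((-t : Fin 3) : ℕ) = (g * g) ^ (t : ℕ) := by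
      intro t
      have ht : t = 0 ∨ t = 1 ∨ t = 2 := by revert t; decide
      obtain rfl | rfl | rfl := ht
      · simp
      · show g ^ 2 = (g * g) ^ 1
        rw [pow_one, pow_two]
      · show g ^ 1 = (g * g) ^ 2
        rw [pow_one, pow_two, ← mul_assoc, hg, one_mul]
    rw [← hrv, show g ^ ((-a : Fin 3) : ℕ) = r * g ^ (a : ℕ) * r⁻¹ by
        rw [← conj_pow, hrg, hginv]; exact hneg a,
      show r ^ ((b + 1 : Fin 2) : ℕ) = r * r ^ (b : ℕ) by
        fin_cases b <;> simp [hr]]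
    simp only [mul_assoc, inv_mul_cancel_left]
  have hzT : ∀ y ∈ T, v 1 * y ∈ T := by
    rintro _ ⟨⟨i, a, b⟩, rfl⟩
    refine ⟨⟨Equiv.swap (0 : Fin 4) 1 (Equiv.swap (2 : Fin 4) 3 i), a, b⟩, ?_⟩
    show v _ * g ^ (a : ℕ) * r ^ (b : ℕ) = v 1 * (v i * g ^ (a : ℕ) * r ^ (b : ℕ))
    rw [← h01]
    simp only [mul_assoc]
  have hsub : ∀ y ∈ H, y ∈ T := by
    intro y hy
    induction hy using Subgroup.closure_induction_left with
    | one => exact ⟨(0, 0, 0), by simp [hv0]⟩
    | mul_left a ha b _ hb =>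
      rcases ha with rfl | rfl | rfl
      exacts [hgT b hb, hrT b hb, hzT b hb]
    | inv_mul_cancel a ha b _ hb =>
      rcases ha with rfl | rfl | rfl
      · rw [hginv, mul_assoc]; exact hgT _ (hgT b hb)
      · rw [hrinv]; exact hrT b hb
      · rw [hvinv]; exact hzT b hb
  have hle : Nat.card H ≤ 24 := by
    refine le_trans (Nat.card_le_card_of_injective (fun h : H => (⟨h.1, hsub _ h.2⟩ : T))
      (fun a b h => Subtype.ext (Subtype.mk.inj h))) ?_
    refine le_trans (Finite.card_range_le _) ?_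
    simp
  exact ⟨MulEquiv.ofBijective φ ((Nat.bijective_iff_surjective_and_card _).2 ⟨hsurj, le_antisymm
    (by rw [Nat.card_perm, Nat.card_fin]; exact hle)
    (Nat.card_le_card_of_surjective _ hsurj)⟩)⟩

/-- The symmetric group of degree three from a triality. -/
theorem triality_perm_three {γ r x : G} {f : ℕ} (hg3 : γ * γ * γ = 1) (hg1 : γ ≠ 1)
    (hrr : r * r = 1) (hrg : r * γ * r⁻¹ = γ⁻¹) (hxo : orderOf x = f) (hxg : Commute x γ)
    (hxr : Commute x r) (hcard : Nat.card G ≤ Nat.factorial 3 * f) :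
    Nonempty (G ≃* Equiv.Perm (Fin 3) × Multiplicative (ZMod f)) := by
  have hr1 : r ≠ 1 := fun h => by
    rw [h, one_mul, inv_one, mul_one, eq_inv_iff_mul_eq_one] at hrg
    exact hg1 (by rwa [hrg, one_mul] at hg3)
  obtain ⟨H, -, -, hcH, ⟨e⟩⟩ := exists_perm_three hg3 hg1 hrr hr1 hrg
  exact prod_perm H e (by decide) hxo (fun h hh => hcH h hh x hxg hxr) hcard

/-- The symmetric group of degree four from a triality and a Klein four group. -/
theorem klein_perm_four {γ r z z' z'' x : G} {f : ℕ} (hg3 : γ * γ * γ = 1) (hg1 : γ ≠ 1)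
    (hrr : r * r = 1) (hrg : r * γ * r⁻¹ = γ⁻¹) (hzz : z * z = 1) (e1 : γ * z * γ⁻¹ = z')
    (e2 : γ * z' * γ⁻¹ = z'') (e3 : z' * z'' = z ∧ z'' * z' = z) (hrz : r * z * r⁻¹ = z)
    (hz'1 : z' ≠ 1) (hz'z : z' ≠ z) (hxo : orderOf x = f) (hxg : Commute x γ) (hxr : Commute x r)
    (hxz : Commute x z) (hcard : Nat.card G ≤ Nat.factorial 4 * f) :
    Nonempty (G ≃* Equiv.Perm (Fin 4) × Multiplicative (ZMod f)) := by
  have hz1 : z ≠ 1 := fun h => hz'1 (by rw [← e1, h, mul_one, mul_inv_cancel])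
  have hz''1 : z'' ≠ 1 := fun h => hz'1 (by
    rw [h, mul_inv_eq_one, mul_eq_left] at e2; exact e2)
  have hz''z' : z'' ≠ z' := fun h => hz'z (by
    have h' : γ * z' * γ⁻¹ = γ * z * γ⁻¹ := by rw [e2, h, e1]
    exact mul_left_cancel (mul_right_cancel h'))
  have hz''z : z'' ≠ z := fun h => hz'1 (by
    have h' := e3.1; rw [h] at h'; exact mul_eq_right.1 h')
  have hz'2 : z' * z' = 1 := by
    rw [← e1]
    calc _ = γ * (z * z) * γ⁻¹ := by group
      _ = 1 := by rw [hzz, mul_one, mul_inv_cancel]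
  have hz''2 : z'' * z'' = 1 := by
    rw [← e2]
    calc _ = γ * (z' * z') * γ⁻¹ := by group
      _ = 1 := by rw [hz'2, mul_one, mul_inv_cancel]
  have a1 : z * z' = z'' := by rw [← e3.2, mul_assoc, hz'2, mul_one]
  have a2 : z' * z = z'' := by rw [← e3.1, ← mul_assoc, hz'2, one_mul]
  have a3 : z * z'' = z' := by rw [← e3.1, mul_assoc, hz''2, mul_one]
  have a4 : z'' * z = z' := by rw [← e3.2, ← mul_assoc, hz''2, one_mul]
  have e4 : γ * z'' * γ⁻¹ = z := by
    rw [← e2, ← e1]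
    calc _ = γ * γ * γ * z * (γ * γ * γ)⁻¹ := by group
      _ = z := by rw [hg3, one_mul, inv_one, mul_one]
  have e5 : r * z' * r⁻¹ = z'' := by
    have hginv : γ⁻¹ = γ * γ := inv_eq_of_mul_eq_one_right (by rw [← mul_assoc, hg3])
    calc r * z' * r⁻¹ = (r * γ * r⁻¹) * (r * z * r⁻¹) * (r * γ * r⁻¹)⁻¹ := by rw [← e1]; group
      _ = γ⁻¹ * z * γ := by rw [hrg, hrz, inv_inv]
      _ = z'' := by rw [← e4]; group
  have e6 : r * z'' * r⁻¹ = z' := by
    rw [← e5]
    calc _ = (r * r) * z' * (r * r)⁻¹ := by group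
      _ = z' := by rw [hrr, one_mul, inv_one, mul_one]
  refine Exists.elim (exists_perm_four (g := γ) (r := r) ![1, z, z', z''] hg3 hg1 hrr hrg
    rfl ?_ ?_ ?_ ?_ ?_ ?_ ?_ ?_) fun H hH => ?_
  · intro i j h
    fin_cases i <;> fin_cases j <;> first | rfl | (exfalso; simp at h; first
      | exact hz1 h | exact hz1 h.symm | exact hz'1 h | exact hz'1 h.symm | exact hz''1 h
      | exact hz''1 h.symm | exact hz'z h | exact hz'z h.symm | exact hz''z h | exact hz''z h.symm
      | exact hz''z' h | exact hz''z' h.symm)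
  · intro i; fin_cases i <;> simp [hzz, hz'2, hz''2]
  · intro i; fin_cases i <;> simp [hzz, a1, a3, Equiv.swap_apply_def]
  · intro i; fin_cases i <;> simp [a1, a2, a3, a4]
  · intro i j; fin_cases i <;> fin_cases j <;> simp [a1, a2, a3, a4, e3.1, e3.2]
  · intro i j
    fin_cases i <;> fin_cases j <;>
      simp [hzz, hz'2, hz''2, a1, a2, a3, a4, e3.1, e3.2] <;>
      first
      | exact ⟨0, rfl⟩
      | exact ⟨1, rfl⟩
      | exact ⟨2, rfl⟩
      | exact ⟨3, rfl⟩
  · intro i; fin_cases i <;> simp [e1, e2, e4, Equiv.swap_apply_def]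
  · intro i; fin_cases i <;> simp [hrz, e5, e6, Equiv.swap_apply_def]
  obtain ⟨-, -, hcH, ⟨e⟩⟩ := hH
  exact prod_perm H e (by decide) hxo (fun h hh => hcH h hh x hxg hxr hxz) hcard

end Abstract

variable {F : Type*} [Field F] [Fintype F] (p : ℕ) [Fact p.Prime] [CharP F p]

/-- The class of the triality. -/
noncomputable def gcl : Cfsg.Out (POm (Q8 F)) := QuotientGroup.mk (gam p)

theorem gcl_cube : gcl (F := F) p * gcl (F := F) p * gcl (F := F) p = 1 :=
  congrArg QuotientGroup.mk (gam_cube (F := F) p)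

/-- Conjugation by the triality on the images of similitudes. -/
theorem gcl_conj {T h k : SemiSim (Q8 F)} (t : Triple T h k) :
    gcl (F := F) p * psi (good_plus (F := F) p (m := 4) (by norm_num)) T * (gcl (F := F) p)⁻¹ =
      psi (good_plus (F := F) p (m := 4) (by norm_num)) (hat h) :=
  congrArg QuotientGroup.mk (gam_conj p t)

theorem field_omul (φ : F ≃+* F) (x y : V8 F) :
    (fieldHom 4 φ).Φ (omul x y) = omul ((fieldHom 4 φ).Φ x) ((fieldHom 4 φ).Φ y) := by
  apply v8_ext <;> simp [fieldHom, zeroSemi, liftSemi_Φ, omul, o8]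

theorem field_kap (φ : F ≃+* F) :
    fieldHom 4 φ * SemiSim.ofOrth (kap F) = SemiSim.ofOrth (kap F) * fieldHom 4 φ := by
  refine SemiSim.ext' ?_ ?_ fun x => ?_
  · show φ * 1 = 1 * φ
    rw [one_mul, mul_one]
  · show (1 : F) * φ 1 = 1 * (1 : F ≃+* F) 1
    rw [map_one, map_one]
  · rw [SemiSim.mul_Φ, SemiSim.mul_Φ, SemiSim.ofOrth_Φ, SemiSim.ofOrth_Φ, kap_apply, kap_apply]
    apply v8_ext <;> simp [fieldHom, zeroSemi, liftSemi_Φ, obar, o8]

theorem gcl_field (φ : F ≃+* F) :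
    gcl (F := F) p * psi (good_plus (F := F) p (m := 4) (by norm_num)) (fieldHom 4 φ) =
      psi (good_plus (F := F) p (m := 4) (by norm_num)) (fieldHom 4 φ) * gcl (F := F) p :=
  congrArg QuotientGroup.mk (gam_commute p (fieldHom 4 φ) (field_omul φ) (field_kap φ))

theorem psiO_kap : psiO (good_plus (F := F) p (m := 4) (by norm_num)) (kap F) =
    psiO (good_plus (F := F) p (m := 4) (by norm_num)) (refl (Q8 F) oone) := by
  have hneg : SemiSim.ofOrth (negOne (Q8 F)) = SemiSim.scal (-1) :=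
    SemiSim.ext' rfl (by show (1 : F) = ((-1 : Fˣ) : F) * ((-1 : Fˣ) : F); simp) fun x => by
      rw [SemiSim.ofOrth_Φ, SemiSim.scal_Φ, negOne_apply]; simp
  have h1 : psiO (good_plus (F := F) p (m := 4) (by norm_num)) (negOne (Q8 F)) = 1 :=
    (congrArg (psi (good_plus (F := F) p (m := 4) (by norm_num))) hneg).trans (psi_scal _ _)
  rw [kap_eq, map_mul, h1, one_mul]

theorem gcl_kap :
    psiO (good_plus (F := F) p (m := 4) (by norm_num)) (refl (Q8 F) oone) * gcl (F := F) p *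
      (psiO (good_plus (F := F) p (m := 4) (by norm_num)) (refl (Q8 F) oone))⁻¹ =
      (gcl (F := F) p)⁻¹ := by
  rw [← psiO_kap]
  exact congrArg QuotientGroup.mk (kap_gam p)

/-- The unipotent vector used to separate the triality. -/
def uu (F : Type*) [Field F] : V8 F := o8 1 1 0 0 1 0 0 0

omit [Fintype F] in
theorem Q8_uu : Q8 F (uu F) = 1 := by simp [Q8_apply, uu, o8]

theorem psi_scal_mul (hG : Good (zeroKernel F) 4 p) (c : Fˣ)
    (S : SemiSim (Q8 F)) : psi hG (SemiSim.scal c * S) = psi hG S := by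
  rw [map_mul, psi_scal hG, one_mul]

theorem psi_eq_of_scal (hG : Good (zeroKernel F) 4 p) (c : Fˣ)
    (S T : SemiSim (Q8 F)) {h : Orth (Q8 F)}
    (e : S * T = SemiSim.scal c * SemiSim.ofOrth h) : psi hG S * psi hG T = psiO hG h := by
  rw [← map_mul, e, psi_scal_mul p hG]
  rfl

omit [Fintype F] [CharP F p] [Fact p.Prime] in
theorem hat_lmul_rmul {u : V8 F} (hu : Q8 F u ≠ 0) {g : Orth (Q8 F)}
    (t : Triple (SemiSim.ofOrth g) (lmulSemi u hu)
      (SemiSim.scal (Units.mk0 (Q8 F u) hu)⁻¹ * rmulSemi u hu)) :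
    ∃ c : Fˣ, hat (lmulSemi u hu) * hat (rmulSemi u hu) =
        SemiSim.scal c * SemiSim.ofOrth (kap F * g * kap F) ∧
      hat (rmulSemi u hu) * hat (lmulSemi u hu) =
        SemiSim.scal c * SemiSim.ofOrth (kap F * g * kap F) := by
  have hB : ∀ y, omul u (omul y u) = Q8 F u • g.1 y := fun y => by
    have := t.rel y oone
    rw [omul_oone, SemiSim.ofOrth_Φ, lmulSemi_Φ, SemiSim.mul_Φ, SemiSim.scal_Φ, rmulSemi_Φ,
      oone_omul, omul_smul_right, Units.val_inv_eq_inv_val, Units.val_mk0] at this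
    rw [this, smul_smul, mul_inv_cancel₀ hu, one_smul, omul_flexible]
  refine ⟨Units.mk0 (Q8 F u) hu, ?_, ?_⟩
  all_goals rw [← map_mul, ← hat_ofOrth, ← hat_scal, ← map_mul]
  all_goals refine congrArg hat (SemiSim.ext' rfl ?_ fun y => ?_)
  · show Q8 F u * (1 : F ≃+* F) (Q8 F u) = Q8 F u * Q8 F u * (1 : F ≃+* F) 1
    rw [map_one, mul_one]; rfl
  · exact hB y
  · show Q8 F u * (1 : F ≃+* F) (Q8 F u) = Q8 F u * Q8 F u * (1 : F ≃+* F) 1
    rw [map_one, mul_one]; rfl
  · exact (omul_flexible u y).trans (hB y)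

theorem uu_mem : refl (Q8 F) (uu F) * refl (Q8 F) oone ∈ siegelGroup (Q8 F) := by
  have hnd := ndPolar_hypForm (ndPolar_zeroKernel (F := F)) 4
  have P := frame (zeroKernel F) (by norm_num : 3 ≤ 4)
  refine (QuotientGroup.eq_one_iff _).1 ?_
  have e1 := reflClass_eq hnd P (uu F)
  have e2 := reflClass_eq hnd P oone
  rw [show hypForm 4 (zeroKernel F) (uu F) = 1 from Q8_uu] at e1
  rw [show hypForm 4 (zeroKernel F) oone = 1 from Q8_oone] at e2
  exact (congrArg₂ (· * ·) e1 e2).trans (reflClass_mul_self P 1)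

set_option maxHeartbeats 3200000 in
theorem gam_not_semi (T : SemiSim (Q8 F)) : gam (F := F) p ≠ C8 T := by
  intro hT
  have hu : Q8 F (uu F) ≠ 0 := by rw [Q8_uu]; exact one_ne_zero
  let g : siegelGroup (Q8 F) := ⟨_, uu_mem⟩
  have t := triple_refl_one hu
  have h1 := trial_step p (x := QuotientGroup.mk g)
    (T := SemiSim.ofOrth (refl (Q8 F) (uu F) * refl (Q8 F) oone))
    (SemiSim.conjHom_ofOrth_siegel _ _ g).symm t
  have h2 : C8 (hat (lmulSemi (uu F) hu)) =
      C8 (T * SemiSim.ofOrth (refl (Q8 F) (uu F) * refl (Q8 F) oone) * T⁻¹) := by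
    rw [← h1, map_mul, map_mul, map_inv, ← hT,
      show C8 (SemiSim.ofOrth (refl (Q8 F) (uu F) * refl (Q8 F) oone)) =
        MulAut.conj (QuotientGroup.mk g : POm (Q8 F)) from SemiSim.conjHom_ofOrth_siegel _ _ g]
    exact (conj_map (gam p) _).symm
  have hk : (T * SemiSim.ofOrth (refl (Q8 F) (uu F) * refl (Q8 F) oone) * T⁻¹)⁻¹ *
      hat (lmulSemi (uu F) hu) ∈ (SemiSim.conjHom (ndPolar_hypForm ndPolar_zeroKernel 4)
        (frame (zeroKernel F) (by norm_num : 3 ≤ 4))).ker :=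
    MonoidHom.mem_ker.2 ((map_mul (C8 (F := F)) _ _).trans (by rw [map_inv, h2, inv_mul_cancel]))
  rw [conjHom_ker ndPolar_zeroKernel (by norm_num : 3 ≤ 4) p] at hk
  obtain ⟨c, hc⟩ := hk
  have hA : hat (lmulSemi (uu F) hu) =
      T * SemiSim.ofOrth (refl (Q8 F) (uu F) * refl (Q8 F) oone) * T⁻¹ * SemiSim.scal c := by
    rw [hc, mul_inv_cancel_left]
  have hfix : ∀ y, polar (Q8 F) y (uu F) = 0 → polar (Q8 F) y oone = 0 →
      obar (omul (uu F) (obar (T.Φ y))) = (c : F) • T.Φ y := by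
    intro y h1 h2
    have := congrArg (fun S : SemiSim (Q8 F) => S.Φ (T.Φ y)) hA
    simp only [SemiSim.mul_Φ, hat_Φ, lmulSemi_Φ, SemiSim.scal_Φ, SemiSim.ofOrth_Φ] at this
    rw [this, show T⁻¹.Φ ((c : F) • T.Φ y) = T.σ.symm c • y from
      (T.symm_smul _ _).trans (congrArg _ (T.Φ.symm_apply_apply y)), _root_.map_smul, mul_apply,
      refl_fix h2, refl_fix h1, T.map_smul, T.σ.apply_symm_apply]
  -- the scalar is one
  have hkey : ∀ z : V8 F, obar (omul (uu F) (obar z)) = (c : F) • z →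
      ((c : F) - 1) * ((c : F) - 1) * z.1.1 1 = 0 ∧
      ((c : F) = 1 → z.1.1 0 = 0 ∧ z.1.1 2 = 0 ∧ z.1.1 3 = 0 ∧ z.1.2 1 = 0) := by
    intro z hz
    have e0 := congrArg (fun w : V8 F => w.1.1 0) hz
    have e1 := congrArg (fun w : V8 F => w.1.1 1) hz
    have e2 := congrArg (fun w : V8 F => w.1.2 0) hz
    have e3 := congrArg (fun w : V8 F => w.1.2 2) hz
    have e4 := congrArg (fun w : V8 F => w.1.2 3) hz
    simp [omul, obar, uu, o8] at e0 e1 e2 e3 e4
    refine ⟨?_, fun hc1 => ?_⟩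
    · linear_combination (exp := 1) (-((c : F) - 1)) * e1 + e0
    · rw [hc1] at e0 e1 e2 e3 e4
      exact ⟨by linear_combination -e1, by linear_combination -e4, by linear_combination e3,
        by linear_combination e2⟩
  let vec : (Fin 5 → F) → V8 F := fun w => o8 0 (w 0) (w 1) (w 2) 0 0 (w 3) (w 4)
  have hv1 : ∀ w, polar (Q8 F) (vec w) (uu F) = 0 := fun w => by simp [vec, polar_Q8, uu, o8]
  have hv2 : ∀ w, polar (Q8 F) (vec w) oone = 0 := fun w => by simp [vec, polar_Q8, oone, o8]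
  have hc1 : (c : F) = 1 := by
    by_contra hne
    have hd : (c : F) - 1 ≠ 0 := sub_ne_zero.2 hne
    have hall : ∀ w, T.Φ (vec w) = 0 := fun w => by
      have hz := hfix _ (hv1 w) (hv2 w)
      obtain ⟨z, hzdef⟩ : ∃ z, z = T.Φ (vec w) := ⟨_, rfl⟩
      rw [← hzdef] at hz ⊢
      have h1' := (hkey z hz).1
      have e0 := congrArg (fun w : V8 F => w.1.1 0) hz
      have e1 := congrArg (fun w : V8 F => w.1.1 2) hz
      have e2 := congrArg (fun w : V8 F => w.1.1 3) hz
      have f0 := congrArg (fun w : V8 F => w.1.2 0) hz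
      have f1 := congrArg (fun w : V8 F => w.1.2 1) hz
      have f2 := congrArg (fun w : V8 F => w.1.2 2) hz
      have f3 := congrArg (fun w : V8 F => w.1.2 3) hz
      simp [omul, obar, uu, o8] at e0 e1 e2 f0 f1 f2 f3
      have g0 : z.1.1 0 = 0 := by
        refine (mul_eq_zero.1 (show ((c : F) - 1) * z.1.1 0 = 0 from ?_)).resolve_left hd
        linear_combination -e0
      have g1 : z.1.1 1 = 0 := (mul_eq_zero.1 h1').resolve_left (mul_ne_zero hd hd)
      have g2 : z.1.1 2 = 0 := by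
        refine (mul_eq_zero.1 (show ((c : F) - 1) * z.1.1 2 = 0 from ?_)).resolve_left hd
        linear_combination -e1
      have g3 : z.1.1 3 = 0 := by
        refine (mul_eq_zero.1 (show ((c : F) - 1) * z.1.1 3 = 0 from ?_)).resolve_left hd
        linear_combination -e2
      have k1 : z.1.2 1 = 0 := by
        refine (mul_eq_zero.1 (show ((c : F) - 1) * z.1.2 1 = 0 from ?_)).resolve_left hd
        linear_combination -f1
      have k0 : z.1.2 0 = 0 := by
        refine (mul_eq_zero.1 (show ((c : F) - 1) * z.1.2 0 = 0 from ?_)).resolve_left hd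
        rw [k1] at f0
        linear_combination -f0
      have k2 : z.1.2 2 = 0 := by
        refine (mul_eq_zero.1 (show ((c : F) - 1) * z.1.2 2 = 0 from ?_)).resolve_left hd
        rw [g3] at f2
        linear_combination -f2
      have k3 : z.1.2 3 = 0 := by
        refine (mul_eq_zero.1 (show ((c : F) - 1) * z.1.2 3 = 0 from ?_)).resolve_left hd
        rw [g2] at f3
        linear_combination -f3
      apply v8_ext <;> simp [g0, g1, g2, g3, k0, k1, k2, k3]
    have h0 := hall (fun _ => 1)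
    rw [map_eq_zero_iff _ T.Φ.injective] at h0
    simpa [vec, o8] using congrArg (fun w : V8 F => w.1.1 1) h0
  let em : (Fin 5 → F) → (Fin 4 → F) := fun w =>
    ![(T.Φ (vec w)).1.1 1, (T.Φ (vec w)).1.2 0, (T.Φ (vec w)).1.2 2, (T.Φ (vec w)).1.2 3]
  have hem : Function.Injective em := by
    intro w w' h
    have e := fun j => congrFun h j
    have h1 := e 0
    have h2 := e 1
    have h3 := e 2
    have h4 := e 3
    simp [em] at h1 h2 h3 h4
    obtain ⟨a0, a2, a3, b1⟩ := (hkey _ (hfix _ (hv1 w) (hv2 w))).2 hc1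
    obtain ⟨a0', a2', a3', b1'⟩ := (hkey _ (hfix _ (hv1 w') (hv2 w'))).2 hc1
    have hv : vec w = vec w' := T.Φ.injective (v8_ext (a0.trans a0'.symm) h1 (a2.trans a2'.symm)
      (a3.trans a3'.symm) h2 (b1.trans b1'.symm) h3 h4)
    funext j
    fin_cases j
    · simpa [vec, o8] using congrArg (fun w : V8 F => w.1.1 1) hv
    · simpa [vec, o8] using congrArg (fun w : V8 F => w.1.1 2) hv
    · simpa [vec, o8] using congrArg (fun w : V8 F => w.1.1 3) hv
    · simpa [vec, o8] using congrArg (fun w : V8 F => w.1.2 2) hv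
    · simpa [vec, o8] using congrArg (fun w : V8 F => w.1.2 3) hv
  have hle := Fintype.card_le_of_injective em hem
  simp only [Fintype.card_fun, Fintype.card_fin] at hle
  exact absurd hle (not_le.2 (Nat.pow_lt_pow_right Fintype.one_lt_card (by norm_num)))

theorem gcl_notMem : gcl (F := F) p ∉ (psi (good_plus (F := F) p (m := 4) (by norm_num))).range := by
  rintro ⟨T, hT⟩
  have h : (C8 T)⁻¹ * gam p ∈ Cfsg.Inn (POm (Q8 F)) := QuotientGroup.eq.1 hT
  obtain ⟨z, hz⟩ := h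
  obtain ⟨g, rfl⟩ := QuotientGroup.mk_surjective z
  refine gam_not_semi p (T * SemiSim.ofOrth (g : Orth (Q8 F))) ?_
  have h' : gam p = C8 T * MulAut.conj (QuotientGroup.mk g : POm (Q8 F)) := by
    rw [hz, mul_inv_cancel_left]
  exact h'.trans ((congrArg (C8 T * ·) (SemiSim.conjHom_ofOrth_siegel _ _ g).symm).trans
    (map_mul (C8 (F := F)) _ _).symm)

theorem three_le_index {G : Type*} [Group G] [Finite G] (Γ : Subgroup G) {a : G}
    (ha : a * a * a = 1) (hn : a ∉ Γ) : 3 ≤ Γ.index := by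
  have hmem : a * a ∈ Γ → a ∈ Γ := fun h =>
    (Subgroup.inv_mem_iff Γ).1 (eq_inv_of_mul_eq_one_left ha ▸ h)
  have h1 : (QuotientGroup.mk 1 : G ⧸ Γ) ≠ QuotientGroup.mk a := fun h => hn (by
    rw [QuotientGroup.eq, inv_one, one_mul] at h; exact h)
  have h2 : (QuotientGroup.mk 1 : G ⧸ Γ) ≠ QuotientGroup.mk (a * a) := fun h => hn (hmem (by
    rw [QuotientGroup.eq, inv_one, one_mul] at h; exact h))
  have h3 : (QuotientGroup.mk a : G ⧸ Γ) ≠ QuotientGroup.mk (a * a) := fun h => hn (by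
    rw [QuotientGroup.eq, inv_mul_cancel_left] at h; exact h)
  have hinj : Function.Injective
      ![(QuotientGroup.mk 1 : G ⧸ Γ), QuotientGroup.mk a, QuotientGroup.mk (a * a)] := by
    intro i j h
    fin_cases i <;> fin_cases j <;> first
      | rfl | exact absurd h h1 | exact absurd h.symm h1 | exact absurd h h2
      | exact absurd h.symm h2 | exact absurd h h3 | exact absurd h.symm h3
  exact le_trans (by simp) (Nat.card_le_card_of_injective _ hinj)

theorem card_out_d4 (f : ℕ) (hF : Fintype.card F = p ^ f) :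
    Nat.card (Cfsg.Out (POm (Q8 F))) = 3 * (2 * Nat.gcd 4 (Nat.card F ^ 4 - 1) * f) := by
  haveI := finite_out_aux 4 (zeroKernel F)
  have h3 := le_antisymm (index_psi_range_le (F := F) p)
    (three_le_index _ (gcl_cube (F := F) p) (gcl_notMem (F := F) p))
  rw [← Subgroup.index_mul_card (psi (good_plus (F := F) p (m := 4) (by norm_num))).range, h3,
    card_psi_range_plus p f hF (by norm_num : 3 ≤ 4)]

set_option maxHeartbeats 3200000 in
/-- `Out(PΩ⁺_8(q))`, `q` even. -/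
theorem out_d4_even (f : ℕ) [CharP F 2] (hF : Fintype.card F = 2 ^ f) (hf : f ≠ 0) :
    Nonempty (Cfsg.Out (POm (Q8 F)) ≃* Equiv.Perm (Fin 3) × Multiplicative (ZMod f)) := by
  haveI : Fact (Nat.Prime 2) := ⟨Nat.prime_two⟩
  haveI := finite_out_aux 4 (zeroKernel F)
  have hm : 3 ≤ 4 := by norm_num
  obtain ⟨φ, hφ, hgen⟩ := exists_frobenius_gen (F := F) 2
  obtain ⟨x, hx⟩ : ∃ x, x = psi (good_plus (F := F) 2 hm) (fieldHom 4 φ) := ⟨_, rfl⟩
  obtain ⟨r, hr⟩ : ∃ r, r = psiO (good_plus (F := F) 2 hm) (refl (Q8 F) oone) := ⟨_, rfl⟩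
  have hxo : orderOf x = f := by rw [hx]; exact orderOf_psi_field 2 f hm hF hgen
  have hxr : Commute x r := by rw [hx, hr]; exact psi_field_commute 2 hm hφ _
  have hxg : Commute x (gcl (F := F) 2) := by rw [hx]; exact (gcl_field 2 φ).symm
  have hrr : r * r = 1 := by rw [hr, ← map_mul, refl_mul_self, map_one]
  have hrg : r * gcl (F := F) 2 * r⁻¹ = (gcl (F := F) 2)⁻¹ := by rw [hr]; exact gcl_kap 2
  have hg1 : gcl (F := F) 2 ≠ 1 := fun h => gcl_notMem (F := F) 2 (h ▸ one_mem _)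
  refine triality_perm_three (gcl_cube (F := F) 2) hg1 hrr hrg hxo hxg hxr ?_
  rw [card_out_d4 2 f hF]
  have hgcd : Nat.gcd 4 (Nat.card F ^ 4 - 1) = 1 := by
    rw [Nat.card_eq_fintype_card, hF, ← pow_mul]
    refine Nat.Coprime.pow_left 2 (Nat.coprime_two_left.2 ?_)
    exact Nat.Even.sub_odd Nat.one_le_two_pow
      ((Nat.even_pow).2 ⟨even_two, Nat.mul_ne_zero hf (by norm_num)⟩) odd_one
  rw [hgcd, show Nat.factorial 3 = 6 from rfl]
  omega

set_option maxHeartbeats 3200000 in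
/-- `Out(PΩ⁺_8(q))`, `q` odd. -/
theorem out_d4_odd (f : ℕ) (hF : Fintype.card F = p ^ f) (hp : p ≠ 2) :
    Nonempty (Cfsg.Out (POm (Q8 F)) ≃* Equiv.Perm (Fin 4) × Multiplicative (ZMod f)) := by
  haveI := finite_out_aux 4 (zeroKernel F)
  have hm : 3 ≤ 4 := by norm_num
  have hG := good_plus (F := F) p hm
  have hch : ringChar F ≠ 2 := by rwa [ringChar.eq F p]
  obtain ⟨φ, hφ, hgen⟩ := exists_frobenius_gen (F := F) p
  obtain ⟨c, hc⟩ := FiniteField.exists_nonsquare hch
  have hc0 : c ≠ 0 := fun h => hc (h ▸ IsSquare.zero)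
  obtain ⟨u, hu⟩ : ∃ u : V8 F, u = uvec 4 (by norm_num) c := ⟨_, rfl⟩
  have hQu : Q8 F u = c := by rw [hu, Q_uvec]
  have hu0 : Q8 F u ≠ 0 := by rw [hQu]; exact hc0
  have t := triple_refl_one hu0
  obtain ⟨g, hg⟩ : ∃ g, g = refl (Q8 F) u * refl (Q8 F) oone := ⟨_, rfl⟩
  rw [← hg] at t
  obtain ⟨x, hx⟩ : ∃ x, x = psi hG (fieldHom 4 φ) := ⟨_, rfl⟩
  obtain ⟨r, hr⟩ : ∃ r, r = psiO hG (refl (Q8 F) oone) := ⟨_, rfl⟩
  obtain ⟨z, hz⟩ : ∃ z, z = psiO hG g := ⟨_, rfl⟩
  obtain ⟨z', hz'⟩ : ∃ z', z' = psi hG (hat (lmulSemi u hu0)) := ⟨_, rfl⟩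
  obtain ⟨z'', hz''⟩ : ∃ z'', z'' = psi hG (hat (SemiSim.scal (Units.mk0 (Q8 F u) hu0)⁻¹ * rmulSemi u hu0)) :=
    ⟨_, rfl⟩
  obtain ⟨γ, hγ⟩ : ∃ γ, γ = gcl (F := F) p := ⟨_, rfl⟩
  have hxo : orderOf x = f := by rw [hx]; exact orderOf_psi_field p f hm hF hgen
  have hxr : Commute x r := by rw [hx, hr]; exact psi_field_commute p hm hφ _
  have hxz : Commute x z := by rw [hx, hz]; exact psi_field_commute p hm hφ _
  have hxg : Commute x γ := by rw [hx, hγ]; exact (gcl_field p φ).symm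
  have hrr : r * r = 1 := by rw [hr, ← map_mul, refl_mul_self, map_one]
  have hrg : r * γ * r⁻¹ = γ⁻¹ := by rw [hr, hγ]; exact gcl_kap p
  have hg3 : γ * γ * γ = 1 := by rw [hγ]; exact gcl_cube p
  have hg1 : γ ≠ 1 := fun h => gcl_notMem (F := F) p (hγ ▸ h ▸ one_mem _)
  have e1 : γ * z * γ⁻¹ = z' := by rw [hz, hz', hγ]; exact gcl_conj p t
  have e2 : γ * z' * γ⁻¹ = z'' := by
    rw [hz', hz'', hγ]
    have hs : ∀ d S, psi hG (SemiSim.scal d * S) = psi hG S := fun d S => by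
      rw [map_mul, psi_scal hG, one_mul]
    rw [← hs (Units.mk0 (SemiSim.scal (Units.mk0 (Q8 F u) hu0)⁻¹ * rmulSemi u hu0).s
      (SemiSim.scal (Units.mk0 (Q8 F u) hu0)⁻¹ * rmulSemi u hu0).s_ne) (hat (lmulSemi u hu0))]
    exact gcl_conj p t.next
  have hzz : z * z = 1 := by
    rw [hz, hg, map_mul]
    have hsq : ∀ v, psiO hG (refl (Q8 F) v) * psiO hG (refl (Q8 F) v) = 1 := fun v => by
      rw [← map_mul, refl_mul_self, map_one]
    have hco : Commute (psiO hG (refl (Q8 F) oone)) (psiO hG (refl (Q8 F) u)) :=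
      psiO_commute hG _ _
    rw [Commute.mul_mul_mul_comm hco, hsq, hsq, one_mul]
  have hrz : r * z * r⁻¹ = z := by
    rw [hr, hz, psiO_commute hG (refl _ oone) g, mul_inv_cancel_right]
  have e3 : z' * z'' = z ∧ z'' * z' = z := by
    have key := hat_lmul_rmul hu0 t
    obtain ⟨L, hL⟩ : ∃ L, L = hat (lmulSemi u hu0) := ⟨_, rfl⟩
    obtain ⟨R, hR⟩ : ∃ R, R = hat (rmulSemi u hu0) := ⟨_, rfl⟩
    rw [← hL, ← hR] at key
    have hz''2 : z'' = psi hG R := by
      rw [hz'', map_mul hat, hat_scal, ← hR]; exact psi_scal_mul p hG _ _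
    have hzk : psiO hG (kap F * g * kap F) = z := by
      rw [map_mul, map_mul, psiO_kap, ← hr, ← hz]
      rwa [inv_eq_of_mul_eq_one_right hrr] at hrz
    rw [hz''2, hz', ← hL, ← hzk]
    obtain ⟨c', k1, k2⟩ := key
    exact ⟨psi_eq_of_scal p hG c' L R k1, psi_eq_of_scal p hG c' R L k2⟩
  -- the Klein four group
  have hsign : ∀ (S : SemiSim (Q8 F)), S.s = c → ∀ h, psi hG S ≠ psiO hG h := by
    intro S hS h he
    have h1 : psi hG (S * (SemiSim.ofOrth h)⁻¹) = 1 := by
      rw [map_mul, map_inv, he]; exact mul_inv_cancel _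
    have h2 := isSquare_of_psi_eq_one hG h1
    rw [show (S * (SemiSim.ofOrth h)⁻¹).s = S.s * S.σ ((1 : F ≃+* F).symm 1)⁻¹ from rfl] at h2
    simp [hS] at h2
    exact hc h2
  have hz'ne : ∀ h, z' ≠ psiO hG h := by
    rw [hz']; exact hsign _ (by rw [hat_s]; exact hQu)
  have hz'1 : z' ≠ 1 := fun h => hz'ne 1 (by rw [h, map_one])
  have hz'z : z' ≠ z := fun h => hz'ne g (h.trans hz)
  refine klein_perm_four hg3 hg1 hrr hrg hzz e1 e2 e3 hrz hz'1 hz'z hxo hxg hxr hxz ?_
  rw [card_out_d4 p f hF, show Nat.factorial 4 = 24 from rfl]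
  have hgcd : Nat.gcd 4 (Nat.card F ^ 4 - 1) ≤ 4 := Nat.le_of_dvd (by norm_num) (Nat.gcd_dvd_left _ _)
  calc 3 * (2 * Nat.gcd 4 (Nat.card F ^ 4 - 1) * f) ≤ 3 * (2 * 4 * f) := by gcongr
    _ = 24 * f := by ring

end CfsgLib.AutPOmega
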