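import Mathlib
import Cfsg.Agent.Lib.AutPOmega.OutD4

/-!
The outer automorphism groups of the plus type orthogonal groups in the standard coordinates.
-/

set_option autoImplicit false
set_option maxHeartbeats 1600000
set_option synthInstance.maxHeartbeats 400000

namespace CfsgLib.AutPOmega

open QuadraticMap Module CfsgLib.Classical.Quad

theorem gcd_plus_odd {q : ℕ} (t m : ℕ) (hq : q = 2 * t + 1) :
    Nat.gcd 4 (q ^ m - 1) = if Even (m * t) then 4 else 2 := by
  subst hq
  have h1 : 1 ≤ (2 * t + 1) ^ m := Nat.one_le_pow _ _ (by omega)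
  have hmod : (2 * t + 1) ^ m % 4 = if Even (m * t) then 1 else 3 := by
    rcases Nat.even_or_odd t with hte | hto
    · rw [if_pos (hte.mul_left m)]
      obtain ⟨u, hu⟩ := hte
      rw [Nat.pow_mod, show (2 * t + 1) % 4 = 1 by omega, one_pow]
      rfl
    · obtain ⟨u, hu⟩ := hto
      rw [Nat.pow_mod, show (2 * t + 1) % 4 = 3 by omega]
      rcases Nat.even_or_odd m with hme | hmo
      · rw [if_pos (hme.mul_right t)]
        obtain ⟨v, rfl⟩ := hme
        rw [← two_mul, pow_mul, Nat.pow_mod]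
        simp
      · rw [if_neg (Nat.not_even_iff_odd.2 (hmo.mul ⟨u, hu⟩))]
        obtain ⟨v, rfl⟩ := hmo
        rw [pow_succ, pow_mul, Nat.mul_mod, Nat.pow_mod]
        simp
  rw [Nat.gcd_rec]
  split_ifs with he
  · rw [if_pos he] at hmod
    rw [show ((2 * t + 1) ^ m - 1) % 4 = 0 by omega]
    rfl
  · rw [if_neg he] at hmod
    rw [show ((2 * t + 1) ^ m - 1) % 4 = 2 by omega]
    rfl

variable {F : Type*} [Field F] [Fintype F] (p f : ℕ) [Fact p.Prime] [CharP F p]

/-- Transport to the split octonion model. -/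
theorem nonempty_out_d4 {G : Type*} [Mul G]
    (h : Nonempty (Cfsg.Out (POm (Q8 F)) ≃* G)) :
    Nonempty (Cfsg.Out (Cfsg.POmega F (Cfsg.quadFormPlus 4 F)) ≃* G) := by
  obtain ⟨i⟩ := h
  exact ⟨(outEquiv (pomegaEquiv (plusEquiv 4 F) (plusEquiv_spec 4)
    (ndPolar_hypForm ndPolar_zeroKernel 4) (frame (zeroKernel F) (by norm_num : 3 ≤ 4)))).trans i⟩

theorem card_aut_plus (hF : Fintype.card F = p ^ f) (m : ℕ) (hm : 4 ≤ m) :
    Nat.card (MulAut (Cfsg.POmega F (Cfsg.quadFormPlus m F))) =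
      (if m = 4 then 3 else 1) * (2 * Nat.gcd 4 (Nat.card F ^ m - 1) * f) *
        Nat.card (Cfsg.POmega F (Cfsg.quadFormPlus m F)) := by
  have hm3 : 3 ≤ m := by omega
  have hG := good_plus (F := F) p hm3
  have e := pomegaEquiv (plusEquiv m F) (plusEquiv_spec m) (ndPolar_hypForm hG.hR m)
    (frame (zeroKernel F) hm3)
  rw [card_mulAut_congr e, Nat.card_congr e.toEquiv, ← card_out_mul hG]
  refine congrArg (· * _) ?_
  rcases eq_or_lt_of_le hm with rfl | hm5
  · rw [if_pos rfl]
    exact card_out_d4 p f hF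
  · rw [if_neg (by omega), one_mul, ← card_psi_range_plus p f hF hm3,
      MonoidHom.range_eq_top.2 (psi_surjective hG (clawHyp_of_five_le _ hm5)), Subgroup.card_top]

end CfsgLib.AutPOmega
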